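import Mathlib
import Groth.Prelude.Def_Wider

/-! Artinian modules: Melkersson's criterion and the finitely many bad primes. -/

namespace Groth.Agent.LocCohLib

universe u v

variable {R : Type u} [CommRing R] {M : Type v} [AddCommGroup M] [Module R M]

/-- Submodules of an `a`-torsion module are determined by their socle layers. -/
theorem eq_of_layers (a : R) (hM : ∀ x : M, ∃ n : ℕ, a ^ n • x = 0) (N N' : Submodule R M) (hle : N' ≤ N)
    (h : ∀ (i : ℕ), ∀ x ∈ N, a ^ (i + 1) • x = 0 → ∃ y ∈ N', a ^ (i + 1) • y = 0 ∧ a ^ i • x = a ^ i • y) :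
    N = N' := by
  refine le_antisymm (fun x hx => ?_) hle
  obtain ⟨n, hn⟩ := hM x
  induction n generalizing x with
  | zero => rw [pow_zero, one_smul] at hn; rw [hn]; exact zero_mem _
  | succ n ih =>
    obtain ⟨y, hy, -, hxy⟩ := h n x hx hn
    have : x - y ∈ N' := ih (x - y) (sub_mem hx (hle hy)) (by rw [smul_sub, hxy, sub_self])
    simpa using add_mem this hy

/-- An `a`-torsion module with Artinian `a`-socle is Artinian. -/
theorem isArtinian_of_torsion_single (a : R) (hM : ∀ x : M, ∃ n : ℕ, a ^ n • x = 0)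
    [hA : IsArtinian R (LinearMap.ker (LinearMap.lsmul R M a))] : IsArtinian R M := by
  rw [← monotone_stabilizes_iff_artinian]
  intro f
  let K := LinearMap.ker (LinearMap.lsmul R M a)
  let N : ℕ → Submodule R M := fun j => OrderDual.ofDual (f j)
  have hN : ∀ i j, i ≤ j → N j ≤ N i := fun i j h => f.monotone h
  let L : ℕ → ℕ → Submodule R K := fun i j =>
    (Submodule.map (LinearMap.lsmul R M (a ^ i)) (N j ⊓ LinearMap.ker (LinearMap.lsmul R M (a ^ (i + 1))))).comap
      K.subtype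
  have hLj : ∀ i j j', j ≤ j' → L i j' ≤ L i j := fun i j j' h =>
    Submodule.comap_mono (Submodule.map_mono (inf_le_inf_right _ (hN j j' h)))
  have hLi : ∀ j i i', i ≤ i' → L i' j ≤ L i j := by
    intro j i i' h x hx
    obtain ⟨y, ⟨hy, hy'⟩, hyx⟩ := hx
    obtain ⟨d, rfl⟩ := Nat.exists_eq_add_of_le h
    refine ⟨a ^ d • y, ⟨Submodule.smul_mem _ _ hy, ?_⟩, ?_⟩
    · change a ^ (i + 1) • a ^ d • y = 0
      rw [smul_smul, ← pow_add, show i + 1 + d = i + d + 1 by omega]
      exact hy'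
    · change a ^ i • a ^ d • y = _
      rw [smul_smul, ← pow_add]
      exact hyx
  obtain ⟨m, ⟨⟨i₀, j₀⟩, rfl⟩, hmin⟩ := IsArtinian.set_has_minimal
    (Set.range fun p : ℕ × ℕ => L p.1 p.2) (Set.range_nonempty _)
  have hrow : ∀ i, ∃ j₁, ∀ j, j₁ ≤ j → L i j₁ = L i j := fun i =>
    IsArtinian.monotone_stabilizes ⟨fun j => OrderDual.toDual (L i j), fun j j' h => hLj i j j' h⟩
  choose j₁ hj₁ using hrow
  let J := max j₀ ((Finset.range i₀).sup j₁)
  refine ⟨J, fun j hj => ?_⟩
  have hL : ∀ i, L i J = L i j := by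
    intro i
    by_cases hi : i < i₀
    · have hJ : j₁ i ≤ J := le_max_of_le_right (Finset.le_sup (Finset.mem_range.mpr hi))
      exact (hj₁ i J hJ).symm.trans (hj₁ i j (hJ.trans hj))
    · have key : ∀ j', j₀ ≤ j' → L i j' = L i₀ j₀ := fun j' hj' =>
        eq_of_le_of_not_lt ((hLi j' i₀ i (not_lt.mp hi)).trans (hLj i₀ j₀ j' hj'))
          (hmin _ ⟨(i, j'), rfl⟩)
      rw [key J (le_max_left _ _), key j ((le_max_left _ _).trans hj)]
  refine congrArg OrderDual.toDual (eq_of_layers a hM (N J) (N j) (hN J j hj) fun i x hx hx' => ?_)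
  have hxK : a ^ i • x ∈ K := by
    change a • a ^ i • x = 0
    rw [smul_smul, ← pow_succ']
    exact hx'
  have hmem : (⟨_, hxK⟩ : K) ∈ L i J := ⟨x, ⟨hx, hx'⟩, rfl⟩
  rw [hL i] at hmem
  obtain ⟨y, ⟨hy, hy'⟩, hyx⟩ := hmem
  exact ⟨y, hy, hy', hyx.symm⟩

/-- Melkersson's criterion. -/
theorem isArtinian_of_torsion (s : Finset R) : ∀ (M : Type v) [AddCommGroup M] [Module R M],
    (∀ x : M, ∀ a ∈ s, ∃ n : ℕ, a ^ n • x = 0) →
    IsArtinian R (Submodule.torsionBySet R M (s : Set R)) → IsArtinian R M := by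
  classical
  induction s using Finset.induction_on with
  | empty =>
    intro M _ _ _ h
    haveI : IsArtinian R (Submodule.torsionBySet R M ((∅ : Finset R) : Set R)) := h
    have htop : Submodule.torsionBySet R M ((∅ : Finset R) : Set R) = ⊤ := by
      ext x; simp [Submodule.mem_torsionBySet_iff]
    exact isArtinian_of_surjective _ (Submodule.torsionBySet R M ((∅ : Finset R) : Set R)).subtype
      fun x => ⟨⟨x, htop ▸ Submodule.mem_top⟩, rfl⟩
  | insert a s ha ih =>
    intro M _ _ hM h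
    have hN : IsArtinian R (LinearMap.ker (LinearMap.lsmul R M a)) := by
      refine ih _ (fun x b hb => ?_) ?_
      · obtain ⟨n, hn⟩ := hM x b (Finset.mem_insert_of_mem hb)
        exact ⟨n, Subtype.ext hn⟩
      · let g : Submodule.torsionBySet R (LinearMap.ker (LinearMap.lsmul R M a)) (s : Set R) →ₗ[R]
            Submodule.torsionBySet R M ((insert a s : Finset R) : Set R) :=
          LinearMap.codRestrict _ ((LinearMap.ker (LinearMap.lsmul R M a)).subtype ∘ₗ Submodule.subtype _)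
            fun x => by
              rw [Submodule.mem_torsionBySet_iff]
              rintro ⟨b, hb⟩
              rcases Finset.mem_insert.mp hb with rfl | hb
              · exact x.1.2
              · exact congrArg Subtype.val ((Submodule.mem_torsionBySet_iff _ _).mp x.2 ⟨b, hb⟩)
        exact isArtinian_of_injective g fun x y hxy =>
          Subtype.ext (Subtype.ext (congrArg Subtype.val hxy :))
    exact isArtinian_of_torsion_single a (fun x => hM x a (Finset.mem_insert_self a s))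

theorem isArtinian_of_isPowerTorsion (I : Ideal R) (hI : I.FG) (hM : LocCoh.IsPowerTorsion I M)
    (hA : IsArtinian R (LocCoh.torsionBy I M)) : IsArtinian R M := by
  obtain ⟨s, rfl⟩ := hI
  refine isArtinian_of_torsion s M (fun x a ha => ?_) ?_
  · obtain ⟨n, hn⟩ := hM x
    exact ⟨n, hn _ (Ideal.pow_mem_pow (Ideal.subset_span ha) n)⟩
  · have h : Submodule.torsionBySet R M (s : Set R) = LocCoh.torsionBy (Ideal.span (s : Set R)) M :=
      Submodule.torsionBySet_eq_torsionBySet_span _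
    rw [h]; exact hA

/-- An Artinian module killed by a power of a maximal ideal is finitely generated. -/
theorem finite_of_pow_annihilates (𝔪 : Ideal R) [𝔪.IsMaximal] : ∀ (N : ℕ) (A : Type v) [AddCommGroup A]
    [Module R A] [IsArtinian R A], (∀ a ∈ 𝔪 ^ N, ∀ x : A, a • x = 0) → Module.Finite R A := by
  intro N
  induction N with
  | zero =>
    intro A _ _ _ h
    haveI : Subsingleton A := subsingleton_of_forall_eq 0 fun x => by
      simpa using h 1 (by simp) x
    infer_instance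
  | succ N ih =>
    intro A _ _ _ h
    letI : Field (R ⧸ 𝔪) := Ideal.Quotient.field 𝔪
    let B : Submodule R A := 𝔪 • ⊤
    have hB : Module.Finite R B := ih B fun a ha x => by
      obtain ⟨x, hx⟩ := x
      refine Subtype.ext ?_
      change a • x = 0
      induction hx using Submodule.smul_induction_on' with
      | smul r hr z _ => rw [smul_smul]; exact h _ (by rw [pow_succ]; exact Ideal.mul_mem_mul ha hr) z
      | add y _ z _ hy hz => rw [smul_add, hy, hz, add_zero]
    haveI : IsArtinian (R ⧸ 𝔪) (A ⧸ B) := isArtinian_of_tower R inferInstance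
    haveI : IsNoetherian (R ⧸ 𝔪) (A ⧸ B) := IsSemiprimaryRing.isNoetherian_iff_isArtinian.mpr inferInstance
    haveI : Module.Finite R (A ⧸ B) := Module.Finite.trans (R ⧸ 𝔪) (A ⧸ B)
    exact Module.Finite.of_submodule_quotient B

/-- In an Artinian module there are finitely many primes outside of which multiplication is
surjective, up to a summand killed by a power of the given maximal ideal. -/
theorem exists_bad_primes (𝔪 : Ideal R) (A : Type v) [AddCommGroup A] [Module R A] [IsArtinian R A]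
    (h𝔪 : 𝔪.FG) :
    ∃ (P : Finset (Ideal R)) (N : ℕ), (∀ p ∈ P, p.IsPrime ∧ ¬ 𝔪 ≤ p) ∧
      ∀ x : R, (∀ p ∈ P, x ∉ p) → ∀ (c : ℕ) (z : A), ∀ a ∈ 𝔪 ^ N, ∃ w, x ^ c • w = a • z := by
  classical
  let Good : Submodule R A → Prop := fun B => ∃ (P : Finset (Ideal R)) (N : ℕ),
    (∀ p ∈ P, p.IsPrime ∧ ¬ 𝔪 ≤ p) ∧
    ∀ x : R, (∀ p ∈ P, x ∉ p) → ∀ (c : ℕ), ∀ z ∈ B, ∀ a ∈ 𝔪 ^ N, ∃ w ∈ B, x ^ c • w = a • z
  suffices h : Good ⊤ by
    obtain ⟨P, N, h1, h2⟩ := h
    exact ⟨P, N, h1, fun x hx c z a ha => let ⟨w, _, hw⟩ := h2 x hx c z trivial a ha; ⟨w, hw⟩⟩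
  by_contra htop
  obtain ⟨B, hB, hmin⟩ := IsArtinian.set_has_minimal {B : Submodule R A | ¬ Good B} ⟨⊤, htop⟩
  apply hB
  by_cases hred : ∃ B₁ B₂ : Submodule R A, B₁ < B ∧ B₂ < B ∧ B₁ ⊔ B₂ = B
  · obtain ⟨B₁, B₂, h₁, h₂, rfl⟩ := hred
    obtain ⟨P₁, N₁, hP₁, hs₁⟩ := not_not.mp fun h => hmin B₁ h h₁
    obtain ⟨P₂, N₂, hP₂, hs₂⟩ := not_not.mp fun h => hmin B₂ h h₂
    refine ⟨P₁ ∪ P₂, N₁ + N₂, fun p hp => (Finset.mem_union.mp hp).elim (hP₁ p) (hP₂ p), ?_⟩
    intro x hx c z hz a ha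
    obtain ⟨z₁, hz₁, z₂, hz₂, rfl⟩ := Submodule.mem_sup.mp hz
    obtain ⟨w₁, hw₁, e₁⟩ := hs₁ x (fun p hp => hx p (Finset.mem_union_left _ hp)) c z₁ hz₁ a
      (Ideal.pow_le_pow_right (Nat.le_add_right _ _) ha)
    obtain ⟨w₂, hw₂, e₂⟩ := hs₂ x (fun p hp => hx p (Finset.mem_union_right _ hp)) c z₂ hz₂ a
      (Ideal.pow_le_pow_right (Nat.le_add_left _ _) ha)
    exact ⟨w₁ + w₂, add_mem (Submodule.mem_sup_left hw₁) (Submodule.mem_sup_right hw₂),
      by rw [smul_add, smul_add, e₁, e₂]⟩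
  · -- every endomorphism by a scalar is nilpotent or surjective
    let p : Ideal R := Ideal.radical (Module.annihilator R B)
    have hann : ∀ r : R, r ∈ p ↔ ∃ n, ∀ z ∈ B, r ^ n • z = 0 := fun r =>
      ⟨fun ⟨n, hn⟩ => ⟨n, fun z hz => congrArg Subtype.val (Module.mem_annihilator.mp hn ⟨z, hz⟩)⟩,
        fun ⟨n, hn⟩ => ⟨n, Module.mem_annihilator.mpr fun z => Subtype.ext (hn z.1 z.2)⟩⟩
    have hsurj : ∀ r : R, r ∉ p → ∀ c, ∀ z ∈ B, ∃ w ∈ B, r ^ c • w = z := by
      intro r hr c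
      let f : ℕ →o (Submodule R A)ᵒᵈ :=
        ⟨fun n => OrderDual.toDual (Submodule.map (LinearMap.lsmul R A (r ^ n)) B), fun m n hmn => by
          rintro _ ⟨z, hz, rfl⟩
          obtain ⟨d, rfl⟩ := Nat.exists_eq_add_of_le hmn
          refine ⟨r ^ d • z, Submodule.smul_mem _ _ hz, ?_⟩
          change r ^ m • r ^ d • z = r ^ (m + d) • z
          rw [smul_smul, ← pow_add]⟩
      obtain ⟨n, hn⟩ := IsArtinian.monotone_stabilizes f
      have hstab : ∀ z ∈ B, ∀ m, n ≤ m → ∃ w ∈ B, r ^ m • w = r ^ n • z := fun z hz m hm => by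
        have h1 : r ^ n • z ∈ Submodule.map (LinearMap.lsmul R A (r ^ m)) B :=
          (congrArg OrderDual.ofDual (hn m hm)).le ⟨z, hz, rfl⟩
        exact h1
      let B₁ := B ⊓ LinearMap.ker (LinearMap.lsmul R A (r ^ n))
      let B₂ := Submodule.map (LinearMap.lsmul R A (r ^ n)) B
      have h2le : B₂ ≤ B := by rintro _ ⟨z, hz, rfl⟩; exact Submodule.smul_mem _ _ hz
      have hsup : B₁ ⊔ B₂ = B := by
        refine le_antisymm (sup_le inf_le_left h2le) fun z hz => ?_
        obtain ⟨w, hw, e⟩ := hstab z hz (n + n) (Nat.le_add_right _ _)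
        refine Submodule.mem_sup.mpr ⟨z - r ^ n • w, ⟨sub_mem hz (Submodule.smul_mem _ _ hw), ?_⟩,
          r ^ n • w, ⟨w, hw, rfl⟩, sub_add_cancel _ _⟩
        change r ^ n • (z - r ^ n • w) = 0
        rw [smul_sub, smul_smul, ← pow_add, e, sub_self]
      have h1 : B₁ ≠ B := fun h => hr ((hann r).mpr ⟨n, fun z hz => (h ▸ hz : z ∈ B₁).2⟩)
      have h2 : B₂ = B := by
        by_contra h
        exact hred ⟨B₁, B₂, lt_of_le_of_ne inf_le_left h1, lt_of_le_of_ne h2le h, hsup⟩
      intro z hz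
      obtain ⟨z', hz', rfl⟩ : z ∈ B₂ := h2.symm ▸ hz
      obtain ⟨w, hw, e⟩ := hstab z' hz' (n + c) (Nat.le_add_right _ _)
      exact ⟨r ^ n • w, Submodule.smul_mem _ _ hw, by
        rw [smul_smul, ← pow_add, add_comm, e]; rfl⟩
    by_cases hm : 𝔪 ≤ p
    · obtain ⟨k, hk⟩ := Ideal.exists_pow_le_of_le_radical_of_fg hm h𝔪
      refine ⟨∅, k, by simp, fun x _ c z hz a ha => ⟨0, zero_mem _, ?_⟩⟩
      rw [smul_zero]
      exact (congrArg Subtype.val (Module.mem_annihilator.mp (hk ha) ⟨z, hz⟩)).symm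
    · have hp : p.IsPrime := by
        refine ⟨fun h => hm (h ▸ le_top), fun {r s} hrs => ?_⟩
        by_contra hcon
        push Not at hcon
        obtain ⟨n, hn⟩ := (hann _).mp hrs
        refine hcon.1 ((hann r).mpr ⟨n, fun z hz => ?_⟩)
        obtain ⟨w, hw, rfl⟩ := hsurj s hcon.2 n z hz
        rw [smul_smul, ← mul_pow]
        exact hn w hw
      refine ⟨{p}, 0, fun q hq => Finset.mem_singleton.mp hq ▸ ⟨hp, hm⟩, fun x hx c z hz a _ => ?_⟩
      exact hsurj x (hx p (Finset.mem_singleton_self p)) c (a • z) (Submodule.smul_mem _ _ hz)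

end Groth.Agent.LocCohLib
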