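import Mathlib

/-! Elementwise handling of the homology of complexes of modules. -/

open CategoryTheory Limits

namespace Groth.Agent.LocCohLib

universe v u

variable {R : Type u} [CommRing R] {ι : Type*} {c : ComplexShape ι}
  (K L : HomologicalComplex (ModuleCat.{v} R) c) (i : ι)

/-- The cycles in degree `i` as a submodule. -/
noncomputable abbrev Zmod : Submodule R (K.X i) := LinearMap.ker (K.d i (c.next i)).hom

/-- The class of a cycle in homology. -/
noncomputable def cls : Zmod K i →ₗ[R] K.homology i :=
  (K.liftCycles (ModuleCat.ofHom (Zmod K i).subtype) (c.next i) rfl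
    (by ext x; exact x.2) ≫ K.homologyπ i).hom

lemma iCycles_injective : Function.Injective (K.iCycles i) :=
  (ModuleCat.mono_iff_injective _).mp inferInstance

lemma iCycles_liftCycles (z : Zmod K i) :
    (K.iCycles i) ((K.liftCycles (ModuleCat.ofHom (Zmod K i).subtype) (c.next i) rfl
      (by ext x; exact x.2)).hom z) = (z : K.X i) :=
  congr($(K.liftCycles_i (ModuleCat.ofHom (Zmod K i).subtype) (c.next i) rfl
      (by ext x; exact x.2)).hom z)

lemma cls_surjective : Function.Surjective (cls K i) := by
  intro h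
  obtain ⟨y, rfl⟩ := (ModuleCat.epi_iff_surjective (K.homologyπ i)).mp inferInstance h
  have hz : (K.iCycles i) y ∈ Zmod K i := congr($(K.iCycles_d i (c.next i)).hom y)
  refine ⟨⟨_, hz⟩, ?_⟩
  refine congrArg (K.homologyπ i).hom ?_
  apply iCycles_injective K i
  exact iCycles_liftCycles K i ⟨_, hz⟩

lemma cls_eq_zero_iff (z : Zmod K i) :
    cls K i z = 0 ↔ ∃ w : K.X (c.prev i), (K.d (c.prev i) i).hom w = (z : K.X i) := by
  have hex : (ShortComplex.mk _ _ (K.toCycles_comp_homologyπ (c.prev i) i)).Exact :=
    ShortComplex.exact_of_g_is_cokernel _ (K.homologyIsCokernel (c.prev i) i rfl)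
  rw [ShortComplex.moduleCat_exact_iff] at hex
  constructor
  · intro h
    obtain ⟨w, hw⟩ := hex _ h
    refine ⟨w, ?_⟩
    rw [← iCycles_liftCycles K i z]
    refine Eq.trans ?_ (congrArg (K.iCycles i).hom hw)
    exact congr($(K.toCycles_i (c.prev i) i).hom w).symm
  · rintro ⟨w, hw⟩
    have : (K.toCycles (c.prev i) i).hom w =
        (K.liftCycles (ModuleCat.ofHom (Zmod K i).subtype) (c.next i) rfl
          (by ext x; exact x.2)).hom z := by
      apply iCycles_injective K i
      rw [iCycles_liftCycles]
      exact (congr($(K.toCycles_i (c.prev i) i).hom w)).trans hw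
    refine (congrArg (K.homologyπ i).hom this.symm).trans ?_
    exact congr($(K.toCycles_comp_homologyπ (c.prev i) i).hom w)

variable {K L}

/-- The image of a cycle under a chain map. -/
noncomputable def mapZ (φ : K ⟶ L) (z : Zmod K i) : Zmod L i :=
  ⟨(φ.f i).hom z, by
    have h := congr($(φ.comm i (c.next i)).hom (z : K.X i))
    rw [LinearMap.mem_ker]
    refine h.trans ?_
    change (φ.f _).hom ((K.d i (c.next i)).hom z) = 0
    rw [LinearMap.mem_ker.mp z.2, map_zero]⟩

@[simp] lemma mapZ_coe (φ : K ⟶ L) (z : Zmod K i) : (mapZ i φ z : L.X i) = (φ.f i).hom z := rfl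

lemma homologyMap_cls (φ : K ⟶ L) (z : Zmod K i) :
    (HomologicalComplex.homologyMap φ i).hom (cls K i z) = cls L i (mapZ i φ z) := by
  refine (congr($(HomologicalComplex.homologyπ_naturality φ i).hom _)).trans ?_
  refine congrArg (L.homologyπ i).hom ?_
  apply iCycles_injective L i
  refine Eq.trans ?_ (iCycles_liftCycles L i (mapZ i φ z)).symm
  refine (congr($(HomologicalComplex.cyclesMap_i φ i).hom _)).trans ?_
  exact congrArg (φ.f i).hom (iCycles_liftCycles K i z)

end Groth.Agent.LocCohLib

namespace Groth.Agent.LocCohLib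

open CategoryTheory

variable {R : Type*} [CommRing R] {ι : Type*} {c : ComplexShape ι}
  (K : HomologicalComplex (ModuleCat R) c) {i : ι}

lemma cls_eq_zero_iff' {j : ι} (hj : c.prev i = j) (z : Zmod K i) :
    cls K i z = 0 ↔ ∃ w : K.X j, (K.d j i).hom w = (z : K.X i) := by
  subst hj
  exact cls_eq_zero_iff K i z

end Groth.Agent.LocCohLib
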