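import Mathlib
import Groth.Agent.LocCohLib.Cls

/-! The derived-functor `Ext` of `Mathlib.CategoryTheory.Abelian.Ext` agrees with `Abelian.Ext`,
naturally in both variables. -/

open CategoryTheory Limits Opposite

namespace Groth.Agent.LocCohLib

universe u

variable {R : Type u} [CommRing R]

/-- The old `Ext`. -/
noncomputable abbrev OldE (X Y : ModuleCat.{u} R) (n : ℕ) : ModuleCat.{u} R :=
  ((_root_.Ext R (ModuleCat.{u} R) n).obj (op X)).obj Y

/-- The functor whose left derived functors define the old `Ext`. -/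
noncomputable abbrev homTo (Y : ModuleCat.{u} R) : ModuleCat.{u} R ⥤ (ModuleCat.{u} R)ᵒᵖ :=
  ((linearYoneda R (ModuleCat.{u} R)).obj Y).rightOp

variable {X X' Y Y' : ModuleCat.{u} R}

/-- `Hom` complex of a projective resolution. -/
noncomputable abbrev HomCx (P : ProjectiveResolution X) (Y : ModuleCat.{u} R) :
    CochainComplex (ModuleCat.{u} R) ℕ :=
  P.complex.linearYonedaObj R Y

/-- Cocycles `P_n ⟶ Y`. -/
noncomputable def cocy (P : ProjectiveResolution X) (Y : ModuleCat.{u} R) (n : ℕ) :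
    Submodule R (P.complex.X n ⟶ Y) :=
  LinearMap.ker (Linear.leftComp R Y (P.complex.d (n + 1) n))

lemma mem_cocy {P : ProjectiveResolution X} {n : ℕ} {f : P.complex.X n ⟶ Y} :
    f ∈ cocy P Y n ↔ P.complex.d (n + 1) n ≫ f = 0 := Iff.rfl

/-- A cocycle as a cycle of the `Hom` complex. -/
noncomputable def cocyToZ (P : ProjectiveResolution X) (Y : ModuleCat.{u} R) (n : ℕ) :
    cocy P Y n →ₗ[R] Zmod (HomCx P Y) n where
  toFun f := ⟨f.1, by
    rw [LinearMap.mem_ker, CochainComplex.next]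
    exact f.2⟩
  map_add' _ _ := rfl
  map_smul' _ _ := rfl

lemma cocyToZ_surjective (P : ProjectiveResolution X) (Y : ModuleCat.{u} R) (n : ℕ) :
    Function.Surjective (cocyToZ P Y n) := by
  rintro ⟨z, hz⟩
  rw [LinearMap.mem_ker, CochainComplex.next] at hz
  exact ⟨⟨z, hz⟩, rfl⟩

/-- The class in the old `Ext` of a cocycle. -/
noncomputable def oldMk (P : ProjectiveResolution X) (Y : ModuleCat.{u} R) (n : ℕ) :
    cocy P Y n →ₗ[R] OldE X Y n :=
  (P.isoExt n Y).inv.hom ∘ₗ cls (HomCx P Y) n ∘ₗ cocyToZ P Y n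

lemma oldMk_surjective (P : ProjectiveResolution X) (Y : ModuleCat.{u} R) (n : ℕ) :
    Function.Surjective (oldMk P Y n) :=
  ((P.isoExt n Y).toLinearEquiv.symm.surjective.comp (cls_surjective _ _)).comp
    (cocyToZ_surjective P Y n)

lemma oldMk_eq_zero_iff (P : ProjectiveResolution X) (Y : ModuleCat.{u} R) (p : ℕ)
    (f : cocy P Y (p + 1)) :
    oldMk P Y (p + 1) f = 0 ↔ ∃ g : P.complex.X p ⟶ Y, P.complex.d (p + 1) p ≫ g = f.1 := by
  have h0 : oldMk P Y (p + 1) f = 0 ↔ cls (HomCx P Y) (p + 1) (cocyToZ P Y _ f) = 0 :=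
    (P.isoExt (p + 1) Y).toLinearEquiv.symm.map_eq_zero_iff
  rw [h0, cls_eq_zero_iff' _ (j := p) (by simp)]
  rfl

lemma oldMk_zero_injective (P : ProjectiveResolution X) (Y : ModuleCat.{u} R) :
    Function.Injective (oldMk P Y 0) := by
  refine (injective_iff_map_eq_zero _).mpr fun f hf => ?_
  have h0 : cls (HomCx P Y) 0 (cocyToZ P Y 0 f) = 0 :=
    (P.isoExt 0 Y).toLinearEquiv.symm.map_eq_zero_iff.mp hf
  rw [cls_eq_zero_iff' _ (j := 0) (by simp)] at h0
  obtain ⟨w, hw⟩ := h0
  rw [HomologicalComplex.shape _ 0 0 (by simp)] at hw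
  exact Subtype.ext hw.symm

lemma homologyUnop_hom_naturality {ι : Type*} {c : ComplexShape ι}
    {K L : HomologicalComplex (ModuleCat.{u} R)ᵒᵖ c} (φ : K ⟶ L) (i : ι) :
    HomologicalComplex.homologyMap ((HomologicalComplex.unopFunctor _ _).map φ.op) i ≫
      (K.homologyUnop i).hom =
    (L.homologyUnop i).hom ≫ (HomologicalComplex.homologyMap φ i).unop := by
  apply Quiver.Hom.op_inj
  exact (HomologicalComplex.homologyOp_hom_naturality
    ((HomologicalComplex.unopFunctor _ _).map φ.op) i).symm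

/-- Precomposition of a cocycle with a map of resolutions. -/
noncomputable def cocyPre {P : ProjectiveResolution X} {P' : ProjectiveResolution X'}
    (φ : P.complex ⟶ P'.complex) (Y : ModuleCat.{u} R) (n : ℕ) :
    cocy P' Y n →ₗ[R] cocy P Y n :=
  (Linear.leftComp R Y (φ.f n)).restrict fun f hf => by
    change P.complex.d (n + 1) n ≫ φ.f n ≫ f = 0
    rw [← φ.comm_assoc, mem_cocy.mp hf, comp_zero]

/-- Postcomposition of a cocycle. -/
noncomputable def cocyPost (P : ProjectiveResolution X) (g : Y ⟶ Y') (n : ℕ) :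
    cocy P Y n →ₗ[R] cocy P Y' n :=
  (Linear.rightComp R (P.complex.X n) g).restrict fun f hf => by
    change P.complex.d (n + 1) n ≫ f ≫ g = 0
    rw [← Category.assoc, mem_cocy.mp hf, zero_comp]

@[simp] lemma cocyPre_coe {P : ProjectiveResolution X} {P' : ProjectiveResolution X'}
    (φ : P.complex ⟶ P'.complex) (n : ℕ) (f : cocy P' Y n) :
    (cocyPre φ Y n f).1 = φ.f n ≫ f.1 := rfl

@[simp] lemma cocyPost_coe (P : ProjectiveResolution X) (g : Y ⟶ Y') (n : ℕ) (f : cocy P Y n) :
    (cocyPost P g n f).1 = f.1 ≫ g := rfl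

lemma oldMk_map_left (g : X ⟶ X') (P : ProjectiveResolution X) (P' : ProjectiveResolution X')
    (φ : P.complex ⟶ P'.complex) (comm : φ.f 0 ≫ P'.π.f 0 = P.π.f 0 ≫ g) (n : ℕ)
    (f : cocy P' Y n) :
    (((_root_.Ext R (ModuleCat.{u} R) n).map g.op).app Y).hom (oldMk P' Y n f) =
      oldMk P Y n (cocyPre φ Y n f) := by
  let ψ := ((homTo Y).mapHomologicalComplex _).map φ
  have key : (P'.isoExt n Y).inv ≫ ((_root_.Ext R (ModuleCat.{u} R) n).map g.op).app Y =
      HomologicalComplex.homologyMap ((HomologicalComplex.unopFunctor _ _).map ψ.op) n ≫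
        (P.isoExt n Y).inv := by
    change ((HomologicalComplex.homologyUnop _ n).hom ≫ (P'.isoLeftDerivedObj (homTo Y) n).hom.unop)
        ≫ (((homTo Y).leftDerived n).map g).unop =
      _ ≫ (HomologicalComplex.homologyUnop _ n).hom ≫ (P.isoLeftDerivedObj (homTo Y) n).hom.unop
    have h2 : (P'.isoLeftDerivedObj (homTo Y) n).hom.unop ≫ (((homTo Y).leftDerived n).map g).unop =
        (HomologicalComplex.homologyMap ψ n).unop ≫ (P.isoLeftDerivedObj (homTo Y) n).hom.unop :=
      congrArg Quiver.Hom.unop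
        (ProjectiveResolution.isoLeftDerivedObj_hom_naturality g P P' φ comm (homTo Y) n)
    exact (Category.assoc _ _ _).trans ((congrArg (_ ≫ ·) h2).trans
      ((Category.assoc _ _ _).symm.trans ((congrArg (· ≫ _)
        (homologyUnop_hom_naturality ψ n).symm).trans (Category.assoc _ _ _))))
  refine (congr($(key).hom (cls (HomCx P' Y) n (cocyToZ P' Y n f)))).trans ?_
  refine congrArg (P.isoExt n Y).inv.hom ?_
  refine (homologyMap_cls n _ _).trans ?_
  rfl

lemma oldMk_map_right (P : ProjectiveResolution X) (g : Y ⟶ Y') (n : ℕ) (f : cocy P Y n) :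
    (((_root_.Ext R (ModuleCat.{u} R) n).obj (op X)).map g).hom (oldMk P Y n f) =
      oldMk P Y' n (cocyPost P g n f) := by
  let α : homTo Y' ⟶ homTo Y := NatTrans.rightOp ((linearYoneda R (ModuleCat.{u} R)).map g)
  let ψ := (NatTrans.mapHomologicalComplex α (ComplexShape.down ℕ)).app P.complex
  have key : (P.isoExt n Y).inv ≫ ((_root_.Ext R (ModuleCat.{u} R) n).obj (op X)).map g =
      HomologicalComplex.homologyMap ((HomologicalComplex.unopFunctor _ _).map ψ.op) n ≫
        (P.isoExt n Y').inv := by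
    change ((HomologicalComplex.homologyUnop _ n).hom ≫ (P.isoLeftDerivedObj (homTo Y) n).hom.unop)
        ≫ ((NatTrans.leftDerived α n).app X).unop =
      _ ≫ (HomologicalComplex.homologyUnop _ n).hom ≫ (P.isoLeftDerivedObj (homTo Y') n).hom.unop
    have h1 : (NatTrans.leftDerived α n).app X ≫ (P.isoLeftDerivedObj (homTo Y) n).hom =
        (P.isoLeftDerivedObj (homTo Y') n).hom ≫ HomologicalComplex.homologyMap ψ n := by
      rw [ProjectiveResolution.leftDerived_app_eq α P n, Category.assoc, Category.assoc,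
        Iso.inv_hom_id, Category.comp_id]
      rfl
    have h2 : (P.isoLeftDerivedObj (homTo Y) n).hom.unop ≫ ((NatTrans.leftDerived α n).app X).unop =
        (HomologicalComplex.homologyMap ψ n).unop ≫ (P.isoLeftDerivedObj (homTo Y') n).hom.unop :=
      congrArg Quiver.Hom.unop h1
    exact (Category.assoc _ _ _).trans ((congrArg (_ ≫ ·) h2).trans
      ((Category.assoc _ _ _).symm.trans ((congrArg (· ≫ _)
        (homologyUnop_hom_naturality ψ n).symm).trans (Category.assoc _ _ _))))
  refine (congr($(key).hom (cls (HomCx P Y) n (cocyToZ P Y n f)))).trans ?_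
  refine congrArg (P.isoExt n Y').inv.hom ?_
  refine (homologyMap_cls n _ _).trans ?_
  rfl

section New

/-- The class in `Abelian.Ext` of a cocycle. -/
noncomputable def newMk (P : ProjectiveResolution X) (Y : ModuleCat.{u} R) (n : ℕ) :
    cocy P Y n →ₗ[R] Abelian.Ext.{u} X Y n where
  toFun f := P.extMk f.1 (n + 1) rfl f.2
  map_add' f g := (P.add_extMk f.1 g.1 (n + 1) rfl f.2 g.2).symm
  map_smul' r f := by
    rw [RingHom.id_apply, Abelian.Ext.smul_eq_comp_mk₀, P.extMk_comp_mk₀]
    congr 1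

lemma newMk_surjective (P : ProjectiveResolution X) (Y : ModuleCat.{u} R) (n : ℕ) :
    Function.Surjective (newMk P Y n) := fun α => by
  obtain ⟨f, hf, h⟩ := P.extMk_surjective α (n + 1) rfl
  exact ⟨⟨f, hf⟩, h⟩

lemma newMk_eq_zero_iff (P : ProjectiveResolution X) (Y : ModuleCat.{u} R) (p : ℕ)
    (f : cocy P Y (p + 1)) :
    newMk P Y (p + 1) f = 0 ↔ ∃ g : P.complex.X p ⟶ Y, P.complex.d (p + 1) p ≫ g = f.1 :=
  P.extMk_eq_zero_iff f.1 _ rfl f.2 p rfl

lemma newMk_zero_injective (P : ProjectiveResolution X) (Y : ModuleCat.{u} R) :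
    Function.Injective (newMk P Y 0) := by
  refine (injective_iff_map_eq_zero _).mpr fun f hf => ?_
  have h : P.extEquivCohomologyClass (P.extMk f.1 1 rfl f.2) = 0 := by
    rw [show P.extMk f.1 1 rfl f.2 = 0 from hf]
    exact P.extAddEquivCohomologyClass.map_zero
  rw [ProjectiveResolution.extEquivCohomologyClass_extMk,
    CochainComplex.HomComplex.CohomologyClass.mk_eq_zero_iff,
    CochainComplex.HomComplex.Cocycle.toSingleMk_mem_coboundaries_iff _ _ _ _ _ (1 : ℤ) (by simp)]
    at h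
  obtain ⟨g, hg⟩ := h
  have hz : IsZero (P.cochainComplex.X 1) :=
    P.cochainComplex.isZero_of_isStrictlyLE 0 1 (by simp)
  rw [hz.eq_of_src g 0, comp_zero] at hg
  refine Subtype.ext ?_
  rw [← cancel_epi (P.cochainComplexXIso (-(0 : ℕ)) 0 rfl).hom]
  simpa using hg.symm

lemma ker_oldMk_eq (P : ProjectiveResolution X) (Y : ModuleCat.{u} R) (n : ℕ) :
    LinearMap.ker (oldMk P Y n) = LinearMap.ker (newMk P Y n) := by
  cases n with
  | zero =>
    rw [LinearMap.ker_eq_bot.mpr (oldMk_zero_injective P Y),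
      LinearMap.ker_eq_bot.mpr (newMk_zero_injective P Y)]
  | succ p =>
    ext f
    simp only [LinearMap.mem_ker, oldMk_eq_zero_iff, newMk_eq_zero_iff]

lemma newMk_map_left (g : X ⟶ X') (P : ProjectiveResolution X) (P' : ProjectiveResolution X')
    (φ : P.complex ⟶ P'.complex) (comm : φ.f 0 ≫ P'.π.f 0 = P.π.f 0 ≫ g) (n : ℕ)
    (f : cocy P' Y n) :
    (Abelian.Ext.mk₀ g).comp (newMk P' Y n f) (zero_add n) = newMk P Y n (cocyPre φ Y n f) :=
  ProjectiveResolution.mk₀_comp_extMk f.1 (n + 1) rfl f.2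
    (⟨φ, by simpa using comm⟩ : ProjectiveResolution.Hom P P' g)

lemma newMk_map_right (P : ProjectiveResolution X) (g : Y ⟶ Y') (n : ℕ) (f : cocy P Y n) :
    (newMk P Y n f).comp (Abelian.Ext.mk₀ g) (add_zero n) = newMk P Y' n (cocyPost P g n f) :=
  P.extMk_comp_mk₀ f.1 (n + 1) rfl f.2 g

end New

/-- The comparison of the two `Ext`s computed with a resolution. -/
noncomputable def extCompP (P : ProjectiveResolution X) (Y : ModuleCat.{u} R) (n : ℕ) :
    OldE X Y n ≃ₗ[R] Abelian.Ext.{u} X Y n :=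
  ((oldMk P Y n).quotKerEquivOfSurjective (oldMk_surjective P Y n)).symm ≪≫ₗ
    Submodule.quotEquivOfEq _ _ (ker_oldMk_eq P Y n) ≪≫ₗ
    (newMk P Y n).quotKerEquivOfSurjective (newMk_surjective P Y n)

lemma extCompP_oldMk (P : ProjectiveResolution X) (n : ℕ) (f : cocy P Y n) :
    extCompP P Y n (oldMk P Y n f) = newMk P Y n f := by
  have h : ((oldMk P Y n).quotKerEquivOfSurjective (oldMk_surjective P Y n)).symm (oldMk P Y n f) =
      Submodule.Quotient.mk f :=
    (LinearEquiv.symm_apply_eq _).mpr (LinearMap.quotKerEquivOfSurjective_apply_mk _ _ _).symm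
  simp only [extCompP, LinearEquiv.trans_apply, h, Submodule.quotEquivOfEq_mk,
    LinearMap.quotKerEquivOfSurjective_apply_mk]

/-- The two `Ext`s agree. -/
noncomputable def extComp (X Y : ModuleCat.{u} R) (n : ℕ) :
    OldE X Y n ≃ₗ[R] Abelian.Ext.{u} X Y n :=
  extCompP (projectiveResolution X) Y n

lemma extComp_map_left (g : X ⟶ X') (Y : ModuleCat.{u} R) (n : ℕ) (x : OldE X' Y n) :
    extComp X Y n ((((_root_.Ext R (ModuleCat.{u} R) n).map g.op).app Y).hom x) =
      (Abelian.Ext.mk₀ g).comp (extComp X' Y n x) (zero_add n) := by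
  obtain ⟨f, rfl⟩ := oldMk_surjective (projectiveResolution X') Y n x
  have comm : (ProjectiveResolution.lift g (projectiveResolution X) (projectiveResolution X')).f 0 ≫
      (projectiveResolution X').π.f 0 = (projectiveResolution X).π.f 0 ≫ g :=
    ProjectiveResolution.lift_commutes_zero g _ _
  rw [oldMk_map_left g _ _ _ comm, extComp, extCompP_oldMk, extComp, extCompP_oldMk,
    newMk_map_left g _ _ _ comm]

lemma extComp_map_right (g : Y ⟶ Y') (X : ModuleCat.{u} R) (n : ℕ) (x : OldE X Y n) :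
    extComp X Y' n ((((_root_.Ext R (ModuleCat.{u} R) n).obj (op X)).map g).hom x) =
      (extComp X Y n x).comp (Abelian.Ext.mk₀ g) (add_zero n) := by
  obtain ⟨f, rfl⟩ := oldMk_surjective (projectiveResolution X) Y n x
  rw [oldMk_map_right, extComp, extCompP_oldMk, extComp, extCompP_oldMk, newMk_map_right]

end Groth.Agent.LocCohLib
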