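import Mathlib
import Groth.Prelude.Def_Wider
import Groth.Agent.LocCohLib.ExtComp

/-! Elementwise description of local cohomology as a colimit of `Abelian.Ext`. -/

open CategoryTheory Limits Opposite

namespace Groth.Agent.LocCohLib

universe u

variable {R : Type u} [CommRing R] (I : Ideal R)

/-- The module `R/I^n`. -/
abbrev quot (n : ℕ) : ModuleCat.{u} R := ModuleCat.of R (R ⧸ I ^ n)

/-- The projection `R/I^m → R/I^n` for `n ≤ m`. -/
def qmap {n m : ℕ} (h : n ≤ m) : quot I m ⟶ quot I n :=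
  ModuleCat.ofHom (Submodule.mapQ (I ^ m) (I ^ n) LinearMap.id
    (by simpa using Ideal.pow_le_pow_right h))

lemma qmap_mk {n m : ℕ} (h : n ≤ m) (x : R) :
    (qmap I h).hom (Submodule.Quotient.mk x) = Submodule.Quotient.mk x := rfl

@[simp] lemma qmap_self (n : ℕ) : qmap I (le_refl n) = 𝟙 (quot I n) := by
  ext x; rfl

@[reassoc (attr := simp)] lemma qmap_comp {a b c : ℕ} (h : a ≤ b) (h' : b ≤ c) :
    qmap I h' ≫ qmap I h = qmap I (h.trans h') := by
  ext x; rfl

variable (i : ℕ) (M : ModuleCat.{u} R)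

/-- The class in local cohomology of an extension class on `R/I^n`. -/
noncomputable def ι (n : ℕ) :
    Abelian.Ext.{u} (quot I n) M i →ₗ[R] ((localCohomology I i).obj M : Type u) :=
  ((colimit.ι (localCohomology.diagram (localCohomology.idealPowersDiagram I) i)
      (op (op n))).app M).hom ∘ₗ (extComp (quot I n) M i).symm.toLinearMap

variable {I i M}

instance forget_preservesFilteredColimits_small :
    PreservesFilteredColimitsOfSize.{0, 0} (forget (ModuleCat.{u} R)) :=
  preservesFilteredColimitsOfSize_of_univLE.{u, u} _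

lemma colim_app_surjective (F : ℕᵒᵖᵒᵖ ⥤ ModuleCat.{u} R ⥤ ModuleCat.{u} R) (M : ModuleCat.{u} R)
    (x : (colimit F).obj M) : ∃ j y, ((colimit.ι F j).app M).hom y = x := by
  let e := colimitObjIsoColimitCompEvaluation F M
  obtain ⟨j, y, hy⟩ := Concrete.colimit_exists_rep
    (F ⋙ (evaluation (ModuleCat.{u} R) (ModuleCat.{u} R)).obj M) (e.hom x)
  refine ⟨j, y, e.toLinearEquiv.injective ?_⟩
  exact (congr($(colimitObjIsoColimitCompEvaluation_ι_app_hom F j M) y)).trans hy

lemma colim_app_eq_zero (F : ℕᵒᵖᵒᵖ ⥤ ModuleCat.{u} R ⥤ ModuleCat.{u} R) (M : ModuleCat.{u} R)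
    (j : ℕᵒᵖᵒᵖ) (y : (F.obj j).obj M) (hy : ((colimit.ι F j).app M).hom y = 0) :
    ∃ (k : ℕᵒᵖᵒᵖ) (f : j ⟶ k), ((F.map f).app M).hom y = 0 := by
  have e1 : colimit.ι (F ⋙ (evaluation (ModuleCat.{u} R) (ModuleCat.{u} R)).obj M) j y = 0 := by
    refine (congr($(colimitObjIsoColimitCompEvaluation_ι_app_hom F j M) y)).symm.trans ?_
    change (colimitObjIsoColimitCompEvaluation F M).hom.hom (((colimit.ι F j).app M).hom y) = 0
    rw [hy, map_zero]
  have h0 : colimit.ι (F ⋙ (evaluation (ModuleCat.{u} R) (ModuleCat.{u} R)).obj M) j y =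
      colimit.ι (F ⋙ (evaluation (ModuleCat.{u} R) (ModuleCat.{u} R)).obj M) j 0 :=
    e1.trans (map_zero _).symm
  obtain ⟨k, f, g, hfg⟩ := (Concrete.colimit_rep_eq_iff_exists
    (F ⋙ (evaluation (ModuleCat.{u} R) (ModuleCat.{u} R)).obj M) y 0).mp h0
  exact ⟨k, f, hfg.trans (map_zero _)⟩

lemma diagram_map_app {n m : ℕ} (h : n ≤ m) :
    ((localCohomology.diagram (localCohomology.idealPowersDiagram I) i).map
        (homOfLE h).op.op).app M =
      ((_root_.Ext R (ModuleCat.{u} R) i).map (qmap I h).op).app M := rfl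

lemma ι_extComp {n : ℕ} (y : OldE (quot I n) M i) :
    ι I i M n (extComp (quot I n) M i y) =
      ((colimit.ι (localCohomology.diagram (localCohomology.idealPowersDiagram I) i)
        (op (op n))).app M).hom y :=
  congrArg ((colimit.ι (localCohomology.diagram (localCohomology.idealPowersDiagram I) i)
    (op (op n))).app M).hom (LinearEquiv.symm_apply_apply _ y)

lemma ι_comp {n m : ℕ} (h : n ≤ m) (x : Abelian.Ext.{u} (quot I n) M i) :
    ι I i M m ((Abelian.Ext.mk₀ (qmap I h)).comp x (zero_add i)) = ι I i M n x := by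
  obtain ⟨y, rfl⟩ := (extComp (quot I n) M i).surjective x
  rw [← extComp_map_left, ι_extComp, ι_extComp, ← diagram_map_app h]
  have hw := NatTrans.congr_app
    (colimit.w (localCohomology.diagram (localCohomology.idealPowersDiagram I) i)
      (homOfLE h).op.op) M
  exact congr($(hw).hom y)

lemma exists_ι (x : (localCohomology I i).obj M) : ∃ n y, ι I i M n y = x := by
  obtain ⟨⟨⟨n⟩⟩, y, hy⟩ := colim_app_surjective
    (localCohomology.diagram (localCohomology.idealPowersDiagram I) i) M x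
  exact ⟨n, extComp (quot I n) M i y, (ι_extComp y).trans hy⟩

lemma ι_eq_zero_iff {n : ℕ} (x : Abelian.Ext.{u} (quot I n) M i) :
    ι I i M n x = 0 ↔
      ∃ (m : ℕ) (h : n ≤ m), (Abelian.Ext.mk₀ (qmap I h)).comp x (zero_add i) = 0 := by
  constructor
  · intro hx
    obtain ⟨y, rfl⟩ := (extComp (quot I n) M i).surjective x
    rw [ι_extComp] at hx
    obtain ⟨⟨⟨m⟩⟩, f, hf⟩ := colim_app_eq_zero
      (localCohomology.diagram (localCohomology.idealPowersDiagram I) i) M (op (op n)) y hx
    have h : n ≤ m := f.unop.unop.le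
    refine ⟨m, h, ?_⟩
    rw [← extComp_map_left]
    refine (extComp _ M i).map_eq_zero_iff.mpr ?_
    rw [← diagram_map_app h, Subsingleton.elim (homOfLE h).op.op f]
    exact hf
  · rintro ⟨m, h, hx⟩
    rw [← ι_comp h x, hx, map_zero]

lemma map_ι {M' : ModuleCat.{u} R} (f : M ⟶ M') {n : ℕ} (x : Abelian.Ext.{u} (quot I n) M i) :
    ((localCohomology I i).map f).hom (ι I i M n x) =
      ι I i M' n (x.comp (Abelian.Ext.mk₀ f) (add_zero i)) := by
  obtain ⟨y, rfl⟩ := (extComp (quot I n) M i).surjective x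
  rw [← extComp_map_right, ι_extComp, ι_extComp]
  exact congr($((colimit.ι (localCohomology.diagram (localCohomology.idealPowersDiagram I) i)
    (op (op n))).naturality f) y).symm

lemma exists_ι_pair (x x' : (localCohomology I i).obj M) :
    ∃ n y y', ι I i M n y = x ∧ ι I i M n y' = x' := by
  obtain ⟨a, y, rfl⟩ := exists_ι x
  obtain ⟨b, y', rfl⟩ := exists_ι x'
  exact ⟨max a b, _, _, ι_comp (le_max_left a b) y, ι_comp (le_max_right a b) y'⟩

lemma exists_ι_ge (x : (localCohomology I i).obj M) (N : ℕ) :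
    ∃ n, N ≤ n ∧ ∃ y, ι I i M n y = x := by
  obtain ⟨a, y, rfl⟩ := exists_ι x
  exact ⟨max a N, le_max_right a N, _, ι_comp (le_max_left a N) y⟩

section desc

variable {T : Type*} [AddCommGroup T] [Module R T]

/-- The linear map out of local cohomology given by a compatible family. -/
noncomputable def desc (φ : ∀ n, Abelian.Ext.{u} (quot I n) M i →ₗ[R] T)
    (hφ : ∀ (n m : ℕ) (h : n ≤ m) (x : Abelian.Ext.{u} (quot I n) M i),
      φ m ((Abelian.Ext.mk₀ (qmap I h)).comp x (zero_add i)) = φ n x) :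
    ((localCohomology I i).obj M : Type u) →ₗ[R] T :=
  have key : ∀ n x, ι I i M n x = 0 → φ n x = 0 := fun n x hx => by
    obtain ⟨m, h, hm⟩ := (ι_eq_zero_iff x).mp hx
    rw [← hφ n m h x, hm, map_zero]
  have key2 : ∀ n x n' x', ι I i M n x = ι I i M n' x' → φ n x = φ n' x' := fun n x n' x' hx => by
    rw [← hφ n (max n n') (le_max_left _ _) x, ← hφ n' (max n n') (le_max_right _ _) x',
      ← sub_eq_zero, ← map_sub]
    apply key
    rw [map_sub, ι_comp, ι_comp, hx, sub_self]
  { toFun := fun z => φ _ (exists_ι z).choose_spec.choose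
    map_add' := fun z w => by
      obtain ⟨n, y, y', hy, hy'⟩ := exists_ι_pair z w
      rw [key2 _ _ n y ((exists_ι z).choose_spec.choose_spec.trans hy.symm),
        key2 _ _ n y' ((exists_ι w).choose_spec.choose_spec.trans hy'.symm),
        key2 _ _ n (y + y') ((exists_ι (z + w)).choose_spec.choose_spec.trans
          (by rw [map_add, hy, hy'])), map_add]
    map_smul' := fun r z => by
      obtain ⟨n, y, hy⟩ := exists_ι z
      rw [key2 _ _ n y ((exists_ι z).choose_spec.choose_spec.trans hy.symm),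
        key2 _ _ n (r • y) ((exists_ι (r • z)).choose_spec.choose_spec.trans
          (by rw [map_smul, hy])), map_smul, RingHom.id_apply] }

lemma desc_ι (φ : ∀ n, Abelian.Ext.{u} (quot I n) M i →ₗ[R] T)
    (hφ : ∀ (n m : ℕ) (h : n ≤ m) (x : Abelian.Ext.{u} (quot I n) M i),
      φ m ((Abelian.Ext.mk₀ (qmap I h)).comp x (zero_add i)) = φ n x)
    (n : ℕ) (x : Abelian.Ext.{u} (quot I n) M i) :
    desc φ hφ (ι I i M n x) = φ n x := by
  change φ _ (exists_ι (ι I i M n x)).choose_spec.choose = φ n x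
  set n' := (exists_ι (ι I i M n x)).choose
  set x' := (exists_ι (ι I i M n x)).choose_spec.choose
  have hx : ι I i M n' x' = ι I i M n x := (exists_ι (ι I i M n x)).choose_spec.choose_spec
  rw [← hφ n' (max n n') (le_max_right _ _) x', ← hφ n (max n n') (le_max_left _ _) x,
    ← sub_eq_zero, ← map_sub]
  obtain ⟨m, h, hm⟩ := (ι_eq_zero_iff ((Abelian.Ext.mk₀ (qmap I (le_max_right n n'))).comp x'
    (zero_add i) - (Abelian.Ext.mk₀ (qmap I (le_max_left n n'))).comp x (zero_add i))).mp
      (by rw [map_sub, ι_comp, ι_comp, hx, sub_self])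
  rw [← hφ _ m h, hm, map_zero]

end desc

end Groth.Agent.LocCohLib
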