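import Mathlib
import Groth.Prelude.Def_DRing3
import Groth.Prelude.Def_Wider
import Groth.Agent.LocCohLib.Colim

/-! Degree zero, torsion, vanishing on injectives and the long exact sequence. -/

open CategoryTheory Limits

namespace Groth.Agent.LocCohLib

universe u

variable {R : Type u} [CommRing R] {I : Ideal R} {i : ℕ} {M : ModuleCat.{u} R}

lemma smul_ext_eq_zero {n : ℕ} {a : R} (ha : a ∈ I ^ n) (x : Abelian.Ext.{u} (quot I n) M i) :
    a • x = 0 := by
  have hid : a • 𝟙 (quot I n) = 0 := by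
    apply ModuleCat.hom_ext
    refine LinearMap.ext fun z => ?_
    change a • (z : R ⧸ I ^ n) = 0
    obtain ⟨z, rfl⟩ := Submodule.Quotient.mk_surjective _ z
    rw [← Submodule.Quotient.mk_smul, Submodule.Quotient.mk_eq_zero]
    exact Ideal.mul_mem_right _ _ ha
  calc a • x = a • (Abelian.Ext.mk₀ (𝟙 (quot I n))).comp x (zero_add i) := by simp
    _ = (Abelian.Ext.mk₀ (a • 𝟙 (quot I n))).comp x (zero_add i) := by
      rw [Abelian.Ext.mk₀_smul, Abelian.Ext.smul_comp]
    _ = 0 := by rw [hid]; simp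

/-- Local cohomology is power torsion. -/
lemma isPowerTorsion (x : (localCohomology I i).obj M) : ∃ n : ℕ, ∀ a ∈ I ^ n, a • x = 0 := by
  obtain ⟨n, y, rfl⟩ := exists_ι x
  exact ⟨n, fun a ha => by rw [← map_smul, smul_ext_eq_zero ha, map_zero]⟩

lemma subsingleton_of_forall_ext
    (h : ∀ (n : ℕ) (x : Abelian.Ext.{u} (quot I n) M i),
      ∃ (m : ℕ) (hm : n ≤ m), (Abelian.Ext.mk₀ (qmap I hm)).comp x (zero_add i) = 0) :
    Subsingleton ((localCohomology I i).obj M : Type u) := by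
  refine subsingleton_of_forall_eq 0 fun x => ?_
  obtain ⟨n, y, rfl⟩ := exists_ι x
  exact (ι_eq_zero_iff y).mpr (h n y)

/-- Higher local cohomology of an injective module vanishes. -/
lemma subsingleton_of_injective [Injective M] (i : ℕ) :
    Subsingleton ((localCohomology I (i + 1)).obj M : Type u) :=
  subsingleton_of_forall_ext fun n x => ⟨n, le_rfl, by rw [Abelian.Ext.eq_zero_of_injective x]; simp⟩

section zero

/-- Evaluation at `1`. -/
noncomputable def evalOne (I : Ideal R) (M : ModuleCat.{u} R) (n : ℕ) :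
    Abelian.Ext.{u} (quot I n) M 0 →ₗ[R] (M : Type u) where
  toFun x := (Abelian.Ext.linearEquiv₀ (R := R) x).hom (Submodule.Quotient.mk 1)
  map_add' x y := by simp only [map_add]; rfl
  map_smul' r x := by simp only [map_smul]; rfl

lemma evalOne_mk₀ (n : ℕ) (f : quot I n ⟶ M) :
    evalOne I M n (Abelian.Ext.mk₀ f) = f.hom (Submodule.Quotient.mk 1) := by
  change (Abelian.Ext.linearEquiv₀ (R := R) (Abelian.Ext.mk₀ f)).hom _ = _
  rw [← Abelian.Ext.linearEquiv₀_symm_apply (R := R), LinearEquiv.apply_symm_apply]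

lemma evalOne_comp {n m : ℕ} (h : n ≤ m) (x : Abelian.Ext.{u} (quot I n) M 0) :
    evalOne I M m ((Abelian.Ext.mk₀ (qmap I h)).comp x (zero_add 0)) = evalOne I M n x := by
  obtain ⟨f, rfl⟩ := Abelian.Ext.addEquiv₀.symm.surjective x
  rw [Abelian.Ext.addEquiv₀_symm_apply, Abelian.Ext.mk₀_comp_mk₀, evalOne_mk₀, evalOne_mk₀]
  rfl

/-- The map `H^0_I(M) → M`. -/
noncomputable def h0 (I : Ideal R) (M : ModuleCat.{u} R) :
    ((localCohomology I 0).obj M : Type u) →ₗ[R] (M : Type u) :=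
  desc (evalOne I M) fun _ _ h x => evalOne_comp h x

lemma h0_ι (n : ℕ) (x : Abelian.Ext.{u} (quot I n) M 0) :
    h0 I M (ι I 0 M n x) = evalOne I M n x := desc_ι _ _ n x

lemma evalOne_injective (n : ℕ) : Function.Injective (evalOne I M n) := by
  intro x y hxy
  obtain ⟨f, rfl⟩ := Abelian.Ext.addEquiv₀.symm.surjective x
  obtain ⟨g, rfl⟩ := Abelian.Ext.addEquiv₀.symm.surjective y
  rw [Abelian.Ext.addEquiv₀_symm_apply, Abelian.Ext.addEquiv₀_symm_apply, evalOne_mk₀,
    evalOne_mk₀] at hxy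
  congr 1
  apply ModuleCat.hom_ext
  refine LinearMap.ext fun z => ?_
  obtain ⟨z, rfl⟩ := Submodule.Quotient.mk_surjective _ z
  have hz : (Submodule.Quotient.mk z : R ⧸ I ^ n) = z • Submodule.Quotient.mk 1 := by
    rw [← Submodule.Quotient.mk_smul, smul_eq_mul, mul_one]
  rw [hz]
  exact ((map_smul f.hom z _).trans (congrArg (z • ·) hxy)).trans (map_smul g.hom z _).symm

lemma h0_injective : Function.Injective (h0 I M) := by
  refine (injective_iff_map_eq_zero _).mpr fun z hz => ?_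
  obtain ⟨n, x, rfl⟩ := exists_ι z
  rw [h0_ι] at hz
  rw [evalOne_injective n (hz.trans (map_zero _).symm), map_zero]

lemma range_h0 : LinearMap.range (h0 I M) = DRing.torsionSub I M := by
  ext m
  constructor
  · rintro ⟨z, rfl⟩
    obtain ⟨n, x, rfl⟩ := exists_ι z
    rw [h0_ι]
    exact ⟨n, fun a ha => by rw [← map_smul, smul_ext_eq_zero ha, map_zero]⟩
  · rintro ⟨n, hn⟩
    let f : quot I n ⟶ M := ModuleCat.ofHom (Submodule.liftQ (I ^ n) (LinearMap.toSpanSingleton R M m)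
      fun a ha => by rw [LinearMap.mem_ker]; exact hn a ha)
    refine ⟨ι I 0 M n (Abelian.Ext.mk₀ f), ?_⟩
    rw [h0_ι, evalOne_mk₀]
    change (1 : R) • m = m
    rw [one_smul]

/-- `H^0_I(M) = Γ_I(M)`. -/
noncomputable def h0Equiv (I : Ideal R) (M : ModuleCat.{u} R) :
    ((localCohomology I 0).obj M : Type u) ≃ₗ[R] DRing.torsionSub I M :=
  (LinearEquiv.ofInjective (h0 I M) h0_injective).trans (LinearEquiv.ofEq _ _ range_h0)

lemma h0Equiv_coe (z : (localCohomology I 0).obj M) : (h0Equiv I M z : M) = h0 I M z := rfl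

lemma h0_map {M' : ModuleCat.{u} R} (f : M ⟶ M') (z : (localCohomology I 0).obj M) :
    h0 I M' (((localCohomology I 0).map f).hom z) = f.hom (h0 I M z) := by
  obtain ⟨n, x, rfl⟩ := exists_ι z
  obtain ⟨g, rfl⟩ := Abelian.Ext.addEquiv₀.symm.surjective x
  rw [map_ι, Abelian.Ext.addEquiv₀_symm_apply, Abelian.Ext.mk₀_comp_mk₀, h0_ι, h0_ι, evalOne_mk₀,
    evalOne_mk₀]
  rfl

end zero

section LES

variable {S : ShortComplex (ModuleCat.{u} R)} (hS : S.ShortExact) (I)

/-- The connecting map. -/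
noncomputable def δ (i : ℕ) :
    ((localCohomology I i).obj S.X₃ : Type u) →ₗ[R] ((localCohomology I (i + 1)).obj S.X₁ : Type u) :=
  desc (fun n => ι I (i + 1) S.X₁ n ∘ₗ hS.extClass.postcompOfLinear R (quot I n) rfl) fun n m h x => by
    change ι I (i + 1) S.X₁ m (((Abelian.Ext.mk₀ (qmap I h)).comp x (zero_add i)).comp hS.extClass rfl) =
      ι I (i + 1) S.X₁ n (x.comp hS.extClass rfl)
    rw [Abelian.Ext.comp_assoc (a₂₃ := i + 1) _ x hS.extClass (zero_add i) rfl (by omega), ι_comp]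

lemma δ_ι (i n : ℕ) (x : Abelian.Ext.{u} (quot I n) S.X₃ i) :
    δ I hS i (ι I i S.X₃ n x) = ι I (i + 1) S.X₁ n (x.comp hS.extClass rfl) :=
  desc_ι _ _ n x

lemma map_g_map_f (i : ℕ) (z : (localCohomology I i).obj S.X₁) :
    ((localCohomology I i).map S.g).hom (((localCohomology I i).map S.f).hom z) = 0 := by
  obtain ⟨n, x, rfl⟩ := exists_ι z
  rw [map_ι, map_ι, Abelian.Ext.comp_assoc_of_second_deg_zero, Abelian.Ext.mk₀_comp_mk₀, S.zero]
  simp

lemma δ_map_g (i : ℕ) (z : (localCohomology I i).obj S.X₂) :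
    δ I hS i (((localCohomology I i).map S.g).hom z) = 0 := by
  obtain ⟨n, x, rfl⟩ := exists_ι z
  rw [map_ι, δ_ι, Abelian.Ext.comp_assoc_of_second_deg_zero, hS.comp_extClass]
  simp

lemma map_f_δ (i : ℕ) (z : (localCohomology I i).obj S.X₃) :
    ((localCohomology I (i + 1)).map S.f).hom (δ I hS i z) = 0 := by
  obtain ⟨n, x, rfl⟩ := exists_ι z
  rw [δ_ι, map_ι, Abelian.Ext.comp_assoc_of_third_deg_zero, hS.extClass_comp]
  simp

include hS in
lemma exists_of_map_g_eq_zero (i : ℕ) (z : (localCohomology I i).obj S.X₂)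
    (hz : ((localCohomology I i).map S.g).hom z = 0) :
    ∃ w, ((localCohomology I i).map S.f).hom w = z := by
  obtain ⟨n, x, rfl⟩ := exists_ι z
  rw [map_ι, ι_eq_zero_iff] at hz
  obtain ⟨m, h, hx⟩ := hz
  rw [← Abelian.Ext.comp_assoc_of_third_deg_zero] at hx
  obtain ⟨x₁, hx₁⟩ := Abelian.Ext.covariant_sequence_exact₂ _ hS _ hx
  exact ⟨ι I i S.X₁ m x₁, by rw [map_ι, hx₁, ι_comp]⟩

lemma exists_of_δ_eq_zero (i : ℕ) (z : (localCohomology I i).obj S.X₃) (hz : δ I hS i z = 0) :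
    ∃ w, ((localCohomology I i).map S.g).hom w = z := by
  obtain ⟨n, x, rfl⟩ := exists_ι z
  rw [δ_ι, ι_eq_zero_iff] at hz
  obtain ⟨m, h, hx⟩ := hz
  rw [← Abelian.Ext.comp_assoc (a₁₂ := i) _ x hS.extClass (zero_add i) rfl (by omega)] at hx
  obtain ⟨x₂, hx₂⟩ := Abelian.Ext.covariant_sequence_exact₃ _ hS _ rfl hx
  exact ⟨ι I i S.X₂ m x₂, by rw [map_ι, hx₂, ι_comp]⟩

lemma exists_of_map_f_eq_zero (i : ℕ) (z : (localCohomology I (i + 1)).obj S.X₁)
    (hz : ((localCohomology I (i + 1)).map S.f).hom z = 0) :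
    ∃ w, δ I hS i w = z := by
  obtain ⟨n, x, rfl⟩ := exists_ι z
  rw [map_ι, ι_eq_zero_iff] at hz
  obtain ⟨m, h, hx⟩ := hz
  rw [← Abelian.Ext.comp_assoc_of_third_deg_zero] at hx
  obtain ⟨x₃, hx₃⟩ := Abelian.Ext.covariant_sequence_exact₁ _ hS _ hx rfl
  exact ⟨ι I i S.X₃ m x₃, by rw [δ_ι, hx₃, ι_comp]⟩

include hS in
lemma subsingleton_mid (i : ℕ) (h₁ : Subsingleton ((localCohomology I i).obj S.X₁ : Type u))
    (h₃ : Subsingleton ((localCohomology I i).obj S.X₃ : Type u)) :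
    Subsingleton ((localCohomology I i).obj S.X₂ : Type u) := by
  refine subsingleton_of_forall_eq 0 fun z => ?_
  obtain ⟨w, rfl⟩ := exists_of_map_g_eq_zero I hS i z (Subsingleton.elim _ _)
  rw [Subsingleton.elim w 0, map_zero]

include hS in
lemma subsingleton_left (i : ℕ) (h₃ : Subsingleton ((localCohomology I i).obj S.X₃ : Type u))
    (h₂ : Subsingleton ((localCohomology I (i + 1)).obj S.X₂ : Type u)) :
    Subsingleton ((localCohomology I (i + 1)).obj S.X₁ : Type u) := by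
  refine subsingleton_of_forall_eq 0 fun z => ?_
  obtain ⟨w, rfl⟩ := exists_of_map_f_eq_zero I hS i z (Subsingleton.elim _ _)
  rw [Subsingleton.elim w 0, map_zero]

include hS in
lemma subsingleton_right (i : ℕ) (h₂ : Subsingleton ((localCohomology I i).obj S.X₂ : Type u))
    (h₁ : Subsingleton ((localCohomology I (i + 1)).obj S.X₁ : Type u)) :
    Subsingleton ((localCohomology I i).obj S.X₃ : Type u) := by
  refine subsingleton_of_forall_eq 0 fun z => ?_
  obtain ⟨w, rfl⟩ := exists_of_δ_eq_zero I hS i z (Subsingleton.elim _ _)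
  rw [Subsingleton.elim w 0, map_zero]

end LES

end Groth.Agent.LocCohLib
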