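import Mathlib
import Groth.Agent.LocCohLib.Basic

/-! Torsion modules: `Γ_I` of an injective is injective, torsion modules are acyclic. -/

open CategoryTheory Limits

namespace Groth.Agent.LocCohLib

universe u v

variable {R : Type u} [CommRing R] (I : Ideal R)

lemma exists_pow_smul_eq_zero_of_fg {M : Type v} [AddCommGroup M] [Module R M] {P : Submodule R M}
    (hP : P.FG) (h : ∀ x ∈ P, ∃ n : ℕ, ∀ a ∈ I ^ n, a • x = 0) :
    ∃ n : ℕ, ∀ a ∈ I ^ n, ∀ x ∈ P, a • x = 0 := by
  classical
  obtain ⟨s, rfl⟩ := hP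
  choose! n hn using fun x (hx : x ∈ s) => h x (Submodule.subset_span hx)
  refine ⟨s.sup n, fun a ha x hx => ?_⟩
  induction hx using Submodule.span_induction with
  | mem x hx => exact hn x hx a (Ideal.pow_le_pow_right (Finset.le_sup hx) ha)
  | zero => exact smul_zero a
  | add x y _ _ hx hy => rw [smul_add, hx, hy, add_zero]
  | smul c x _ hx => rw [smul_comm, hx, smul_zero]

/-- `Γ_I` of an injective module is injective. -/
theorem injective_torsionSub [IsNoetherianRing R] (E : Type u) [AddCommGroup E] [Module R E]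
    [Module.Injective R E] : Module.Injective R (DRing.torsionSub I E) := by
  refine Module.Baer.injective fun J f => ?_
  obtain ⟨N, hN⟩ := exists_pow_smul_eq_zero_of_fg I
    (P := LinearMap.range ((DRing.torsionSub I E).subtype ∘ₗ f))
    (by rw [LinearMap.range_eq_map]; exact Submodule.FG.map _ Module.Finite.fg_top)
    (by rintro _ ⟨x, rfl⟩; exact (f x).2)
  obtain ⟨k, hk⟩ := Ideal.exists_pow_inf_eq_pow_smul I (N := J)
  let K : Submodule R J := Submodule.comap J.subtype (I ^ (N + k))
  have hK : K ≤ LinearMap.ker ((DRing.torsionSub I E).subtype ∘ₗ f) := by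
    intro x hx
    have hx' : (x : R) ∈ (I ^ (N + k) • ⊤ : Submodule R R) ⊓ J :=
      ⟨by rw [smul_eq_mul, Ideal.mul_top]; exact hx, x.2⟩
    rw [hk (N + k) (by omega), Nat.add_sub_cancel] at hx'
    have h2 : (x : R) ∈ (I ^ N • J : Submodule R R) :=
      Submodule.smul_mono le_rfl inf_le_right hx'
    suffices ∀ y ∈ (I ^ N • J : Submodule R R), ∀ hy : y ∈ J, (f ⟨y, hy⟩ : E) = 0 from
      this _ h2 x.2
    intro y hy
    induction hy using Submodule.smul_induction_on' with
    | smul r hr z hz =>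
      intro hrz
      have : (⟨r • z, hrz⟩ : J) = r • ⟨z, hz⟩ := rfl
      rw [this, map_smul]
      exact hN r hr _ ⟨⟨z, hz⟩, rfl⟩
    | add y _ z _ hy hz =>
      intro hyz
      rename_i h1 h2
      have hy' : y ∈ J := Submodule.smul_le_right h1
      have hz' : z ∈ J := Submodule.smul_le_right h2
      have : (⟨y + z, hyz⟩ : J) = ⟨y, hy'⟩ + ⟨z, hz'⟩ := rfl
      rw [this, map_add, Submodule.coe_add, hy hy', hz hz', add_zero]
  let j : (J ⧸ K) →ₗ[R] (R ⧸ I ^ (N + k)) := K.mapQ _ J.subtype fun x hx => hx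
  have hj : Function.Injective j := by
    rw [← LinearMap.ker_eq_bot, eq_bot_iff]
    intro z hz
    obtain ⟨z, rfl⟩ := Submodule.Quotient.mk_surjective _ z
    rw [Submodule.mem_bot, Submodule.Quotient.mk_eq_zero]
    exact (Submodule.Quotient.mk_eq_zero (I ^ (N + k))).mp (LinearMap.mem_ker.mp hz)
  obtain ⟨h, hh⟩ := Module.Injective.extension_property R E _ _ j hj (K.liftQ _ hK)
  refine ⟨(h ∘ₗ (I ^ (N + k)).mkQ).codRestrict _ fun x => ⟨N + k, fun a ha => ?_⟩,
    fun x mx => Subtype.ext ?_⟩
  · rw [LinearMap.comp_apply, ← map_smul, ← map_smul,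
      show Submodule.mkQ (I ^ (N + k)) (a • x) = 0 from
        (Submodule.Quotient.mk_eq_zero _).mpr (Ideal.mul_mem_right _ _ ha), map_zero]
  · exact congr($hh (Submodule.Quotient.mk ⟨x, mx⟩))

variable {I}

lemma torsionSub_eq_top {M : Type u} [AddCommGroup M] [Module R M]
    (h : LocCoh.IsPowerTorsion I M) : DRing.torsionSub I M = ⊤ :=
  eq_top_iff.mpr fun x _ => h x

lemma h0_bijective (M : ModuleCat.{u} R) (h : LocCoh.IsPowerTorsion I M) :
    Function.Bijective (h0 I M) :=
  ⟨h0_injective, LinearMap.range_eq_top.mp (range_h0.trans (torsionSub_eq_top h))⟩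

/-- A power torsion module embeds into an injective power torsion module, with torsion cokernel. -/
theorem exists_torsion_presentation [IsNoetherianRing R] (M : ModuleCat.{u} R)
    (h : LocCoh.IsPowerTorsion I M) :
    ∃ S : ShortComplex (ModuleCat.{u} R), S.ShortExact ∧ S.X₁ = M ∧ Injective S.X₂ ∧
      LocCoh.IsPowerTorsion I S.X₂ ∧ LocCoh.IsPowerTorsion I S.X₃ := by
  let E := Injective.under M
  haveI : Injective (ModuleCat.of R E) := inferInstanceAs (Injective (Injective.under M))
  haveI : Module.Injective R E := Module.injective_module_of_injective_object R E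
  let f : M →ₗ[R] DRing.torsionSub I E := (Injective.ι M).hom.codRestrict _
    fun x => DRing.map_mem_torsionSub I _ (h x)
  have hf : Function.Injective f := fun a b hab =>
    (ModuleCat.mono_iff_injective (Injective.ι M)).mp inferInstance (congrArg Subtype.val hab)
  haveI := injective_torsionSub I (E : Type u)
  refine ⟨ShortComplex.mk (ModuleCat.ofHom f) (ModuleCat.ofHom (LinearMap.range f).mkQ) ?_,
    { exact := ?_, mono_f := ?_, epi_g := ?_ }, rfl,
    Module.injective_object_of_injective_module R _, ?_, ?_⟩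
  · ext x
    exact (Submodule.Quotient.mk_eq_zero _).mpr ⟨x, rfl⟩
  · rw [ShortComplex.moduleCat_exact_iff]
    intro x hx
    exact (Submodule.Quotient.mk_eq_zero (LinearMap.range f)).mp hx
  · exact (ModuleCat.mono_iff_injective _).mpr hf
  · exact (ModuleCat.epi_iff_surjective _).mpr (Submodule.mkQ_surjective _)
  · rintro ⟨x, n, hn⟩
    exact ⟨n, fun a ha => Subtype.ext (hn a ha)⟩
  · intro z
    obtain ⟨⟨x, n, hn⟩, rfl⟩ := Submodule.Quotient.mk_surjective _ z
    refine ⟨n, fun a ha => ?_⟩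
    change (LinearMap.range f).mkQ (a • _) = 0
    rw [show a • (⟨x, n, hn⟩ : DRing.torsionSub I E) = 0 from Subtype.ext (hn a ha), map_zero]

/-- Higher local cohomology of a power torsion module vanishes. -/
theorem subsingleton_of_torsion [IsNoetherianRing R] (M : ModuleCat.{u} R)
    (h : LocCoh.IsPowerTorsion I M) (i : ℕ) :
    Subsingleton ((localCohomology I (i + 1)).obj M : Type u) := by
  induction i generalizing M with
  | zero =>
    obtain ⟨S, hS, rfl, hinj, h2, h3⟩ := exists_torsion_presentation M h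
    refine subsingleton_of_forall_eq 0 fun z => ?_
    obtain ⟨w, rfl⟩ := exists_of_map_f_eq_zero I hS 0 z
      ((subsingleton_of_injective (M := S.X₂) 0).elim _ _)
    obtain ⟨y, hy⟩ := (ModuleCat.epi_iff_surjective S.g).mp hS.epi_g (h0 I S.X₃ w)
    obtain ⟨y', rfl⟩ := (h0_bijective S.X₂ h2).2 y
    rw [← h0_map] at hy
    rw [← h0_injective hy, δ_map_g]
  | succ i ih =>
    obtain ⟨S, hS, rfl, hinj, h2, h3⟩ := exists_torsion_presentation M h
    exact subsingleton_left I hS (i + 1) (ih _ h3) (subsingleton_of_injective (i + 1))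

end Groth.Agent.LocCohLib

namespace Groth.Agent.LocCohLib

open CategoryTheory

variable {R : Type*} [CommRing R] {I : Ideal R}

lemma exists_pow_smul_of_fg_of_forall {M : Type*} [AddCommGroup M] [Module R M] (hI : I.FG) (x : M)
    (n₀ : ℕ) (h : ∀ b ∈ I ^ n₀, ∃ n : ℕ, ∀ a ∈ I ^ n, a • (b • x) = 0) :
    ∃ n : ℕ, ∀ a ∈ I ^ n, a • x = 0 := by
  let P : Submodule R M := Submodule.map (LinearMap.toSpanSingleton R M x) (I ^ n₀)
  obtain ⟨n, hn⟩ := exists_pow_smul_eq_zero_of_fg I (P := P) ((Submodule.FG.pow hI n₀).map _)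
    (by rintro _ ⟨b, hb, rfl⟩; exact h b hb)
  refine ⟨n + n₀, fun a ha => ?_⟩
  rw [pow_add] at ha
  induction ha using Submodule.mul_induction_on' with
  | mem_mul_mem r hr b hb => rw [mul_smul]; exact hn r hr _ ⟨b, hb, rfl⟩
  | add y _ z _ hy hz => rw [add_smul, hy, hz, add_zero]

lemma isPowerTorsion_middle {A B C : Type*} [AddCommGroup A] [Module R A] [AddCommGroup B]
    [Module R B] [AddCommGroup C] [Module R C] (hI : I.FG) (f : A →ₗ[R] B) (g : B →ₗ[R] C)
    (hex : ∀ b, g b = 0 → ∃ a, f a = b) (hA : LocCoh.IsPowerTorsion I A)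
    (hC : LocCoh.IsPowerTorsion I C) : LocCoh.IsPowerTorsion I B := by
  intro x
  obtain ⟨n, hn⟩ := hC (g x)
  refine exists_pow_smul_of_fg_of_forall hI x n fun b hb => ?_
  obtain ⟨a, ha⟩ := hex (b • x) (by rw [map_smul]; exact hn b hb)
  obtain ⟨m, hm⟩ := hA a
  exact ⟨m, fun c hc => by rw [← ha, ← map_smul, hm c hc, map_zero]⟩

end Groth.Agent.LocCohLib
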