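import Mathlib
import Groth.Agent.LocCohLib.Torsion

/-! Local cohomology is computed by `Γ_I` of an injective resolution. -/

open CategoryTheory Limits

namespace Groth.Agent.LocCohLib

universe u

variable {R : Type u} [CommRing R] (I : Ideal R)

/-- `Γ_I` of a complex. -/
noncomputable abbrev gammaCx (K : CochainComplex (ModuleCat.{u} R) ℕ) :
    CochainComplex (ModuleCat.{u} R) ℕ :=
  ((DRing.gammaI I).mapHomologicalComplex _).obj K

/-- The underlying element of an element of `Γ_I`. -/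
abbrev uel {K : CochainComplex (ModuleCat.{u} R) ℕ} {i : ℕ} (x : (gammaCx I K).X i) : K.X i :=
  Subtype.val (p := (· ∈ DRing.torsionSub I (K.X i))) x

lemma gammaCx_d_apply {K : CochainComplex (ModuleCat.{u} R) ℕ} (i j : ℕ) (x : (gammaCx I K).X i) :
    uel I (((gammaCx I K).d i j).hom x) = (K.d i j).hom (uel I x) := rfl

variable {I}

lemma mem_Zmod_gammaCx {K : CochainComplex (ModuleCat.{u} R) ℕ} {i : ℕ} (x : (gammaCx I K).X i) :
    x ∈ Zmod (gammaCx I K) i ↔ (K.d i (i + 1)).hom (uel I x) = 0 := by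
  rw [LinearMap.mem_ker, CochainComplex.next]
  exact Subtype.ext_iff

/-- A map out of `R/I^n` from an element killed by `I^n`. -/
noncomputable def toHom {N : ModuleCat.{u} R} (x : N) {n : ℕ} (h : ∀ a ∈ I ^ n, a • x = 0) :
    quot I n ⟶ N :=
  ModuleCat.ofHom (Submodule.liftQ (I ^ n) (LinearMap.toSpanSingleton R N x)
    fun a ha => by rw [LinearMap.mem_ker]; exact h a ha)

lemma toHom_mk {N : ModuleCat.{u} R} (x : N) {n : ℕ} (h : ∀ a ∈ I ^ n, a • x = 0) (r : R) :
    (toHom x h).hom (Submodule.Quotient.mk r) = r • x := rfl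

lemma hom_quot_ext {N : ModuleCat.{u} R} {n : ℕ} {f g : quot I n ⟶ N}
    (h : f.hom (Submodule.Quotient.mk 1) = g.hom (Submodule.Quotient.mk 1)) : f = g := by
  apply ModuleCat.hom_ext
  refine LinearMap.ext fun z => ?_
  obtain ⟨z, rfl⟩ := Submodule.Quotient.mk_surjective _ z
  have hz : (Submodule.Quotient.mk z : R ⧸ I ^ n) = z • Submodule.Quotient.mk 1 := by
    rw [← Submodule.Quotient.mk_smul, smul_eq_mul, mul_one]
  rw [hz]
  exact ((map_smul f.hom z _).trans (congrArg (z • ·) h)).trans (map_smul g.hom z _).symm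

lemma smul_eval {N : ModuleCat.{u} R} {n : ℕ} (f : quot I n ⟶ N) {a : R} (ha : a ∈ I ^ n) :
    a • f.hom (Submodule.Quotient.mk 1) = 0 := by
  rw [← map_smul, ← Submodule.Quotient.mk_smul, smul_eq_mul, mul_one,
    (Submodule.Quotient.mk_eq_zero _).mpr ha, map_zero]

variable {M M' : ModuleCat.{u} R} (J : InjectiveResolution M)

lemma toHom_comp_d {i n : ℕ} (z : Zmod (gammaCx I J.cocomplex) i)
    (h : ∀ a ∈ I ^ n, a • uel I z.1 = 0) : toHom (uel I z.1) h ≫ J.cocomplex.d i (i + 1) = 0 := by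
  refine hom_quot_ext ?_
  change (J.cocomplex.d i (i + 1)).hom ((1 : R) • uel I z.1) = 0
  rw [one_smul]
  exact (mem_Zmod_gammaCx z.1).mp z.2

/-- The class in local cohomology of a torsion cocycle of an injective resolution. -/
noncomputable def gmkFun (i : ℕ) (z : Zmod (gammaCx I J.cocomplex) i) : (localCohomology I i).obj M :=
  ι I i M _ (J.extMk (toHom (uel I z.1) (z.1 : DRing.torsionSub I _).2.choose_spec) (i + 1) rfl
    (toHom_comp_d J z _))

lemma gmkFun_eq {i : ℕ} (z : Zmod (gammaCx I J.cocomplex) i) (n : ℕ)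
    (h : ∀ a ∈ I ^ n, a • uel I z.1 = 0) :
    gmkFun J i z = ι I i M n (J.extMk (toHom (uel I z.1) h) (i + 1) rfl (toHom_comp_d J z h)) := by
  unfold gmkFun
  set k := (z.1 : DRing.torsionSub I _).2.choose
  rw [← ι_comp (le_max_left k n), ← ι_comp (le_max_right k n) (J.extMk (toHom (uel I z.1) h) _ _ _),
    J.mk₀_comp_extMk, J.mk₀_comp_extMk]
  congr 2
  exact hom_quot_ext rfl

lemma smul_extMk {i : ℕ} {X : ModuleCat.{u} R} (r : R) (f : X ⟶ J.cocomplex.X i)
    (hf : f ≫ J.cocomplex.d i (i + 1) = 0) :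
    r • J.extMk f (i + 1) rfl hf = J.extMk (r • f) (i + 1) rfl (by simp [hf]) := by
  calc r • J.extMk f (i + 1) rfl hf
      = r • (Abelian.Ext.mk₀ (𝟙 X)).comp (J.extMk f (i + 1) rfl hf) (zero_add i) := by simp
    _ = (Abelian.Ext.mk₀ (r • 𝟙 X)).comp (J.extMk f (i + 1) rfl hf) (zero_add i) := by
      rw [Abelian.Ext.mk₀_smul, Abelian.Ext.smul_comp]
    _ = _ := by
      rw [J.mk₀_comp_extMk]
      congr 1
      simp

/-- The class map. -/
noncomputable def gmk (i : ℕ) :
    Zmod (gammaCx I J.cocomplex) i →ₗ[R] ((localCohomology I i).obj M : Type u) where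
  toFun := gmkFun J i
  map_add' z w := by
    obtain ⟨a, ha⟩ := (z.1 : DRing.torsionSub I _).2
    obtain ⟨b, hb⟩ := (w.1 : DRing.torsionSub I _).2
    have ha' : ∀ r ∈ I ^ (max a b), r • uel I z.1 = 0 :=
      fun r hr => ha r (Ideal.pow_le_pow_right (le_max_left a b) hr)
    have hb' : ∀ r ∈ I ^ (max a b), r • uel I w.1 = 0 :=
      fun r hr => hb r (Ideal.pow_le_pow_right (le_max_right a b) hr)
    rw [gmkFun_eq J z _ ha', gmkFun_eq J w _ hb', gmkFun_eq J (z + w) (max a b) (fun r hr => by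
      change r • (uel I z.1 + uel I w.1) = 0
      rw [smul_add, ha' r hr, hb' r hr, add_zero]), ← map_add, J.add_extMk]
    congr 2
    refine hom_quot_ext ?_
    change (1 : R) • (uel I z.1 + uel I w.1) = (1 : R) • uel I z.1 + (1 : R) • uel I w.1
    rw [smul_add]
  map_smul' c z := by
    obtain ⟨a, ha⟩ := (z.1 : DRing.torsionSub I _).2
    rw [gmkFun_eq J z a ha, gmkFun_eq J (c • z) a (fun r hr => by
      change r • (c • uel I z.1) = 0
      rw [smul_comm, ha r hr, smul_zero]), RingHom.id_apply, ← map_smul, smul_extMk]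
    congr 2
    refine hom_quot_ext ?_
    change (1 : R) • (c • uel I z.1) = c • ((1 : R) • uel I z.1)
    rw [smul_comm]

lemma gmk_eq {i : ℕ} (z : Zmod (gammaCx I J.cocomplex) i) (n : ℕ)
    (h : ∀ a ∈ I ^ n, a • uel I z.1 = 0) :
    gmk J i z = ι I i M n (J.extMk (toHom (uel I z.1) h) (i + 1) rfl (toHom_comp_d J z h)) :=
  gmkFun_eq J z n h

lemma gmk_surjective (i : ℕ) : Function.Surjective (gmk (I := I) J i) := by
  intro x
  obtain ⟨n, α, rfl⟩ := exists_ι x
  obtain ⟨f, hf, rfl⟩ := J.extMk_surjective α (i + 1) rfl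
  let x0 : (gammaCx I J.cocomplex).X i :=
    (⟨f.hom (Submodule.Quotient.mk 1), n, fun a ha => smul_eval f ha⟩ : DRing.torsionSub I _)
  refine ⟨⟨x0, (mem_Zmod_gammaCx x0).mpr congr($(hf).hom _)⟩, ?_⟩
  rw [gmk_eq J _ n fun a ha => smul_eval f ha]
  congr 2
  exact hom_quot_ext (one_smul R _)

lemma gmk_eq_zero_iff_succ {p : ℕ} (z : Zmod (gammaCx I J.cocomplex) (p + 1)) :
    gmk J (p + 1) z = 0 ↔
      ∃ w : (gammaCx I J.cocomplex).X p, ((gammaCx I J.cocomplex).d p (p + 1)).hom w = z.1 := by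
  obtain ⟨n, hn⟩ := (z.1 : DRing.torsionSub I _).2
  rw [gmk_eq J z n hn, ι_eq_zero_iff]
  simp only [J.mk₀_comp_extMk, J.extMk_eq_zero_iff _ _ _ _ p rfl]
  constructor
  · rintro ⟨m, h, g, hg⟩
    refine ⟨(⟨g.hom (Submodule.Quotient.mk 1), m, fun a ha => smul_eval g ha⟩ :
      DRing.torsionSub I _), Subtype.ext ?_⟩
    exact congr($(hg).hom (Submodule.Quotient.mk 1)).trans (one_smul R _)
  · rintro ⟨w, hw⟩
    obtain ⟨k, hk⟩ := (w : DRing.torsionSub I _).2
    have hk' : ∀ a ∈ I ^ max n k, a • uel I w = 0 :=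
      fun a ha => hk a (Ideal.pow_le_pow_right (le_max_right n k) ha)
    refine ⟨max n k, le_max_left n k, toHom (uel I w) hk', hom_quot_ext ?_⟩
    change (J.cocomplex.d p (p + 1)).hom ((1 : R) • uel I w) = (1 : R) • uel I z.1
    rw [one_smul, one_smul, ← gammaCx_d_apply, hw]

lemma gmk_zero_injective : Function.Injective (gmk (I := I) J 0) := by
  refine (injective_iff_map_eq_zero _).mpr fun z hz => ?_
  obtain ⟨n, hn⟩ := (z.1 : DRing.torsionSub I _).2
  rw [gmk_eq J z n hn, ι_eq_zero_iff] at hz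
  obtain ⟨m, h, hm⟩ := hz
  rw [J.mk₀_comp_extMk] at hm
  have h2 := congrArg J.extEquivCohomologyClass hm
  rw [InjectiveResolution.extEquivCohomologyClass_extMk,
    show J.extEquivCohomologyClass (0 : Abelian.Ext.{u} (quot I m) M 0) = 0 from
      J.extAddEquivCohomologyClass.map_zero,
    CochainComplex.HomComplex.CohomologyClass.mk_eq_zero_iff,
    CochainComplex.HomComplex.Cocycle.fromSingleMk_mem_coboundaries_iff _ _ _ _ _ (-1 : ℤ) (by simp)]
    at h2
  obtain ⟨g, hg⟩ := h2
  have hz0 : IsZero (J.cochainComplex.X (-1)) :=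
    J.cochainComplex.isZero_of_isStrictlyGE 0 (-1) (by simp)
  rw [hz0.eq_of_tgt g 0, zero_comp] at hg
  have h3 : qmap I h ≫ toHom (uel I z.1) hn = 0 := by
    rw [← cancel_mono (J.cochainComplexXIso ((0 : ℕ) : ℤ) 0 rfl).inv, zero_comp]
    exact hg.symm
  refine Subtype.ext (Subtype.ext ?_)
  exact (one_smul R _).symm.trans congr($(h3).hom (Submodule.Quotient.mk 1))

lemma ker_gmk (i : ℕ) :
    LinearMap.ker (gmk (I := I) J i) = LinearMap.ker (cls (gammaCx I J.cocomplex) i) := by
  cases i with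
  | zero =>
    rw [LinearMap.ker_eq_bot.mpr (gmk_zero_injective J), eq_comm, LinearMap.ker_eq_bot,
      injective_iff_map_eq_zero]
    intro z hz
    rw [cls_eq_zero_iff' _ (j := 0) (by simp)] at hz
    obtain ⟨w, hw⟩ := hz
    rw [HomologicalComplex.shape _ 0 0 (by simp)] at hw
    exact Subtype.ext hw.symm
  | succ p =>
    ext z
    rw [LinearMap.mem_ker, LinearMap.mem_ker, gmk_eq_zero_iff_succ,
      cls_eq_zero_iff' _ (j := p) (by simp)]

/-- `H^i(Γ_I J) ≅ H^i_I(M)`. -/
noncomputable def gammaEquiv (I : Ideal R) {M : ModuleCat.{u} R} (J : InjectiveResolution M) (i : ℕ) :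
    ((gammaCx I J.cocomplex).homology i : Type u) ≃ₗ[R] ((localCohomology I i).obj M : Type u) :=
  ((cls (gammaCx I J.cocomplex) i).quotKerEquivOfSurjective (cls_surjective _ _)).symm ≪≫ₗ
    Submodule.quotEquivOfEq _ _ (ker_gmk J i).symm ≪≫ₗ
    (gmk J i).quotKerEquivOfSurjective (gmk_surjective J i)

lemma gammaEquiv_cls (i : ℕ) (z : Zmod (gammaCx I J.cocomplex) i) :
    gammaEquiv I J i (cls _ i z) = gmk J i z := by
  have h : ((cls (gammaCx I J.cocomplex) i).quotKerEquivOfSurjective (cls_surjective _ _)).symm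
      (cls _ i z) = Submodule.Quotient.mk z :=
    (LinearEquiv.symm_apply_eq _).mpr (LinearMap.quotKerEquivOfSurjective_apply_mk _ _ _).symm
  simp only [gammaEquiv, LinearEquiv.trans_apply, h, Submodule.quotEquivOfEq_mk,
    LinearMap.quotKerEquivOfSurjective_apply_mk]

lemma gammaEquiv_naturality {g : M ⟶ M'} {J' : InjectiveResolution M'}
    (φ : InjectiveResolution.Hom J J' g) (i : ℕ) (x : (gammaCx I J.cocomplex).homology i) :
    gammaEquiv I J' i ((HomologicalComplex.homologyMap
        (((DRing.gammaI I).mapHomologicalComplex _).map φ.hom) i).hom x) =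
      ((localCohomology I i).map g).hom (gammaEquiv I J i x) := by
  obtain ⟨z, rfl⟩ := cls_surjective _ _ x
  obtain ⟨n, hn⟩ := (z.1 : DRing.torsionSub I _).2
  rw [homologyMap_cls, gammaEquiv_cls, gammaEquiv_cls, gmk_eq J z n hn, map_ι,
    InjectiveResolution.extMk_comp_mk₀ _ _ _ _ φ, gmk_eq J' _ n (fun a ha => by
      change a • (φ.hom.f i).hom (uel I z.1) = 0
      rw [← map_smul, hn a ha, map_zero])]
  congr 2
  refine hom_quot_ext ?_
  change (1 : R) • (φ.hom.f i).hom (uel I z.1) = (φ.hom.f i).hom ((1 : R) • uel I z.1)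
  rw [one_smul, one_smul]

/-- Local cohomology is the right derived functor of `Γ_I`. -/
noncomputable def rightDerivedIso (I : Ideal R) (i : ℕ) :
    (DRing.gammaI I).rightDerived i ≅ localCohomology I i :=
  NatIso.ofComponents (fun M => (injectiveResolution M).isoRightDerivedObj (DRing.gammaI I) i ≪≫
      (gammaEquiv I (injectiveResolution M) i).toModuleIso) fun {M M'} g => by
    let φ : InjectiveResolution.Hom (injectiveResolution M) (injectiveResolution M') g :=
      ⟨InjectiveResolution.desc g (injectiveResolution M') (injectiveResolution M),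
        (InjectiveResolution.desc_commutes_zero g _ _).trans (by simp)⟩
    rw [Iso.trans_hom, Iso.trans_hom, ← Category.assoc,
      InjectiveResolution.isoRightDerivedObj_hom_naturality g _ _ φ.hom
        (InjectiveResolution.desc_commutes_zero g _ _)]
    rw [Category.assoc, Category.assoc]
    refine congrArg (_ ≫ ·) ?_
    apply ModuleCat.hom_ext
    refine LinearMap.ext fun x => ?_
    exact gammaEquiv_naturality _ φ i x

end Groth.Agent.LocCohLib
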