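import Mathlib
import Groth.Agent.LocCohLib.Gamma

/-! Injective resolutions from elementwise exactness. -/

open CategoryTheory Limits

namespace Groth.Agent.LocCohLib

universe u

variable {R : Type u} [CommRing R]

/-- An injective resolution from an exact augmented complex of injective modules. -/
theorem exists_injectiveResolution {M : ModuleCat.{u} R} (K : CochainComplex (ModuleCat.{u} R) ℕ)
    (hK : ∀ n, Injective (K.X n)) (f : M ⟶ K.X 0) (hf : Function.Injective f.hom)
    (h0 : ∀ x, (K.d 0 1).hom x = 0 ↔ ∃ m, f.hom m = x)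
    (hn : ∀ (n : ℕ) x, (K.d (n + 1) (n + 2)).hom x = 0 → ∃ y, (K.d n (n + 1)).hom y = x) :
    ∃ J : InjectiveResolution M, J.cocomplex = K := by
  have hfd : f ≫ K.d 0 1 = 0 := by
    ext m
    exact (h0 _).mpr ⟨m, rfl⟩
  refine ⟨{ cocomplex := K
            injective := hK
            ι := (CochainComplex.fromSingle₀Equiv _ _).symm ⟨f, hfd⟩
            quasiIso := ⟨fun n => ?_⟩ }, rfl⟩
  cases n with
  | zero =>
    rw [CochainComplex.quasiIsoAt₀_iff, ShortComplex.quasiIso_iff_of_zeros]
    · refine (ShortComplex.exact_and_mono_f_iff_of_iso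
        (S₂ := ShortComplex.mk f (K.d 0 1) hfd) ?_).2 ⟨?_, (ModuleCat.mono_iff_injective f).mpr hf⟩
      · exact ShortComplex.isoMk (Iso.refl _) (Iso.refl _) (Iso.refl _)
          ((Category.id_comp _).trans (Category.comp_id _).symm)
          ((Category.id_comp _).trans (Category.comp_id _).symm)
      · exact (ShortComplex.moduleCat_exact_iff _).mpr fun x hx => (h0 x).mp hx
    all_goals first | rfl | exact K.shape 0 0 (by simp)
  | succ n =>
    rw [quasiIsoAt_iff_exactAt]
    · rw [HomologicalComplex.exactAt_iff' _ n (n + 1) (n + 2) (by simp) (by simp),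
        ShortComplex.moduleCat_exact_iff]
      exact hn n
    · exact CochainComplex.exactAt_succ_single_obj _ _

variable {M : ModuleCat.{u} R} (J : InjectiveResolution M)

lemma resolution_exact (n : ℕ) (x : J.cocomplex.X (n + 1))
    (hx : (J.cocomplex.d (n + 1) (n + 2)).hom x = 0) :
    ∃ y, (J.cocomplex.d n (n + 1)).hom y = x :=
  (ShortComplex.moduleCat_exact_iff _).mp (J.exact_succ n) x hx

lemma ι_zero_injective : Function.Injective (J.ι.f 0).hom :=
  (ModuleCat.mono_iff_injective _).mp inferInstance

lemma exists_ι_zero (x : J.cocomplex.X 0) (hx : (J.cocomplex.d 0 1).hom x = 0) :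
    ∃ m, (J.ι.f 0).hom m = x :=
  (ShortComplex.moduleCat_exact_iff _).mp J.exact₀ x hx

end Groth.Agent.LocCohLib
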