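import Mathlib
import Groth.Agent.LocCohLib.Resolution

/-! Vanishing above the number of generators. -/

open CategoryTheory Limits

namespace Groth.Agent.LocCohLib

universe u v

variable {R : Type u} [CommRing R]

/-- Every element is, up to bounded `a`-torsion, divisible by powers of `a`. -/
def DivProp (a : R) (E : Type v) [AddCommGroup E] [Module R E] : Prop :=
  ∀ k : ℕ, ∃ l : ℕ, ∀ z : E, ∃ w : E, a ^ l • (a ^ k • w - z) = 0

theorem divProp_of_injective [IsNoetherianRing R] (E : Type u) [AddCommGroup E] [Module R E]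
    [Module.Injective R E] (a : R) : DivProp a E := by
  intro k
  let c : ℕ →o Submodule R R :=
    ⟨fun n => LinearMap.ker (LinearMap.mulLeft R (a ^ n)), fun m n h x hx => by
      rw [LinearMap.mem_ker, LinearMap.mulLeft_apply] at hx ⊢
      obtain ⟨d, rfl⟩ := Nat.exists_eq_add_of_le h
      rw [pow_add, mul_right_comm, hx, zero_mul]⟩
  obtain ⟨l, hl⟩ := monotone_stabilizes_iff_noetherian.mpr inferInstance c
  refine ⟨l, fun z => ?_⟩
  let j := (c (l + k)).liftQ (LinearMap.mulLeft R (a ^ (l + k))) le_rfl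
  have hj : Function.Injective j := LinearMap.ker_eq_bot.mp (Submodule.ker_liftQ_eq_bot' _ _ rfl)
  have hg : c (l + k) ≤ LinearMap.ker (LinearMap.toSpanSingleton R E (a ^ l • z)) := by
    intro x hx
    rw [← hl (l + k) (Nat.le_add_right l k)] at hx
    rw [LinearMap.mem_ker, LinearMap.toSpanSingleton_apply, smul_smul]
    change a ^ l * x = 0 at hx
    rw [mul_comm, hx, zero_smul]
  obtain ⟨h, hh⟩ := Module.Injective.extension_property R E _ _ j hj ((c (l + k)).liftQ _ hg)
  refine ⟨h 1, ?_⟩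
  have h1 : h (a ^ (l + k) * 1) = (1 : R) • (a ^ l • z) := congr($hh (Submodule.Quotient.mk 1))
  rw [one_smul, ← smul_eq_mul, map_smul] at h1
  rw [smul_sub, smul_smul, ← pow_add, h1, sub_self]

/-- The `I`-torsion part of the complex is exact in degrees above `s`. -/
def ExactAbove (I : Ideal R) (K : CochainComplex (ModuleCat.{u} R) ℕ) (s : ℕ) : Prop :=
  ∀ i, s ≤ i → ∀ x ∈ DRing.torsionSub I (K.X (i + 1)), (K.d (i + 1) (i + 2)).hom x = 0 →
    ∃ y ∈ DRing.torsionSub I (K.X i), (K.d i (i + 1)).hom y = x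

lemma torsionSub_mono {I J : Ideal R} (h : I ≤ J) (E : Type u) [AddCommGroup E] [Module R E] :
    DRing.torsionSub J E ≤ DRing.torsionSub I E :=
  fun _ ⟨n, hn⟩ => ⟨n, fun a ha => hn a (Ideal.pow_right_mono h n ha)⟩

lemma mem_torsionSub_sup {I J : Ideal R} {E : Type u} [AddCommGroup E] [Module R E] {x : E}
    (h₁ : x ∈ DRing.torsionSub I E) (h₂ : x ∈ DRing.torsionSub J E) :
    x ∈ DRing.torsionSub (I ⊔ J) E := by
  obtain ⟨n, hn⟩ := h₁
  obtain ⟨m, hm⟩ := h₂
  refine ⟨n + m, fun a ha => ?_⟩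
  obtain ⟨b, hb, c, hc, rfl⟩ := Submodule.mem_sup.mp (Ideal.sup_pow_add_le_pow_sup_pow ha)
  rw [add_smul, hn b hb, hm c hc, add_zero]

lemma mem_torsionSub_span_singleton {a : R} {E : Type u} [AddCommGroup E] [Module R E] {x : E}
    {k : ℕ} (h : a ^ k • x = 0) : x ∈ DRing.torsionSub (Ideal.span {a}) E := by
  refine ⟨k, fun b hb => ?_⟩
  rw [Ideal.span_singleton_pow, Ideal.mem_span_singleton'] at hb
  obtain ⟨c, rfl⟩ := hb
  rw [mul_smul, h, smul_zero]

theorem exactAbove_sup_span {J : Ideal R} (a : R) {K : CochainComplex (ModuleCat.{u} R) ℕ} {s : ℕ}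
    (h : ExactAbove J K s) (hdiv : ∀ i, DivProp a (DRing.torsionSub J (K.X i))) :
    ExactAbove (J ⊔ Ideal.span {a}) K (s + 1) := by
  intro i hi x hx hdx
  obtain ⟨i, rfl⟩ := Nat.exists_eq_add_of_le' (show 1 ≤ i by omega)
  obtain ⟨y, hy, rfl⟩ := h (i + 1) (by omega) x (torsionSub_mono le_sup_left _ hx) hdx
  obtain ⟨k, hk⟩ := torsionSub_mono le_sup_right _ hx
  have hk' : (K.d (i + 1) (i + 2)).hom (a ^ k • y) = 0 := by
    rw [map_smul]
    exact hk _ (Ideal.pow_mem_pow (Ideal.mem_span_singleton_self a) k)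
  obtain ⟨z, hz, hzy⟩ := h i (by omega) (a ^ k • y) (Submodule.smul_mem _ _ hy) hk'
  obtain ⟨l, hl⟩ := hdiv i k
  obtain ⟨⟨w, hw⟩, hwz⟩ := hl ⟨z, hz⟩
  have hwz' : a ^ l • (a ^ k • w - z) = 0 := congrArg Subtype.val hwz
  refine ⟨y - (K.d i (i + 1)).hom w, mem_torsionSub_sup
    (sub_mem hy (DRing.map_mem_torsionSub _ _ hw)) (mem_torsionSub_span_singleton (k := l + k) ?_), ?_⟩
  · calc a ^ (l + k) • (y - (K.d i (i + 1)).hom w)
        = a ^ l • (a ^ k • y) - a ^ l • (a ^ k • (K.d i (i + 1)).hom w) := by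
          rw [smul_sub, pow_add, mul_smul, mul_smul]
      _ = -(K.d i (i + 1)).hom (a ^ l • (a ^ k • w - z)) := by
          rw [← hzy, map_smul, map_sub, map_smul, smul_sub]; abel
      _ = 0 := by rw [hwz', map_zero, neg_zero]
  · have hdd : (K.d (i + 1) (i + 1 + 1)).hom ((K.d i (i + 1)).hom w) = 0 :=
      congr($(K.d_comp_d i (i + 1) (i + 1 + 1)).hom w)
    rw [map_sub, hdd, sub_zero]

theorem exactAbove_span [IsNoetherianRing R] {K : CochainComplex (ModuleCat.{u} R) ℕ}
    (hinj : ∀ i, Injective (K.X i)) (h : ExactAbove (⊥ : Ideal R) K 0) (s : Finset R) :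
    ExactAbove (Ideal.span (s : Set R)) K s.card := by
  classical
  induction s using Finset.induction_on with
  | empty => simpa using h
  | insert a s ha ih =>
    rw [Finset.card_insert_of_notMem ha, Finset.coe_insert, Ideal.span_insert, sup_comm]
    refine exactAbove_sup_span a ih fun i => ?_
    haveI : Injective (ModuleCat.of R (K.X i)) := hinj i
    haveI := Module.injective_module_of_injective_object R (K.X i)
    haveI := injective_torsionSub (Ideal.span (s : Set R)) (K.X i : Type u)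
    exact divProp_of_injective _ a

lemma exactAbove_bot {M : ModuleCat.{u} R} (J : InjectiveResolution M) :
    ExactAbove (⊥ : Ideal R) J.cocomplex 0 := fun i _ x _ hx => by
  obtain ⟨y, hy⟩ := resolution_exact J i x hx
  exact ⟨y, ⟨1, fun a ha => by simp_all⟩, hy⟩

theorem subsingleton_of_exactAbove {I : Ideal R} {M : ModuleCat.{u} R} (J : InjectiveResolution M)
    {s : ℕ} (h : ExactAbove I J.cocomplex s) (i : ℕ) (hi : s < i) :
    Subsingleton ((localCohomology I i).obj M : Type u) := by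
  obtain ⟨p, rfl⟩ := Nat.exists_eq_add_of_le' (show 1 ≤ i by omega)
  refine subsingleton_of_forall_eq 0 fun x => ?_
  obtain ⟨z, rfl⟩ := gmk_surjective J (p + 1) x
  obtain ⟨y, hy, hyz⟩ := h p (by omega) _ (z.1 : DRing.torsionSub I _).2
    ((mem_Zmod_gammaCx z.1).mp z.2)
  exact (gmk_eq_zero_iff_succ J z).mpr ⟨(⟨y, hy⟩ : DRing.torsionSub I _), Subtype.ext hyz⟩

theorem exactAbove_of_subsingleton {I : Ideal R} {M : ModuleCat.{u} R} (J : InjectiveResolution M)
    {s : ℕ} (h : ∀ i, s < i → Subsingleton ((localCohomology I i).obj M : Type u)) :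
    ExactAbove I J.cocomplex s := by
  intro p hp x hx hdx
  let x0 : (gammaCx I J.cocomplex).X (p + 1) := (⟨x, hx⟩ : DRing.torsionSub I _)
  obtain ⟨w, hw⟩ := (gmk_eq_zero_iff_succ J ⟨x0, (mem_Zmod_gammaCx x0).mpr hdx⟩).mp
    ((h (p + 1) (by omega)).elim _ _)
  exact ⟨_, (w : DRing.torsionSub I _).2, congrArg Subtype.val hw⟩

/-- Local cohomology vanishes above the number of generators. -/
theorem subsingleton_of_card_lt [IsNoetherianRing R] (s : Finset R) (M : ModuleCat.{u} R) (i : ℕ)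
    (hi : s.card < i) :
    Subsingleton ((localCohomology (Ideal.span (s : Set R)) i).obj M : Type u) :=
  subsingleton_of_exactAbove (injectiveResolution M)
    (exactAbove_span (injectiveResolution M).injective (exactAbove_bot _) s) i hi

end Groth.Agent.LocCohLib
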