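import Mathlib
import Groth.Agent.LocCohLib.Cd

/-! Acyclic resolutions compute local cohomology. -/

open CategoryTheory Limits

namespace Groth.Agent.LocCohLib

universe u

variable {R : Type u} [CommRing R]

/-- Torsion cocycles. -/
noncomputable def ZI (I : Ideal R) (K : CochainComplex (ModuleCat.{u} R) ℕ) (i : ℕ) :
    Submodule R (K.X i) :=
  DRing.torsionSub I (K.X i) ⊓ LinearMap.ker (K.d i (i + 1)).hom

/-- Torsion coboundaries. -/
noncomputable def BI (I : Ideal R) (K : CochainComplex (ModuleCat.{u} R) ℕ) :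
    (i : ℕ) → Submodule R (K.X i)
  | 0 => ⊥
  | p + 1 => Submodule.map (K.d p (p + 1)).hom (DRing.torsionSub I (K.X p))

lemma mem_BI_succ {I : Ideal R} {K : CochainComplex (ModuleCat.{u} R) ℕ} {p : ℕ} {x : K.X (p + 1)} :
    x ∈ BI I K (p + 1) ↔ ∃ y ∈ DRing.torsionSub I (K.X p), (K.d p (p + 1)).hom y = x :=
  Submodule.mem_map

/-- `N` is presented as torsion cocycles modulo torsion coboundaries. -/
def Presents (I : Ideal R) (K : CochainComplex (ModuleCat.{u} R) ℕ) (i : ℕ) (N : Type u)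
    [AddCommGroup N] [Module R N] : Prop :=
  ∃ S : ZI I K i →ₗ[R] N, Function.Surjective S ∧ ∀ x, S x = 0 ↔ (x : K.X i) ∈ BI I K i

lemma Presents.comp_equiv {I : Ideal R} {K : CochainComplex (ModuleCat.{u} R) ℕ} {i : ℕ} {N N' : Type u}
    [AddCommGroup N] [Module R N] [AddCommGroup N'] [Module R N'] (h : Presents I K i N)
    (e : N ≃ₗ[R] N') : Presents I K i N' := by
  obtain ⟨S, hS, hker⟩ := h
  exact ⟨e.toLinearMap ∘ₗ S, e.surjective.comp hS, fun x => e.map_eq_zero_iff.trans (hker x)⟩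

lemma Presents.subsingleton {I : Ideal R} {K : CochainComplex (ModuleCat.{u} R) ℕ} {i : ℕ} {N : Type u}
    [AddCommGroup N] [Module R N] (h : Presents I K i N) (h' : ZI I K i ≤ BI I K i) :
    Subsingleton N := by
  obtain ⟨S, hS, hker⟩ := h
  refine subsingleton_of_forall_eq 0 fun y => ?_
  obtain ⟨x, rfl⟩ := hS y
  exact (hker x).mpr (h' x.2)

lemma Presents.le_of_subsingleton {I : Ideal R} {K : CochainComplex (ModuleCat.{u} R) ℕ} {i : ℕ}
    {N : Type u} [AddCommGroup N] [Module R N] (h : Presents I K i N) [Subsingleton N] :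
    ZI I K i ≤ BI I K i := by
  obtain ⟨S, hS, hker⟩ := h
  exact fun x hx => (hker ⟨x, hx⟩).mp (Subsingleton.elim _ _)

lemma Presents.exists_equiv {I : Ideal R} {K : CochainComplex (ModuleCat.{u} R) ℕ} {i : ℕ}
    {N N' : Type u} [AddCommGroup N] [Module R N] [AddCommGroup N'] [Module R N']
    (h : Presents I K i N) (h' : Presents I K i N') : Nonempty (N ≃ₗ[R] N') := by
  obtain ⟨S, hS, hker⟩ := h
  obtain ⟨S', hS', hker'⟩ := h'
  exact ⟨(S.quotKerEquivOfSurjective hS).symm ≪≫ₗ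
    Submodule.quotEquivOfEq _ _ (Submodule.ext fun x => (hker x).trans (hker' x).symm) ≪≫ₗ
    S'.quotKerEquivOfSurjective hS'⟩

lemma presents_injectiveResolution (I : Ideal R) {M : ModuleCat.{u} R} (J : InjectiveResolution M)
    (i : ℕ) : Presents I J.cocomplex i ((localCohomology I i).obj M : Type u) := by
  let e : ZI I J.cocomplex i →ₗ[R] Zmod (gammaCx I J.cocomplex) i :=
    { toFun := fun x => ⟨(⟨x.1, x.2.1⟩ : DRing.torsionSub I _), (mem_Zmod_gammaCx _).mpr x.2.2⟩
      map_add' := fun _ _ => rfl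
      map_smul' := fun _ _ => rfl }
  have he : Function.Surjective e := fun z =>
    ⟨⟨uel I z.1, (z.1 : DRing.torsionSub I _).2, (mem_Zmod_gammaCx _).mp z.2⟩, rfl⟩
  refine ⟨gmk J i ∘ₗ e, (gmk_surjective J i).comp he, fun x => ?_⟩
  cases i with
  | zero =>
    rw [LinearMap.comp_apply, ← (gmk J 0).map_zero, (gmk_zero_injective J).eq_iff]
    simp only [BI, Submodule.mem_bot]
    exact ⟨fun h => congrArg (fun z : Zmod (gammaCx I J.cocomplex) 0 => uel I z.1) h,
      fun h => Subtype.ext (Subtype.ext h)⟩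
  | succ p =>
    rw [LinearMap.comp_apply, gmk_eq_zero_iff_succ, mem_BI_succ]
    constructor
    · rintro ⟨w, hw⟩
      exact ⟨uel I w, (w : DRing.torsionSub I _).2, congrArg (uel I) hw⟩
    · rintro ⟨y, hy, hyx⟩
      exact ⟨(⟨y, hy⟩ : DRing.torsionSub I _), Subtype.ext hyx⟩

section shift

variable (K : CochainComplex (ModuleCat.{u} R) ℕ)

/-- Cocycles. -/
noncomputable abbrev Zker (n : ℕ) : ModuleCat.{u} R :=
  ModuleCat.of R (LinearMap.ker (K.d n (n + 1)).hom)

/-- The differential into the cocycles. -/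
noncomputable def dZ (n : ℕ) : K.X n ⟶ Zker K (n + 1) :=
  ModuleCat.ofHom ((K.d n (n + 1)).hom.codRestrict _ fun x =>
    congr($(K.d_comp_d n (n + 1) (n + 1 + 1)).hom x))

/-- The inclusion of the cocycles. -/
noncomputable def iZ (n : ℕ) : Zker K n ⟶ K.X n :=
  ModuleCat.ofHom (LinearMap.ker (K.d n (n + 1)).hom).subtype

/-- The dimension shifting sequence. -/
noncomputable def shiftSeq (n : ℕ) : ShortComplex (ModuleCat.{u} R) :=
  ShortComplex.mk (iZ K n) (dZ K n) (by
    apply ModuleCat.hom_ext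
    exact LinearMap.ext fun x => Subtype.ext x.2)

variable {K} (hK : ∀ (n : ℕ) x, (K.d (n + 1) (n + 2)).hom x = 0 → ∃ y, (K.d n (n + 1)).hom y = x)

include hK in
lemma shiftSeq_shortExact (n : ℕ) : (shiftSeq K n).ShortExact where
  exact := (ShortComplex.moduleCat_exact_iff _).mpr fun x hx =>
    ⟨⟨x, congrArg Subtype.val hx⟩, rfl⟩
  mono_f := (ModuleCat.mono_iff_injective _).mpr Subtype.val_injective
  epi_g := (ModuleCat.epi_iff_surjective _).mpr fun ⟨x, hx⟩ => by
    obtain ⟨y, hy⟩ := hK n x hx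
    exact ⟨y, Subtype.ext hy⟩

variable {I : Ideal R}
  (hac : ∀ (n j : ℕ), Subsingleton ((localCohomology I (j + 1)).obj (K.X n) : Type u))

include hK hac in
lemma exists_shift : ∀ (i n p : ℕ), p = n + i →
    ∃ S : ((localCohomology I 0).obj (Zker K (p + 1)) : Type u) →ₗ[R]
        ((localCohomology I (i + 1)).obj (Zker K n) : Type u),
      Function.Surjective S ∧ ∀ x, S x = 0 ↔
        ∃ y, ((localCohomology I 0).map (dZ K p)).hom y = x := by
  intro i
  induction i with
  | zero =>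
    intro n p hp
    obtain rfl : p = n := hp
    have hS := shiftSeq_shortExact hK p
    refine ⟨δ I hS 0, fun z => exists_of_map_f_eq_zero I hS 0 z ((hac p 0).elim _ _),
      fun x => ⟨fun h => exists_of_δ_eq_zero I hS 0 x h, ?_⟩⟩
    rintro ⟨y, rfl⟩
    exact δ_map_g I hS 0 y
  | succ i ih =>
    intro n p hp
    obtain ⟨S, hS', hker⟩ := ih (n + 1) p (by omega)
    have hS := shiftSeq_shortExact hK n
    have hinj : Function.Injective (δ I hS (i + 1)) := by
      refine (injective_iff_map_eq_zero _).mpr fun z hz => ?_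
      obtain ⟨w, rfl⟩ := exists_of_δ_eq_zero I hS (i + 1) z hz
      exact (congrArg ((localCohomology I (i + 1)).map (shiftSeq K n).g).hom
        ((hac n i).elim w 0)).trans (map_zero _)
    have hsurj : Function.Surjective (δ I hS (i + 1)) := fun z =>
      exists_of_map_f_eq_zero I hS (i + 1) z ((hac n (i + 1)).elim _ _)
    refine ⟨δ I hS (i + 1) ∘ₗ S, hsurj.comp hS', fun x => ⟨fun h => ?_, fun h => ?_⟩⟩
    · exact (hker x).mp (hinj (h.trans (map_zero (δ I hS (i + 1))).symm))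
    · exact (congrArg (δ I hS (i + 1)) ((hker x).mpr h)).trans (map_zero _)

/-- An acyclic resolution computes local cohomology. -/
theorem presents_of_acyclic {M : ModuleCat.{u} R} (f : M ⟶ K.X 0) (hf : Function.Injective f.hom)
    (hM0 : ∀ x, (K.d 0 1).hom x = 0 ↔ ∃ m, f.hom m = x)
    (hK : ∀ (n : ℕ) x, (K.d (n + 1) (n + 2)).hom x = 0 → ∃ y, (K.d n (n + 1)).hom y = x)
    (hac : ∀ (n j : ℕ), Subsingleton ((localCohomology I (j + 1)).obj (K.X n) : Type u)) (i : ℕ) :
    Presents I K i ((localCohomology I i).obj M : Type u) := by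
  let e : M ≅ Zker K 0 := (LinearEquiv.ofBijective
    (f.hom.codRestrict (LinearMap.ker (K.d 0 1).hom) fun m => (hM0 _).mpr ⟨m, rfl⟩)
    ⟨fun a b h => hf (congrArg Subtype.val h), fun ⟨x, hx⟩ => by
      obtain ⟨m, hm⟩ := (hM0 x).mp hx
      exact ⟨m, Subtype.ext hm⟩⟩).toModuleIso
  let E : ∀ j, ((localCohomology I j).obj (Zker K 0) : Type u) ≃ₗ[R]
      ((localCohomology I j).obj M : Type u) := fun j =>
    ((localCohomology I j).mapIso e.symm).toLinearEquiv
  let g : ∀ n, ZI I K n →ₗ[R] DRing.torsionSub I (Zker K n) := fun n =>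
    { toFun := fun x => ⟨⟨x.1, x.2.2⟩, x.2.1.imp fun k hk a ha => Subtype.ext (hk a ha)⟩
      map_add' := fun _ _ => rfl
      map_smul' := fun _ _ => rfl }
  have hg : ∀ n, Function.Surjective (g n) := fun n z =>
    ⟨⟨z.1.1, z.2.imp fun k hk a ha => congrArg Subtype.val (hk a ha), z.1.2⟩, rfl⟩
  cases i with
  | zero =>
    refine ⟨((E 0).toLinearMap ∘ₗ (h0Equiv I (Zker K 0)).symm.toLinearMap) ∘ₗ g 0,
      ((E 0).surjective.comp (h0Equiv I _).symm.surjective).comp (hg 0), fun x => ?_⟩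
    change (E 0) ((h0Equiv I _).symm (g 0 x)) = 0 ↔ _
    rw [LinearEquiv.map_eq_zero_iff, LinearEquiv.map_eq_zero_iff]
    exact ⟨fun h => congrArg (fun z : DRing.torsionSub I (Zker K 0) => z.1.1) h,
      fun h => Subtype.ext (Subtype.ext h)⟩
  | succ p =>
    obtain ⟨S, hS, hker⟩ := exists_shift hK hac p 0 p (by omega)
    refine ⟨((E (p + 1)).toLinearMap ∘ₗ S ∘ₗ (h0Equiv I (Zker K (p + 1))).symm.toLinearMap) ∘ₗ g (p + 1),
      ((E (p + 1)).surjective.comp (hS.comp (h0Equiv I _).symm.surjective)).comp (hg _), fun x => ?_⟩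
    change (E (p + 1)) (S ((h0Equiv I _).symm (g (p + 1) x))) = 0 ↔ _
    rw [LinearEquiv.map_eq_zero_iff, hker, mem_BI_succ]
    constructor
    · rintro ⟨y, hy⟩
      refine ⟨h0 I (K.X p) y, by rw [← range_h0]; exact ⟨y, rfl⟩, ?_⟩
      have h := congrArg (h0 I (Zker K (p + 1))) hy
      rw [h0_map, ← h0Equiv_coe, ← h0Equiv_coe, LinearEquiv.apply_symm_apply] at h
      exact congrArg Subtype.val h
    · rintro ⟨y, hy, hyx⟩
      refine ⟨(h0Equiv I (K.X p)).symm ⟨y, hy⟩, h0_injective ?_⟩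
      rw [h0_map, ← h0Equiv_coe, ← h0Equiv_coe, LinearEquiv.apply_symm_apply,
        LinearEquiv.apply_symm_apply]
      exact Subtype.ext hyx

end shift

end Groth.Agent.LocCohLib
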