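import Mathlib
import Groth.Agent.LocCohLib.Acyclic

/-! Modules with the divisibility property are acyclic; independence of the base ring. -/

open CategoryTheory Limits

namespace Groth.Agent.LocCohLib

universe u v

variable {R : Type u} [CommRing R]

/-- Every torsion submodule satisfies the divisibility property. -/
def Flasque (E : Type u) [AddCommGroup E] [Module R E] : Prop :=
  ∀ (J : Ideal R) (a : R), DivProp a (DRing.torsionSub J E)

lemma DivProp.of_equiv {a : R} {E E' : Type v} [AddCommGroup E] [Module R E] [AddCommGroup E']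
    [Module R E'] (h : DivProp a E) (e : E ≃ₗ[R] E') : DivProp a E' := fun k => by
  obtain ⟨l, hl⟩ := h k
  refine ⟨l, fun z => ?_⟩
  obtain ⟨w, hw⟩ := hl (e.symm z)
  exact ⟨e w, by simpa using congrArg e hw⟩

theorem flasque_of_injective [IsNoetherianRing R] (E : Type u) [AddCommGroup E] [Module R E]
    [Module.Injective R E] : Flasque (R := R) E := fun J a =>
  haveI := injective_torsionSub J E
  divProp_of_injective _ a

theorem exactAbove_sup_span_zero {J : Ideal R} (a : R) {E : ModuleCat.{u} R}
    (K : InjectiveResolution E) (hdiv : DivProp a (DRing.torsionSub J E))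
    (h : ExactAbove J K.cocomplex 0) (hdivK : ∀ i, DivProp a (DRing.torsionSub J (K.cocomplex.X i))) :
    ExactAbove (J ⊔ Ideal.span {a}) K.cocomplex 0 := by
  intro i _ x hx hdx
  cases i with
  | succ i => exact exactAbove_sup_span a h hdivK (i + 1) (by omega) x hx hdx
  | zero =>
    let ι₀ : (E : Type u) →ₗ[R] (K.cocomplex.X 0 : Type u) := (K.ι.f 0).hom
    obtain ⟨y, hy, rfl⟩ := h 0 le_rfl x (torsionSub_mono le_sup_left _ hx) hdx
    obtain ⟨k, hk⟩ := torsionSub_mono le_sup_right _ hx
    have hk' : (K.cocomplex.d 0 1).hom (a ^ k • y) = 0 := by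
      rw [map_smul]
      exact hk _ (Ideal.pow_mem_pow (Ideal.mem_span_singleton_self a) k)
    obtain ⟨z, hzy⟩ : ∃ z : (E : Type u), ι₀ z = a ^ k • y := exists_ι_zero K (a ^ k • y) hk'
    have hz : z ∈ DRing.torsionSub J E := by
      obtain ⟨n, hn⟩ := (Submodule.smul_mem _ (a ^ k) hy : a ^ k • y ∈ DRing.torsionSub J _)
      exact ⟨n, fun b hb => (show Function.Injective ι₀ from ι_zero_injective K) (by rw [map_smul, hzy, hn b hb, map_zero])⟩
    obtain ⟨l, hl⟩ := hdiv k
    obtain ⟨⟨w, hw⟩, hwz⟩ := hl ⟨z, hz⟩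
    have hwz' : a ^ l • (a ^ k • w - z) = 0 := congrArg Subtype.val hwz
    refine ⟨y - ι₀ w, mem_torsionSub_sup
      (sub_mem hy (DRing.map_mem_torsionSub _ _ hw)) (mem_torsionSub_span_singleton (k := l + k) ?_), ?_⟩
    · calc a ^ (l + k) • (y - ι₀ w)
          = a ^ l • (a ^ k • y) - a ^ l • (a ^ k • ι₀ w) := by
            rw [smul_sub, pow_add, mul_smul, mul_smul]
        _ = -ι₀ (a ^ l • (a ^ k • w - z)) := by
            rw [← hzy, map_smul, map_sub, map_smul, smul_sub]; abel
        _ = 0 := by rw [hwz', map_zero, neg_zero]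
    · have hdd : (K.cocomplex.d 0 1).hom (ι₀ w) = 0 :=
        congr($(K.ι_f_zero_comp_complex_d).hom w)
      rw [map_sub, hdd, sub_zero]

/-- Flasque modules have no higher local cohomology. -/
theorem subsingleton_of_flasque [IsNoetherianRing R] (E : ModuleCat.{u} R) (hE : Flasque (R := R) E)
    (I : Ideal R) (i : ℕ) : Subsingleton ((localCohomology I (i + 1)).obj E : Type u) := by
  classical
  let K := injectiveResolution E
  have hKd : ∀ (J : Ideal R) (a : R) (i : ℕ), DivProp a (DRing.torsionSub J (K.cocomplex.X i)) := by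
    intro J a i
    haveI : Injective (ModuleCat.of R (K.cocomplex.X i)) := K.injective i
    haveI := Module.injective_module_of_injective_object R (K.cocomplex.X i)
    exact flasque_of_injective (R := R) (K.cocomplex.X i : Type u) J a
  have h : ∀ s : Finset R, ExactAbove (Ideal.span (s : Set R)) K.cocomplex 0 := by
    intro s
    induction s using Finset.induction_on with
    | empty => simpa using exactAbove_bot K
    | insert a s ha ih =>
      rw [Finset.coe_insert, Ideal.span_insert, sup_comm]
      exact exactAbove_sup_span_zero a K (hE _ a) ih (fun i => hKd _ a i)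
  obtain ⟨s, rfl⟩ := (IsNoetherian.noetherian I : I.FG)
  exact subsingleton_of_exactAbove K (h s) (i + 1) (Nat.succ_pos i)

section restrict

variable {R' : Type u} [CommRing R'] [Algebra R R']

lemma mem_torsionSub_map (J : Ideal R) {E : Type u} [AddCommGroup E] [Module R E] [Module R' E]
    [IsScalarTower R R' E] (x : E) :
    x ∈ DRing.torsionSub (J.map (algebraMap R R')) E ↔ x ∈ DRing.torsionSub J E := by
  constructor
  · rintro ⟨n, hn⟩
    refine ⟨n, fun a ha => ?_⟩
    rw [← algebraMap_smul R' a x]
    exact hn _ (by rw [← Ideal.map_pow]; exact Ideal.mem_map_of_mem _ ha)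
  · rintro ⟨n, hn⟩
    refine ⟨n, fun b hb => ?_⟩
    rw [← Ideal.map_pow, Ideal.map] at hb
    induction hb using Submodule.span_induction with
    | mem y hy =>
      obtain ⟨a, ha, rfl⟩ := hy
      rw [algebraMap_smul]
      exact hn a ha
    | zero => exact zero_smul _ _
    | add y z _ _ hy hz => rw [add_smul, hy, hz, add_zero]
    | smul c y _ hy => rw [smul_eq_mul, mul_smul, hy, smul_zero]

lemma flasque_restrict {E : Type u} [AddCommGroup E] [Module R E] [Module R' E] [IsScalarTower R R' E]
    (h : Flasque (R := R') E) : Flasque (R := R) E := by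
  intro J a k
  obtain ⟨l, hl⟩ := h (J.map (algebraMap R R')) (algebraMap R R' a) k
  refine ⟨l, fun z => ?_⟩
  obtain ⟨w, hw⟩ := hl ⟨z.1, (mem_torsionSub_map J _).mpr z.2⟩
  refine ⟨⟨w.1, (mem_torsionSub_map J _).mp w.2⟩, Subtype.ext ?_⟩
  have h' := congrArg Subtype.val hw
  simp only [SetLike.val_smul, AddSubgroupClass.coe_sub, ZeroMemClass.coe_zero, ← map_pow,
    algebraMap_smul] at h' ⊢
  exact h'

lemma subsingleton_restrict [IsNoetherianRing R] [IsNoetherianRing R'] (I : Ideal R) (E : Type u)
    [AddCommGroup E] [Module R E] [Module R' E] [IsScalarTower R R' E] [Module.Injective R' E]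
    (i : ℕ) : Subsingleton ((localCohomology I (i + 1)).obj (ModuleCat.of R E) : Type u) :=
  subsingleton_of_flasque _ (flasque_restrict (R' := R') (flasque_of_injective E)) I i

variable (R) in
/-- Restriction of scalars on complexes. -/
noncomputable abbrev restrictCx (K : CochainComplex (ModuleCat.{u} R') ℕ) :
    CochainComplex (ModuleCat.{u} R) ℕ :=
  ((ModuleCat.restrictScalars (algebraMap R R')).mapHomologicalComplex _).obj K

/-- Two surjections with the same kernels have isomorphic targets. -/
lemma exists_addEquiv_of_surjective {A A' N N' : Type*} [AddCommGroup A] [AddCommGroup A']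
    [AddCommGroup N] [AddCommGroup N'] (f : A →+ N) (g : A' →+ N') (e : A ≃+ A')
    (hf : Function.Surjective f) (hg : Function.Surjective g) (h : ∀ x, f x = 0 ↔ g (e x) = 0) :
    ∃ φ : N ≃+ N', ∀ x, φ (f x) = g (e x) := by
  let φ : N →+ N' := AddMonoidHom.liftOfRightInverse f _ (Function.rightInverse_surjInv hf)
    ⟨g.comp e.toAddMonoidHom, fun x hx => (h x).mp hx⟩
  have hφ : ∀ x, φ (f x) = g (e x) := fun x =>
    AddMonoidHom.liftOfRightInverse_comp_apply f _ (Function.rightInverse_surjInv hf) _ x
  refine ⟨AddEquiv.ofBijective φ ⟨(injective_iff_map_eq_zero φ).mpr fun y hy => ?_, fun y => ?_⟩, hφ⟩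
  · obtain ⟨x, rfl⟩ := hf y
    exact (h x).mpr ((hφ x).symm.trans hy)
  · obtain ⟨x, rfl⟩ := hg y
    exact ⟨f (e.symm x), by rw [hφ, AddEquiv.apply_symm_apply]⟩

/-- Independence of the base ring. -/
theorem exists_indep [IsNoetherianRing R] [IsNoetherianRing R'] (I : Ideal R) (M : Type u)
    [AddCommGroup M] [Module R' M] [Module R M] [IsScalarTower R R' M] (i : ℕ) :
    ∃ φ : ((localCohomology (I.map (algebraMap R R')) i).obj (ModuleCat.of R' M) : Type u) ≃+
        ((localCohomology I i).obj (ModuleCat.of R M) : Type u),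
      ∀ (r : R) x, φ (algebraMap R R' r • x) = r • φ x := by
  let J := injectiveResolution (ModuleCat.of R' M)
  let K := restrictCx R J.cocomplex
  letI : Module R (J.cocomplex.X 0) := Module.compHom _ (algebraMap R R')
  let f₀ : M →ₗ[R] (J.cocomplex.X 0 : Type u) :=
    { toFun := fun m => (J.ι.f 0).hom m
      map_add' := fun a b => map_add (J.ι.f 0).hom a b
      map_smul' := fun r m =>
        (congrArg (J.ι.f 0).hom (algebraMap_smul R' r m).symm).trans
          (map_smul (J.ι.f 0).hom (algebraMap R R' r) m) }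
  let f : ModuleCat.of R M ⟶ K.X 0 := ModuleCat.ofHom f₀
  have hac : ∀ (n j : ℕ), Subsingleton ((localCohomology I (j + 1)).obj (K.X n) : Type u) := by
    intro n j
    letI : Module R (J.cocomplex.X n) := Module.compHom _ (algebraMap R R')
    haveI : IsScalarTower R R' (J.cocomplex.X n) := IsScalarTower.of_algebraMap_smul fun _ _ => rfl
    haveI : Injective (ModuleCat.of R' (J.cocomplex.X n)) := J.injective n
    haveI := Module.injective_module_of_injective_object R' (J.cocomplex.X n)
    exact subsingleton_restrict (R' := R') I (J.cocomplex.X n : Type u) j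
  obtain ⟨S, hS, hker⟩ := presents_of_acyclic f (ι_zero_injective J)
    (fun x => ⟨fun hx => exists_ι_zero J x hx, fun ⟨m, hm⟩ => by
      rw [← hm]; exact congr($(J.ι_f_zero_comp_complex_d).hom m)⟩)
    (fun n x hx => resolution_exact J n x hx) hac i
  obtain ⟨S', hS', hker'⟩ := presents_injectiveResolution (I.map (algebraMap R R')) J i
  have hmem : ∀ (n : ℕ) (x : J.cocomplex.X n),
      x ∈ DRing.torsionSub (I.map (algebraMap R R')) (J.cocomplex.X n) ↔
        (x : K.X n) ∈ DRing.torsionSub I (K.X n) := by
    intro n x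
    letI : Module R (J.cocomplex.X n) := Module.compHom _ (algebraMap R R')
    haveI : IsScalarTower R R' (J.cocomplex.X n) := IsScalarTower.of_algebraMap_smul fun _ _ => rfl
    exact mem_torsionSub_map (R := R) I x
  let e : ZI (I.map (algebraMap R R')) J.cocomplex i ≃+ ZI I K i :=
    { toFun := fun x => ⟨x.1, (hmem i x.1).mp x.2.1, x.2.2⟩
      invFun := fun x => ⟨x.1, (hmem i x.1).mpr x.2.1, x.2.2⟩
      left_inv := fun _ => rfl
      right_inv := fun _ => rfl
      map_add' := fun _ _ => rfl }
  have hB : ∀ x : J.cocomplex.X i,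
      x ∈ BI (I.map (algebraMap R R')) J.cocomplex i ↔ (x : K.X i) ∈ BI I K i := by
    cases i with
    | zero => exact fun x => Iff.rfl
    | succ p =>
      intro x
      refine mem_BI_succ.trans (Iff.trans ?_ mem_BI_succ.symm)
      exact ⟨fun ⟨y, hy, hyx⟩ => ⟨y, (hmem p y).mp hy, hyx⟩,
        fun ⟨y, hy, hyx⟩ => ⟨y, (hmem p y).mpr hy, hyx⟩⟩
  obtain ⟨φ, hφ⟩ := exists_addEquiv_of_surjective S'.toAddMonoidHom S.toAddMonoidHom e hS' hS
    fun x => (hker' x).trans ((hB x.1).trans (hker (e x)).symm)
  refine ⟨φ, fun r x => ?_⟩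
  obtain ⟨y, rfl⟩ := hS' x
  have h1 : φ (S' (algebraMap R R' r • y)) = S (e (algebraMap R R' r • y)) := hφ _
  have h2 : φ (S' y) = S (e y) := hφ y
  rw [← map_smul, h1, h2, ← map_smul]
  rfl

end restrict

end Groth.Agent.LocCohLib
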