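import Mathlib
import Groth.Agent.LocCohLib.Flasque

/-! Flat base change. -/

open CategoryTheory Limits TensorProduct

namespace Groth.Agent.LocCohLib

universe u

variable {R : Type u} [CommRing R] (B : Type u) [CommRing B] [Algebra R B]

lemma baseChange_injective [Module.Flat R B] {P N : Type u} [AddCommGroup P] [Module R P]
    [AddCommGroup N] [Module R N] {f : P →ₗ[R] N} (hf : Function.Injective f) :
    Function.Injective (f.baseChange B) := by
  have : ⇑(f.baseChange B) = ⇑(f.lTensor B) := LinearMap.baseChange_eq_ltensor f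
  rw [this]
  exact Module.Flat.lTensor_preserves_injective_linearMap f hf

lemma baseChange_exact [Module.Flat R B] {P N Q : Type u} [AddCommGroup P] [Module R P]
    [AddCommGroup N] [Module R N] [AddCommGroup Q] [Module R Q] {f : P →ₗ[R] N} {g : N →ₗ[R] Q}
    (h : Function.Exact f g) : Function.Exact (f.baseChange B) (g.baseChange B) := by
  rw [LinearMap.baseChange_eq_ltensor, LinearMap.baseChange_eq_ltensor]
  exact Module.Flat.lTensor_exact B h

/-- Torsion commutes with flat base change. -/
theorem range_torsionSub_baseChange [Module.Flat R B] (I : Ideal R) (hI : I.FG) (M : Type u)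
    [AddCommGroup M] [Module R M] :
    LinearMap.range ((DRing.torsionSub I M).subtype.baseChange B) =
      DRing.torsionSub (I.map (algebraMap R B)) (B ⊗[R] M) := by
  apply le_antisymm
  · rintro _ ⟨z, rfl⟩
    induction z using TensorProduct.induction_on with
    | zero => simp
    | add a b ha hb => rw [map_add]; exact add_mem ha hb
    | tmul b m =>
      obtain ⟨n, hn⟩ := m.2
      refine (mem_torsionSub_map I _).mpr ⟨n, fun a ha => ?_⟩
      rw [LinearMap.baseChange_tmul, ← TensorProduct.tmul_smul]
      simp [hn a ha]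
  · intro x hx
    obtain ⟨n, hn⟩ := (mem_torsionSub_map I x).mp hx
    obtain ⟨k, g, hg⟩ := Submodule.fg_iff_exists_fin_generating_family.mp (Submodule.FG.pow hI n)
    let φ : M →ₗ[R] (Fin k → M) := LinearMap.pi fun j => LinearMap.lsmul R M (g j)
    have hex : Function.Exact (LinearMap.ker φ).subtype φ := LinearMap.exact_subtype_ker_map φ
    have hφ : φ.baseChange B x = 0 := by
      apply (TensorProduct.piRight R B B (fun _ : Fin k => M)).injective
      rw [map_zero]
      funext j
      have key : ∀ z : B ⊗[R] M,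
          TensorProduct.piRight R B B (fun _ : Fin k => M) (φ.baseChange B z) j = g j • z := by
        intro z
        induction z using TensorProduct.induction_on with
        | zero => simp
        | add a b ha hb => rw [map_add, map_add, Pi.add_apply, ha, hb, smul_add]
        | tmul b m => simp [φ, TensorProduct.tmul_smul]
      rw [key]
      exact hn _ (hg ▸ Submodule.subset_span ⟨j, rfl⟩)
    obtain ⟨z, rfl⟩ := (baseChange_exact B hex x).mp hφ
    have hle : LinearMap.ker φ ≤ DRing.torsionSub I M := fun m hm => ⟨n, fun a ha => by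
      rw [← hg] at ha
      induction ha using Submodule.span_induction with
      | mem y hy => obtain ⟨j, rfl⟩ := hy; exact congrFun hm j
      | zero => exact zero_smul _ _
      | add y z _ _ hy hz => rw [add_smul, hy, hz, add_zero]
      | smul c y _ hy => rw [smul_eq_mul, mul_smul, hy, smul_zero]⟩
    refine ⟨(Submodule.inclusion hle).baseChange B z, ?_⟩
    rw [← LinearMap.comp_apply, ← LinearMap.baseChange_comp]
    rfl

/-- The base change of an injective module is flasque. -/
theorem flasque_baseChange [IsNoetherianRing R] [Module.Flat R B] (E : Type u) [AddCommGroup E]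
    [Module R E] (h : Flasque (R := R) E) : Flasque (R := R) (B ⊗[R] E) := by
  intro J a k
  obtain ⟨l, hl⟩ := h J a k
  refine ⟨l, fun z => ?_⟩
  have hz : z.1 ∈ LinearMap.range ((DRing.torsionSub J E).subtype.baseChange B) := by
    rw [range_torsionSub_baseChange B J (IsNoetherian.noetherian J)]
    exact (mem_torsionSub_map (R' := B) J _).mpr z.2
  obtain ⟨y, hy⟩ := hz
  suffices h' : ∃ w, a ^ l • (a ^ k • w - y) = 0 by
    obtain ⟨w, hw⟩ := h'
    refine ⟨⟨(DRing.torsionSub J E).subtype.baseChange B w, (mem_torsionSub_map (R' := B) J _).mp ?_⟩,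
      Subtype.ext ?_⟩
    · rw [← range_torsionSub_baseChange B J (IsNoetherian.noetherian J)]
      exact ⟨w, rfl⟩
    · have h2 := congrArg ((DRing.torsionSub J E).subtype.baseChange B) hw
      simp only [LinearMap.map_smul_of_tower, map_sub, map_zero, hy] at h2
      exact h2
  clear hy z
  induction y using TensorProduct.induction_on with
  | zero => exact ⟨0, by simp⟩
  | tmul b m =>
    obtain ⟨w, hw⟩ := hl m
    exact ⟨b ⊗ₜ w, by rw [← TensorProduct.tmul_smul, ← TensorProduct.tmul_sub,
      ← TensorProduct.tmul_smul, hw, TensorProduct.tmul_zero]⟩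
  | add y y' ih ih' =>
    obtain ⟨w, hw⟩ := ih
    obtain ⟨w', hw'⟩ := ih'
    exact ⟨w + w', by
      rw [smul_add, show a ^ k • w + a ^ k • w' - (y + y') = a ^ k • w - y + (a ^ k • w' - y') by abel,
        smul_add, hw, hw', add_zero]⟩

/-- Base change of a complex. -/
noncomputable abbrev tensorCx (K : CochainComplex (ModuleCat.{u} R) ℕ) :
    CochainComplex (ModuleCat.{u} B) ℕ :=
  CochainComplex.of (fun n => ModuleCat.of B (B ⊗[R] (K.X n : Type u)))
    (fun n => ModuleCat.ofHom ((K.d n (n + 1)).hom.baseChange B))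
    (fun n => by
      apply ModuleCat.hom_ext
      rw [ModuleCat.hom_comp, ModuleCat.hom_ofHom, ModuleCat.hom_ofHom,
        ← LinearMap.baseChange_comp, ← ModuleCat.hom_comp, K.d_comp_d]
      simp)

lemma tensorCx_d (K : CochainComplex (ModuleCat.{u} R) ℕ) (n : ℕ) :
    ((tensorCx B K).d n (n + 1)).hom = (K.d n (n + 1)).hom.baseChange B := by
  simp [CochainComplex.of_d]

/-- Flat base change of local cohomology. -/
theorem exists_baseChange [IsNoetherianRing R] [IsNoetherianRing B] [Module.Flat R B] (I : Ideal R)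
    (M : Type u) [AddCommGroup M] [Module R M] (i : ℕ) :
    Nonempty (B ⊗[R] ((localCohomology I i).obj (ModuleCat.of R M) : Type u) ≃ₗ[B]
      ((localCohomology (I.map (algebraMap R B)) i).obj (ModuleCat.of B (B ⊗[R] M)) : Type u)) := by
  let J := injectiveResolution (ModuleCat.of R M)
  let K := tensorCx B J.cocomplex
  let ι₀ : M →ₗ[R] (J.cocomplex.X 0 : Type u) := (J.ι.f 0).hom
  have hι : Function.Exact ι₀ (J.cocomplex.d 0 1).hom := fun x =>
    ⟨fun hx => exists_ι_zero J x hx, fun ⟨m, hm⟩ => by
      rw [← hm]; exact congr($(J.ι_f_zero_comp_complex_d).hom m)⟩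
  have hac : ∀ (n j : ℕ),
      Subsingleton ((localCohomology (I.map (algebraMap R B)) (j + 1)).obj (K.X n) : Type u) := by
    intro n j
    obtain ⟨φ, -⟩ := exists_indep (R' := B) I (B ⊗[R] (J.cocomplex.X n : Type u)) (j + 1)
    haveI : Injective (ModuleCat.of R (J.cocomplex.X n)) := J.injective n
    haveI := Module.injective_module_of_injective_object R (J.cocomplex.X n)
    haveI := subsingleton_of_flasque (ModuleCat.of R (B ⊗[R] (J.cocomplex.X n : Type u)))
      (flasque_baseChange B _ (flasque_of_injective (R := R) (J.cocomplex.X n : Type u))) I j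
    exact φ.injective.subsingleton
  have hKe : ∀ (n : ℕ) (x : K.X (n + 1)), (K.d (n + 1) (n + 2)).hom x = 0 →
      ∃ y, (K.d n (n + 1)).hom y = x := by
    intro n x hx
    have hex : Function.Exact (J.cocomplex.d n (n + 1)).hom (J.cocomplex.d (n + 1) (n + 2)).hom :=
      fun x => ⟨fun hx => resolution_exact J n x hx, fun ⟨y, hy⟩ => by
        rw [← hy]; exact congr($(J.cocomplex.d_comp_d n (n + 1) (n + 2)).hom y)⟩
    rw [show n + 2 = n + 1 + 1 from rfl, tensorCx_d] at hx
    rw [tensorCx_d]
    exact (baseChange_exact B hex x).mp hx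
  have hK0 : ∀ x : K.X 0, (K.d 0 1).hom x = 0 ↔ ∃ m, ι₀.baseChange B m = x := by
    intro x
    rw [show (1 : ℕ) = 0 + 1 from rfl, tensorCx_d]
    exact baseChange_exact B hι x
  obtain ⟨S', hS', hker'⟩ := presents_of_acyclic (K := K) (I := I.map (algebraMap R B))
    (ModuleCat.ofHom (ι₀.baseChange B)) (baseChange_injective B (ι_zero_injective J)) hK0 hKe hac i
  obtain ⟨S, hS, hker⟩ := presents_injectiveResolution I J i
  let T := DRing.torsionSub I (J.cocomplex.X i : Type u)
  let dT : T →ₗ[R] (J.cocomplex.X (i + 1) : Type u) := (J.cocomplex.d i (i + 1)).hom ∘ₗ T.subtype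
  let ε : ZI I J.cocomplex i →ₗ[R] T := Submodule.inclusion inf_le_left
  have hex : Function.Exact ε dT := fun x =>
    ⟨fun hx => ⟨⟨x.1, x.2, hx⟩, rfl⟩, by rintro ⟨y, rfl⟩; exact y.2.2⟩
  have hc : Function.Injective ((ZI I J.cocomplex i).subtype.baseChange B) :=
    baseChange_injective B Subtype.val_injective
  have hT := range_torsionSub_baseChange B I (IsNoetherian.noetherian I)
  have hmem : ∀ z, (ZI I J.cocomplex i).subtype.baseChange B z ∈
      ZI (I.map (algebraMap R B)) K i := by
    intro z
    have he : (ZI I J.cocomplex i).subtype.baseChange B z = T.subtype.baseChange B (ε.baseChange B z) := by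
      rw [← LinearMap.comp_apply, ← LinearMap.baseChange_comp]; rfl
    refine ⟨?_, ?_⟩
    · rw [he]
      exact (hT _).le ⟨_, rfl⟩
    · refine LinearMap.mem_ker.mpr ?_
      rw [tensorCx_d, he, ← LinearMap.comp_apply, ← LinearMap.baseChange_comp]
      exact (baseChange_exact B hex).apply_apply_eq_zero z
  let c := ((ZI I J.cocomplex i).subtype.baseChange B).codRestrict _ hmem
  have hcs : Function.Surjective c := by
    rintro ⟨x, hx, hdx⟩
    obtain ⟨y, rfl⟩ := (hT _).ge hx
    have hdx' : (K.d i (i + 1)).hom (T.subtype.baseChange B y) = 0 := hdx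
    rw [tensorCx_d, ← LinearMap.comp_apply, ← LinearMap.baseChange_comp] at hdx'
    obtain ⟨z, rfl⟩ := (baseChange_exact B hex y).mp hdx'
    refine ⟨z, Subtype.ext ?_⟩
    change (ZI I J.cocomplex i).subtype.baseChange B z = T.subtype.baseChange B (ε.baseChange B z)
    rw [← LinearMap.comp_apply, ← LinearMap.baseChange_comp]
    rfl
  have hSB : Function.Surjective (S.baseChange B) := by
    rw [LinearMap.baseChange_eq_ltensor]
    exact LinearMap.lTensor_surjective B hS
  have hkey : ∀ z, (S.baseChange B) z = 0 ↔ (S' ∘ₗ c) z = 0 := by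
    intro z
    rw [LinearMap.comp_apply, hker']
    cases i with
    | zero =>
      have hSi : Function.Injective S := (injective_iff_map_eq_zero S).mpr fun x hx =>
        Subtype.ext (by simpa [BI] using (hker x).mp hx)
      simp only [BI, Submodule.mem_bot]
      rw [map_eq_zero_iff _ (baseChange_injective B hSi)]
      exact (map_eq_zero_iff _ hc).symm
    | succ p =>
      let T₀ := DRing.torsionSub I (J.cocomplex.X p : Type u)
      let dT₀ : T₀ →ₗ[R] ZI I J.cocomplex (p + 1) :=
        ((J.cocomplex.d p (p + 1)).hom ∘ₗ T₀.subtype).codRestrict _ fun w =>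
          ⟨DRing.map_mem_torsionSub I (J.cocomplex.d p (p + 1)).hom w.2,
            congr($(J.cocomplex.d_comp_d p (p + 1) (p + 1 + 1)).hom w.1)⟩
      have hex₀ : Function.Exact dT₀ S := fun x => by
        rw [hker x, mem_BI_succ]
        exact ⟨fun ⟨y, hy, hyx⟩ => ⟨⟨y, hy⟩, Subtype.ext hyx⟩,
          fun ⟨w, hw⟩ => ⟨w.1, w.2, congrArg Subtype.val hw⟩⟩
      have hcomm : ∀ w, ((c (dT₀.baseChange B w)).1 : K.X (p + 1)) =
          (K.d p (p + 1)).hom (T₀.subtype.baseChange B w) := fun w => by
        rw [tensorCx_d]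
        change (ZI I J.cocomplex (p + 1)).subtype.baseChange B (dT₀.baseChange B w) = _
        rw [← LinearMap.comp_apply, ← LinearMap.comp_apply, ← LinearMap.baseChange_comp,
          ← LinearMap.baseChange_comp]
        rfl
      rw [mem_BI_succ, baseChange_exact B hex₀ z]
      constructor
      · rintro ⟨w, rfl⟩
        exact ⟨_, (range_torsionSub_baseChange B I (IsNoetherian.noetherian I) _).le ⟨w, rfl⟩,
          (hcomm w).symm⟩
      · rintro ⟨y, hy, hyz⟩
        obtain ⟨w, rfl⟩ := (range_torsionSub_baseChange B I (IsNoetherian.noetherian I) _).ge hy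
        refine ⟨w, hc ?_⟩
        exact (hcomm w).trans hyz
  exact ⟨((S.baseChange B).quotKerEquivOfSurjective hSB).symm ≪≫ₗ
    Submodule.quotEquivOfEq _ _ (Submodule.ext (p := LinearMap.ker (S.baseChange B)) (q := LinearMap.ker (S' ∘ₗ c))
      fun z => hkey z) ≪≫ₗ
    (S' ∘ₗ c).quotKerEquivOfSurjective (hS'.comp hcs)⟩

end Groth.Agent.LocCohLib
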