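import Mathlib
import Groth.Agent.LocCohLib.Basic

/-! Every class comes from a finitely generated module. -/

open CategoryTheory Limits

namespace Groth.Agent.LocCohLib

universe u

variable {R : Type u} [CommRing R] (I : Ideal R)

lemma δ_naturality {S S' : ShortComplex (ModuleCat.{u} R)} (hS : S.ShortExact) (hS' : S'.ShortExact)
    (φ : S ⟶ S') (i : ℕ) (z : (localCohomology I i).obj S.X₃) :
    ((localCohomology I (i + 1)).map φ.τ₁).hom (δ I hS i z) =
      δ I hS' i (((localCohomology I i).map φ.τ₃).hom z) := by
  obtain ⟨n, x, rfl⟩ := exists_ι z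
  rw [δ_ι, map_ι, map_ι, δ_ι, Abelian.Ext.comp_assoc_of_third_deg_zero,
    Abelian.Ext.comp_assoc_of_second_deg_zero, ShortComplex.ShortExact.extClass_naturality hS hS' φ]

variable [IsNoetherianRing R]

set_option maxRecDepth 10000 in
/-- Every class in local cohomology comes from a finitely generated submodule. -/
theorem exists_fg_preimage (i : ℕ) (M : ModuleCat.{u} R) (x : (localCohomology I i).obj M) :
    ∃ (M₀ : Submodule R M) (_ : M₀.FG) (x₀ : (localCohomology I i).obj (ModuleCat.of R M₀)),
      ((localCohomology I i).map (ModuleCat.ofHom M₀.subtype)).hom x₀ = x := by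
  induction i generalizing M with
  | zero =>
    let m := h0 I M x
    have hm : m ∈ DRing.torsionSub I M := range_h0 (I := I) (M := M) ▸ ⟨x, rfl⟩
    let M₀ : Submodule R M := Submodule.span R {m}
    let m₀ : DRing.torsionSub I M₀ := ⟨⟨m, Submodule.mem_span_singleton_self m⟩,
      hm.imp fun n hn a ha => Subtype.ext (hn a ha)⟩
    refine ⟨M₀, Submodule.fg_span_singleton m, (h0Equiv I (ModuleCat.of R M₀)).symm m₀, h0_injective ?_⟩
    refine (h0_map (ModuleCat.ofHom M₀.subtype) _).trans ?_
    refine (congrArg M₀.subtype ((h0Equiv_coe _).symm.trans (congrArg Subtype.val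
      (LinearEquiv.apply_symm_apply (h0Equiv I (ModuleCat.of R M₀)) m₀)))).trans ?_
    rfl
  | succ i ih =>
    classical
    let E := Injective.under M
    let j : (M : Type u) →ₗ[R] (E : Type u) := (Injective.ι M).hom
    have hj : Function.Injective j := (ModuleCat.mono_iff_injective _).mp inferInstance
    let S : ShortComplex (ModuleCat.{u} R) := ShortComplex.mk (Injective.ι M)
      (ModuleCat.ofHom (LinearMap.range j).mkQ)
      (by ext m; exact (Submodule.Quotient.mk_eq_zero _).mpr ⟨m, rfl⟩)
    have hS : S.ShortExact :=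
      { exact := (ShortComplex.moduleCat_exact_iff S).mpr fun e he =>
          (Submodule.Quotient.mk_eq_zero (LinearMap.range j)).mp he
        mono_f := inferInstanceAs (Mono (Injective.ι M))
        epi_g := (ModuleCat.epi_iff_surjective _).mpr (Submodule.mkQ_surjective _) }
    haveI : Injective S.X₂ := inferInstanceAs (Injective (Injective.under M))
    obtain ⟨q, rfl⟩ := exists_of_map_f_eq_zero I hS i x
      ((subsingleton_of_injective (M := S.X₂) i).elim _ _)
    obtain ⟨Q₀, hQ₀, q₀, rfl⟩ := ih S.X₃ q
    obtain ⟨s, rfl⟩ := hQ₀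
    choose lft hlft using Submodule.mkQ_surjective (LinearMap.range j)
    let F : Submodule R (E : Type u) := Submodule.span R ↑(s.image lft)
    let M₀ : Submodule R M := F.comap j
    have hM₀ : M₀.FG := by
      refine Submodule.fg_of_fg_map_injective j hj ?_
      haveI : Module.Finite R F := Module.Finite.of_fg ⟨_, rfl⟩
      have hle : M₀.map j ≤ F := Submodule.map_comap_le _ _
      have := Submodule.FG.map F.subtype (IsNoetherian.noetherian (Submodule.comap F.subtype (M₀.map j)))
      rwa [Submodule.map_comap_subtype, inf_eq_right.mpr hle] at this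
    let gF : F →ₗ[R] Submodule.span R (s : Set S.X₃) :=
      ((LinearMap.range j).mkQ ∘ₗ F.subtype).codRestrict _ fun f => by
        obtain ⟨f, hf⟩ := f
        have : (LinearMap.range j).mkQ f ∈ Submodule.map (LinearMap.range j).mkQ F := ⟨f, hf, rfl⟩
        refine Submodule.span_mono ?_ (Submodule.map_span (LinearMap.range j).mkQ _ ▸ this)
        rintro _ ⟨z, hz, rfl⟩
        obtain ⟨w, hw, rfl⟩ := Finset.mem_image.mp hz
        rw [hlft]; exact hw
    have hgF : Function.Surjective gF := by
      rintro ⟨z, hz⟩
      have hle : Submodule.span R (s : Set S.X₃) ≤ Submodule.map (LinearMap.range j).mkQ F :=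
        Submodule.span_le.mpr fun w hw => ⟨lft w, Submodule.subset_span (Finset.mem_image_of_mem _ hw),
          hlft w⟩
      obtain ⟨f, hf, rfl⟩ := hle hz
      exact ⟨⟨f, hf⟩, rfl⟩
    let fF : M₀ →ₗ[R] F := j.restrict fun m hm => hm
    let T : ShortComplex (ModuleCat.{u} R) := ShortComplex.mk (ModuleCat.ofHom fF)
      (ModuleCat.ofHom gF)
      (by ext m; exact (Submodule.Quotient.mk_eq_zero _).mpr ⟨m.1, rfl⟩)
    have hT : T.ShortExact :=
      { exact := (ShortComplex.moduleCat_exact_iff T).mpr fun f hf => by
          obtain ⟨m, hm⟩ := (Submodule.Quotient.mk_eq_zero (LinearMap.range j)).mp (congrArg Subtype.val hf)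
          exact ⟨⟨m, show j m ∈ F from hm ▸ (f : F).2⟩, Subtype.ext hm⟩
        mono_f := (ModuleCat.mono_iff_injective _).mpr fun a b h =>
          Subtype.ext (hj (congrArg Subtype.val h))
        epi_g := (ModuleCat.epi_iff_surjective _).mpr hgF }
    let φ : T ⟶ S :=
      { τ₁ := ModuleCat.ofHom M₀.subtype
        τ₂ := ModuleCat.ofHom F.subtype
        τ₃ := ModuleCat.ofHom (Submodule.span R (s : Set S.X₃)).subtype
        comm₁₂ := rfl
        comm₂₃ := rfl }
    exact ⟨M₀, hM₀, δ I hT i q₀, δ_naturality I hT hS φ i q₀⟩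

/-- Vanishing may be tested on finitely generated submodules. -/
theorem subsingleton_of_forall_fg (i : ℕ) (M : ModuleCat.{u} R)
    (h : ∀ M₀ : Submodule R M, M₀.FG →
      Subsingleton ((localCohomology I i).obj (ModuleCat.of R M₀) : Type u)) :
    Subsingleton ((localCohomology I i).obj M : Type u) := by
  refine subsingleton_of_forall_eq 0 fun x => ?_
  obtain ⟨M₀, hM₀, x₀, rfl⟩ := exists_fg_preimage I i M x
  rw [(h M₀ hM₀).elim x₀ 0, map_zero]

end Groth.Agent.LocCohLib
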