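import Mathlib

/-! Generating an ideal up to radical by few elements. -/

namespace Groth.Agent.LocCohLib

universe u

variable {R : Type u} [CommRing R] [IsNoetherianRing R] (I : Ideal R)

/-- `r` elements of `I` cutting out `V(I)` among primes of height less than `r`. -/
theorem exists_avoiding (r : ℕ) :
    ∃ f : Fin r → R, (∀ i, f i ∈ I) ∧ ∀ (p : Ideal R) [p.IsPrime], p.height < r →
      (I ≤ p ↔ Ideal.span (Set.range f) ≤ p) := by
  classical
  induction r with
  | zero => exact ⟨Fin.elim0, fun i => i.elim0, fun p _ hp => absurd hp (by simp)⟩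
  | succ k ih =>
    obtain ⟨f, hfI, hf⟩ := ih
    let S := (Ideal.finite_minimalPrimes_of_isNoetherianRing R (Ideal.span (Set.range f))).toFinset.filter
      fun q => ¬ I ≤ q
    obtain ⟨a, haI, ha⟩ : ∃ a ∈ I, ∀ q ∈ S, a ∉ q := by
      by_contra hne
      push Not at hne
      have hsub : (I : Set R) ⊆ ⋃ q ∈ S, (q : Set R) := fun a ha => by
        obtain ⟨q, hq, haq⟩ := hne a ha
        exact Set.mem_biUnion hq haq
      obtain ⟨q, hq, hle⟩ := (Ideal.subset_union_prime (f := id) ⊥ ⊥ fun q hq _ _ =>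
        ((Set.Finite.mem_toFinset _).mp (Finset.mem_filter.mp hq).1).1.1).mp hsub
      exact (Finset.mem_filter.mp hq).2 hle
    refine ⟨Fin.snoc f a, fun i => ?_, fun p hp hlt => ⟨fun hIp => Ideal.span_le.mpr ?_, fun hfp => ?_⟩⟩
    · induction i using Fin.lastCases with
      | last => simpa using haI
      | cast i => simpa using hfI i
    · rintro _ ⟨i, rfl⟩
      induction i using Fin.lastCases with
      | last => simpa using hIp haI
      | cast i => simpa using hIp (hfI i)
    · by_contra hIp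
      have hfp' : Ideal.span (Set.range f) ≤ p := Ideal.span_le.mpr fun x ⟨i, hi⟩ =>
        hfp (Ideal.subset_span ⟨i.castSucc, by simpa using hi⟩)
      have hap : a ∈ p := hfp (Ideal.subset_span ⟨Fin.last k, by simp⟩)
      obtain ⟨q, hq, hqp⟩ := Ideal.exists_minimalPrimes_le hfp'
      haveI := hq.1.1
      have hIq : ¬ I ≤ q := fun h => hIp (h.trans hqp)
      have haq : a ∉ q := ha q (Finset.mem_filter.mpr ⟨(Set.Finite.mem_toFinset _).mpr hq, hIq⟩)
      have hqlt : q < p := lt_of_le_of_ne hqp fun h => haq (h ▸ hap)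
      have hkq : (k : ℕ∞) ≤ q.height := le_of_not_gt fun h => hIq ((hf q h).mpr hq.1.2)
      have h1 : ((k + 1 : ℕ) : ℕ∞) ≤ p.height := by
        calc ((k + 1 : ℕ) : ℕ∞) = (k : ℕ∞) + 1 := by simp
          _ ≤ q.height + 1 := by gcongr
          _ ≤ p.height := Ideal.height_add_one_le_of_lt_of_isPrime hqlt
      exact absurd hlt (not_lt.mpr h1)

omit [IsNoetherianRing R] in
lemma radical_eq_of_forall {r : ℕ} (f : Fin r → R) (hfI : ∀ i, f i ∈ I)
    (h : ∀ (p : Ideal R) [p.IsPrime], Ideal.span (Set.range f) ≤ p → I ≤ p) :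
    I.radical = (Ideal.span (Set.range f)).radical := by
  refine le_antisymm ?_ (Ideal.radical_mono (Ideal.span_le.mpr fun x ⟨i, hi⟩ => hi ▸ hfI i))
  rw [Ideal.radical_eq_sInf (Ideal.span (Set.range f))]
  refine le_sInf fun p hp => ?_
  haveI := hp.2
  exact Ideal.IsPrime.radical_le_iff hp.2 |>.mpr (h p hp.1)

end Groth.Agent.LocCohLib
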