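import Mathlib
import Groth.Prelude.Def_Wider
import Groth.Agent.LocCohLib.Cd
import Groth.Agent.LocCohLib.BaseChange
import Groth.Agent.LocCohLib.FiniteTest
import Groth.Agent.LocCohLib.Generators

/-! Grothendieck vanishing. -/

open CategoryTheory Limits

namespace Groth.Agent.LocCohLib

universe u

variable {R : Type u} [CommRing R]

lemma subsingleton_top (i : ℕ) (M : ModuleCat.{u} R) :
    Subsingleton ((localCohomology (⊤ : Ideal R) i).obj M : Type u) := by
  refine subsingleton_of_forall_ext fun n x => ⟨n + 1, Nat.le_succ n, ?_⟩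
  have h : qmap (⊤ : Ideal R) (Nat.le_succ n) = 0 := by
    refine ModuleCat.hom_ext (LinearMap.ext fun z => ?_)
    obtain ⟨z, rfl⟩ := Submodule.Quotient.mk_surjective _ z
    refine (qmap_mk _ _ z).trans ?_
    exact (Submodule.Quotient.mk_eq_zero _).mpr (by rw [← Ideal.one_eq_top, one_pow]; simp)
  rw [h]
  simp

instance additive_localCohomology (I : Ideal R) (i : ℕ) : (localCohomology I i).Additive where
  map_add {X Y f g} := by
    refine ModuleCat.hom_ext (LinearMap.ext fun z => ?_)
    obtain ⟨n, x, rfl⟩ := exists_ι z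
    rw [ModuleCat.hom_add, LinearMap.add_apply, map_ι, map_ι, map_ι, ← map_add,
      ← Abelian.Ext.comp_add, ← Abelian.Ext.mk₀_add]

variable [IsNoetherianRing R]

/-- Invariance under radical. -/
noncomputable def radicalEquiv {I J : Ideal R} (h : I.radical = J.radical) (i : ℕ) (M : ModuleCat.{u} R) :
    ((localCohomology I i).obj M : Type u) ≃ₗ[R] ((localCohomology J i).obj M : Type u) :=
  ((localCohomology.isoOfSameRadical h i).app M).toLinearEquiv

theorem subsingleton_of_radical_fin {I : Ideal R} {r : ℕ} (f : Fin r → R)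
    (h : I.radical = (Ideal.span (Set.range f)).radical) (M : ModuleCat.{u} R) (i : ℕ) (hi : r < i) :
    Subsingleton ((localCohomology I i).obj M : Type u) := by
  classical
  have hs : ((Finset.univ.image f : Finset R) : Set R) = Set.range f := by simp
  haveI := subsingleton_of_card_lt (Finset.univ.image f) M i
    (lt_of_le_of_lt (Finset.card_image_le.trans (by simp)) hi)
  exact (radicalEquiv (J := Ideal.span ((Finset.univ.image f : Finset R) : Set R))
    (h.trans (by rw [hs])) i M).injective.subsingleton

theorem exists_radical_generators [IsLocalRing R] (d : ℕ) (hd : ringKrullDim R ≤ d) (I : Ideal R)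
    (hI : I ≠ ⊤) :
    ∃ f : Fin d → R, (∀ i, f i ∈ I) ∧ I.radical = (Ideal.span (Set.range f)).radical := by
  obtain ⟨f, hfI, hf⟩ := exists_avoiding I d
  refine ⟨f, hfI, radical_eq_of_forall I f hfI fun p hp hle => ?_⟩
  by_cases hpm : p = IsLocalRing.maximalIdeal R
  · exact hpm ▸ IsLocalRing.le_maximalIdeal hI
  have hlt : p < IsLocalRing.maximalIdeal R :=
    lt_of_le_of_ne (IsLocalRing.le_maximalIdeal hp.ne_top) hpm
  have h1 : p.height + 1 ≤ d := by
    have h2 := Ideal.height_add_one_le_of_lt_of_isPrime hlt
    have h3 : ((IsLocalRing.maximalIdeal R).height : WithBot ℕ∞) ≤ ((d : ℕ∞) : WithBot ℕ∞) :=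
      (Ideal.height_le_ringKrullDim_of_isPrime).trans hd
    exact h2.trans (WithBot.coe_le_coe.mp h3)
  exact (hf p (lt_of_lt_of_le (ENat.lt_add_one_iff (ne_top_of_le_ne_top (ENat.coe_ne_top d)
    (le_self_add.trans h1)) |>.mpr le_rfl) h1)).mpr hle

theorem cdLE_of_ringKrullDim_local [IsLocalRing R] (I : Ideal R) (d : ℕ) (hd : ringKrullDim R ≤ d) :
    LocCoh.CdLE R I d := by
  intro M _ _ i hi
  by_cases hI : I = ⊤
  · subst hI; exact subsingleton_top i _
  obtain ⟨f, -, hf⟩ := exists_radical_generators d hd I hI
  exact subsingleton_of_radical_fin f hf _ i hi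

/-- Grothendieck vanishing for the ring. -/
theorem cdLE_of_ringKrullDim (I : Ideal R) (d : ℕ) (hd : ringKrullDim R ≤ d) :
    LocCoh.CdLE R I d := by
  intro M _ _ i hi
  refine Module.subsingleton_of_localization_maximal
    (fun (P : Ideal R) [P.IsMaximal] => LocalizedModule P.primeCompl (LocCoh.H I i M))
    (fun P _ => LocalizedModule.mkLinearMap P.primeCompl _) fun P _ => ?_
  haveI : IsNoetherianRing (Localization.AtPrime P) :=
    IsLocalization.isNoetherianRing P.primeCompl _ inferInstance
  haveI : Module.Flat R (Localization.AtPrime P) := IsLocalization.flat _ P.primeCompl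
  obtain ⟨e⟩ := exists_baseChange (Localization.AtPrime P) I M i
  haveI := cdLE_of_ringKrullDim_local (I.map (algebraMap R (Localization.AtPrime P))) d
    ((IsLocalization.AtPrime.ringKrullDim_eq_height P (Localization.AtPrime P)).trans_le
      (Ideal.height_le_ringKrullDim_of_isPrime.trans hd)) (TensorProduct R (Localization.AtPrime P) M) i hi
  exact ((LocalizedModule.equivTensorProduct P.primeCompl _).trans e).injective.subsingleton

/-- Grothendieck vanishing. -/
theorem subsingleton_of_supportDim_lt (I : Ideal R) (M : Type u) [AddCommGroup M] [Module R M] (i : ℕ)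
    (hi : Module.supportDim R M < (i : WithBot ℕ∞)) :
    Subsingleton (LocCoh.H I i M) := by
  refine subsingleton_of_forall_fg I i (ModuleCat.of R M) fun M₀ hM₀ => ?_
  haveI : Module.Finite R M₀ := Module.Finite.of_fg hM₀
  have hlt := lt_of_le_of_lt
    (Module.supportDim_le_of_injective M₀.subtype Subtype.val_injective) hi
  rw [Module.supportDim_eq_ringKrullDim_quotient_annihilator] at hlt
  by_cases htriv : Subsingleton (R ⧸ Module.annihilator R M₀)
  · haveI : Subsingleton M₀ := by
      rw [← Module.annihilator_eq_top_iff (R := R)]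
      exact Ideal.Quotient.subsingleton_iff.mp htriv
    exact ModuleCat.subsingleton_of_isZero
      ((localCohomology I i).map_isZero (ModuleCat.isZero_of_subsingleton _))
  haveI : Nontrivial (R ⧸ Module.annihilator R M₀) := not_subsingleton_iff_nontrivial.mp htriv
  obtain ⟨m, hm⟩ : ∃ m : ℕ, ringKrullDim (R ⧸ Module.annihilator R M₀) ≤ m ∧ m < i := by
    rcases Nat.eq_zero_or_pos i with rfl | hi0
    · exact absurd hlt (not_lt.mpr ringKrullDim_nonneg_of_nontrivial)
    · refine ⟨i - 1, ?_, by omega⟩
      obtain ⟨e, he⟩ := WithBot.ne_bot_iff_exists.mp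
        (lt_of_lt_of_le (WithBot.bot_lt_coe 0)
        (ringKrullDim_nonneg_of_nontrivial (R := R ⧸ Module.annihilator R M₀))).ne'
      rw [← he] at hlt ⊢
      have : e < (i : ℕ∞) := WithBot.coe_lt_coe.mp hlt
      refine WithBot.coe_le_coe.mpr ?_
      cases e with
      | top => exact absurd this (not_lt.mpr le_top)
      | coe n => exact Nat.cast_le.mpr (by have := ENat.coe_lt_coe.mp this; omega)
  letI : Module (R ⧸ Module.annihilator R M₀) M₀ :=
    Module.IsTorsionBySet.module fun x r => Module.mem_annihilator.mp r.2 x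
  haveI : IsScalarTower R (R ⧸ Module.annihilator R M₀) M₀ :=
    Module.IsTorsionBySet.isScalarTower _
  obtain ⟨φ, -⟩ := exists_indep (R' := R ⧸ Module.annihilator R M₀) I M₀ i
  haveI := cdLE_of_ringKrullDim (I.map (algebraMap R (R ⧸ Module.annihilator R M₀))) m hm.1 M₀ i hm.2
  exact φ.symm.injective.subsingleton

/-- It suffices to test the cohomological dimension on the ring. -/
theorem cdLE_of_ring (I : Ideal R) (d : ℕ) (h : ∀ i : ℕ, d < i → Subsingleton (LocCoh.H I i R)) :
    LocCoh.CdLE R I d := by
  obtain ⟨s, rfl⟩ := (IsNoetherian.noetherian I : I.FG)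
  suffices key : ∀ k i, d < i → s.card < i + k → ∀ (M : ModuleCat.{u} R), Module.Finite R M →
      Subsingleton ((localCohomology (Ideal.span (s : Set R)) i).obj M : Type u) by
    intro M _ _ i hi
    refine subsingleton_of_forall_fg _ i (ModuleCat.of R M) fun M₀ hM₀ => ?_
    exact key (s.card + 1) i hi (by omega) _ (Module.Finite.of_fg hM₀)
  intro k
  induction k with
  | zero => intro i hi hs M _; exact subsingleton_of_card_lt s M i (by omega)
  | succ k ih =>
    intro i hi hs M hM
    obtain ⟨n, π, hπ⟩ := Module.Finite.exists_fin' R M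
    let S : ShortComplex (ModuleCat.{u} R) := ShortComplex.mk
      (ModuleCat.ofHom (LinearMap.ker π).subtype) (ModuleCat.ofHom π)
      (by apply ModuleCat.hom_ext; exact LinearMap.ext fun x => x.2)
    have hS : S.ShortExact :=
      { exact := (ShortComplex.moduleCat_exact_iff S).mpr fun x hx => ⟨⟨x, hx⟩, rfl⟩
        mono_f := (ModuleCat.mono_iff_injective _).mpr Subtype.val_injective
        epi_g := (ModuleCat.epi_iff_surjective _).mpr hπ }
    refine subsingleton_right _ hS i ?_ (ih (i + 1) (by omega) (by omega) _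
      (Module.Finite.iff_fg.mpr (IsNoetherian.noetherian _)))
    refine subsingleton_of_forall_eq 0 fun x => ?_
    have hid : (𝟙 S.X₂ : S.X₂ ⟶ S.X₂) = ∑ j, ModuleCat.ofHom (LinearMap.proj j) ≫
        ModuleCat.ofHom (LinearMap.single R (fun _ : Fin n => R) j) := by
      apply ModuleCat.hom_ext
      refine LinearMap.ext fun v => ?_
      simp only [ModuleCat.hom_sum, ModuleCat.hom_comp, LinearMap.sum_apply]
      exact (Finset.univ_sum_single v).symm
    calc x = ((localCohomology _ i).map (𝟙 S.X₂)).hom x := by simp
      _ = 0 := by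
        rw [hid, Functor.map_sum, ModuleCat.hom_sum, LinearMap.sum_apply]
        refine Finset.sum_eq_zero fun j _ => ?_
        rw [Functor.map_comp, ModuleCat.hom_comp, LinearMap.comp_apply]
        refine (congrArg _ ((h i hi).elim
          (((localCohomology (Ideal.span (s : Set R)) i).map (ModuleCat.ofHom (LinearMap.proj j))).hom x)
          0)).trans ?_
        exact map_zero _

end Groth.Agent.LocCohLib
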