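import Mathlib
import Groth.Agent.LocCohLib.Vanishing
import Groth.Agent.LocCohLib.Artinian
import Groth.Agent.CAlgBasics.Depth

/-! Local cohomology at the maximal ideal: Artinian, nonvanishing in the dimension. -/

open CategoryTheory Limits IsLocalRing
open scoped Pointwise

namespace Groth.Agent.LocCohLib

universe u

variable {R : Type u} [CommRing R]

lemma map_smul_id (I : Ideal R) (i : ℕ) (M : ModuleCat.{u} R) (r : R) (z : (localCohomology I i).obj M) :
    ((localCohomology I i).map (r • 𝟙 M)).hom z = r • z := by
  obtain ⟨n, x, rfl⟩ := exists_ι z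
  rw [map_ι, ← Abelian.Ext.smul_eq_comp_mk₀, map_smul]

lemma isPowerTorsion_H (I : Ideal R) (i : ℕ) (M : ModuleCat.{u} R) :
    LocCoh.IsPowerTorsion I ((localCohomology I i).obj M : Type u) := fun z => isPowerTorsion z

variable [IsLocalRing R] [IsNoetherianRing R]

lemma isArtinian_of_finite_annihilated (A : Type u) [AddCommGroup A] [Module R A] [Module.Finite R A]
    (h : ∀ a ∈ maximalIdeal R, ∀ x : A, a • x = 0) : IsArtinian R A := by
  letI : Field (R ⧸ maximalIdeal R) := Ideal.Quotient.field _
  letI : Module (R ⧸ maximalIdeal R) A := Module.IsTorsionBySet.module fun x a => h a.1 a.2 x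
  haveI : IsScalarTower R (R ⧸ maximalIdeal R) A := Module.IsTorsionBySet.isScalarTower _
  haveI : Module.Finite (R ⧸ maximalIdeal R) A := Module.Finite.of_restrictScalars_finite R _ _
  haveI : IsArtinian (R ⧸ maximalIdeal R) A := inferInstance
  exact isArtinian_of_surjective_algebraMap (R := R ⧸ maximalIdeal R) Ideal.Quotient.mk_surjective

lemma isPowerTorsion_of_supportDim_le_zero (A : Type u) [AddCommGroup A] [Module R A] [Module.Finite R A]
    (h : Module.supportDim R A ≤ 0) : LocCoh.IsPowerTorsion (maximalIdeal R) A := by
  by_cases hA : Subsingleton A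
  · exact fun x => ⟨0, fun a _ => Subsingleton.elim _ _⟩
  haveI : Nontrivial A := not_subsingleton_iff_nontrivial.mp hA
  have h0 : Module.supportDim R A = 0 := le_antisymm h (by
    obtain ⟨e, he⟩ := WithBot.ne_bot_iff_exists.mp (Module.supportDim_ne_bot_of_nontrivial R A)
    rw [← he]; exact WithBot.coe_le_coe.mpr zero_le)
  have hs := (Module.support_eq_zeroLocus (R := R) (M := A)).symm.trans (support_of_supportDim_eq_zero (dim := h0))
  rw [PrimeSpectrum.zeroLocus_eq_iff] at hs
  obtain ⟨k, hk⟩ := Ideal.exists_pow_le_of_le_radical_of_fg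
    ((Ideal.le_radical).trans hs.ge) (IsNoetherian.noetherian (maximalIdeal R))
  exact fun x => ⟨k, fun a ha => Module.mem_annihilator.mp (hk ha) x⟩

/-- Passing to `M / Γ(M)`: higher local cohomology is unchanged. -/
lemma isArtinian_H_of_quot (I : Ideal R) (i : ℕ) (M : Type u) [AddCommGroup M] [Module R M] :
    Function.Bijective
      ((localCohomology I (i + 1)).map (ModuleCat.ofHom (DRing.torsionSub I M).mkQ)).hom := by
  let S : ShortComplex (ModuleCat R) := ShortComplex.mk
    (ModuleCat.ofHom (DRing.torsionSub I M).subtype) (ModuleCat.ofHom (DRing.torsionSub I M).mkQ)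
    (by ext x; exact (Submodule.Quotient.mk_eq_zero _).mpr x.2)
  have hS : S.ShortExact :=
    { exact := (ShortComplex.moduleCat_exact_iff S).mpr fun x hx =>
        ⟨⟨x, (Submodule.Quotient.mk_eq_zero _).mp hx⟩, rfl⟩
      mono_f := (ModuleCat.mono_iff_injective _).mpr Subtype.val_injective
      epi_g := (ModuleCat.epi_iff_surjective _).mpr (Submodule.mkQ_surjective _) }
  have h1 : LocCoh.IsPowerTorsion I S.X₁ := by
    rintro ⟨x, n, hn⟩
    exact ⟨n, fun a ha => Subtype.ext (hn a ha)⟩
  refine ⟨(injective_iff_map_eq_zero _).mpr fun z hz => ?_, fun z => ?_⟩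
  · obtain ⟨w, rfl⟩ := exists_of_map_g_eq_zero I hS (i + 1) z hz
    rw [(subsingleton_of_torsion S.X₁ h1 i).elim w 0, map_zero]
  · exact exists_of_δ_eq_zero I hS (i + 1) z ((subsingleton_of_torsion S.X₁ h1 (i + 1)).elim _ _)

lemma socleZero_quot_torsion (M : Type u) [AddCommGroup M] [Module R M] :
    CAlgBasics.SocleZero R (M ⧸ DRing.torsionSub (maximalIdeal R) M) := by
  intro z hz
  obtain ⟨x, rfl⟩ := Submodule.Quotient.mk_surjective _ z
  rw [Submodule.Quotient.mk_eq_zero]
  exact exists_pow_smul_of_fg_of_forall (IsNoetherian.noetherian (maximalIdeal R)) x 1 fun b hb => by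
    rw [pow_one] at hb
    exact (Submodule.Quotient.mk_eq_zero (DRing.torsionSub (maximalIdeal R) M)).mp (hz b hb)

/-- Local cohomology of a finite module at the maximal ideal is Artinian. -/
theorem isArtinian_H (i : ℕ) : ∀ (M : Type u) [AddCommGroup M] [Module R M] [Module.Finite R M],
    IsArtinian R ((localCohomology (maximalIdeal R) i).obj (ModuleCat.of R M) : Type u) := by
  induction i with
  | zero =>
    intro M _ _ _
    refine isArtinian_of_isPowerTorsion _ (IsNoetherian.noetherian _) (isPowerTorsion_H _ _ _) ?_
    haveI : IsNoetherian R ((localCohomology (maximalIdeal R) 0).obj (ModuleCat.of R M) : Type u) :=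
      isNoetherian_of_injective (h0 (maximalIdeal R) (ModuleCat.of R M)) h0_injective
    refine isArtinian_of_finite_annihilated _ fun a ha x => Subtype.ext ?_
    exact (Submodule.mem_torsionBySet_iff _ _).mp x.2 ⟨a, ha⟩
  | succ i ih =>
    intro M _ _ _
    have hb := isArtinian_H_of_quot (maximalIdeal R) i M
    let N := M ⧸ DRing.torsionSub (maximalIdeal R) M
    suffices IsArtinian R ((localCohomology (maximalIdeal R) (i + 1)).obj (ModuleCat.of R N) : Type u) from
      isArtinian_of_injective _ hb.1
    by_cases hN : Subsingleton N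
    · haveI : Subsingleton ((localCohomology (maximalIdeal R) (i + 1)).obj (ModuleCat.of R N) : Type u) :=
        ModuleCat.subsingleton_of_isZero
          ((localCohomology _ (i + 1)).map_isZero (ModuleCat.isZero_of_subsingleton _))
      infer_instance
    haveI : Nontrivial N := not_subsingleton_iff_nontrivial.mp hN
    obtain ⟨r, hr, hreg⟩ := (socleZero_quot_torsion (R := R) M).exists_isSMulRegular
    refine isArtinian_of_isPowerTorsion _ (IsNoetherian.noetherian _) (isPowerTorsion_H _ _ _) ?_
    have hS := IsSMulRegular.smulShortComplex_shortExact (M := ModuleCat.of R N) hreg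
    haveI := ih (QuotSMulTop r N)
    let K := LinearMap.ker (LinearMap.lsmul R
      ((localCohomology (maximalIdeal R) (i + 1)).obj (ModuleCat.of R N) : Type u) r)
    haveI : IsArtinian R K := by
      let g : ((localCohomology (maximalIdeal R) i).obj (ModuleCat.of R (QuotSMulTop r N)) : Type u) →ₗ[R] K :=
        LinearMap.codRestrict K (δ (maximalIdeal R) hS i) fun z => by
          have := map_f_δ (maximalIdeal R) hS i z
          rw [ModuleCat.smulShortComplex_f_eq_smul_id] at this
          exact (map_smul_id _ _ (ModuleCat.of R N) r _).symm.trans this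
      refine isArtinian_of_surjective _ g fun ⟨w, hw⟩ => ?_
      obtain ⟨z, hz⟩ := exists_of_map_f_eq_zero (maximalIdeal R) hS i w (by
        rw [ModuleCat.smulShortComplex_f_eq_smul_id]
        exact (map_smul_id _ _ (ModuleCat.of R N) r _).trans hw)
      exact ⟨z, Subtype.ext hz⟩
    exact isArtinian_of_injective (Submodule.inclusion (p' := K) fun x hx =>
      (Submodule.mem_torsionBySet_iff _ _).mp hx ⟨r, hr⟩) (Submodule.inclusion_injective _)

lemma support_quot_torsion (M : Type u) [AddCommGroup M] [Module R M] [Module.Finite R M]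
    (n : ℕ) (hn0 : 0 < n) (hn : Module.supportDim R M = n) :
    Nontrivial (M ⧸ DRing.torsionSub (maximalIdeal R) M) ∧
      Module.supportDim R (M ⧸ DRing.torsionSub (maximalIdeal R) M) = n := by
  let Γ := DRing.torsionSub (maximalIdeal R) M
  have hex : Function.Exact Γ.subtype Γ.mkQ := LinearMap.exact_subtype_mkQ Γ
  have hsupp := Module.support_of_exact hex Γ.injective_subtype Γ.mkQ_surjective
  have hΓ : Module.support R Γ ⊆ {IsLocalRing.closedPoint R} := by
    intro p hp
    obtain ⟨⟨x, k, hk⟩, hx⟩ := Module.mem_support_iff'.mp hp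
    refine PrimeSpectrum.ext (le_antisymm (IsLocalRing.le_maximalIdeal p.2.ne_top) ?_)
    refine p.2.le_of_pow_le (n := k) fun a ha => ?_
    by_contra hap
    exact hx a hap (Subtype.ext (hk a ha))
  haveI hNt : Nontrivial (M ⧸ Γ) := by
    by_contra hc
    rw [not_nontrivial_iff_subsingleton] at hc
    have h1 : Module.supportDim R M ≤ 0 := by
      have h2 : Module.support R M ⊆ {IsLocalRing.closedPoint R} := by
        rw [hsupp, Module.support_eq_empty_iff.mpr hc, Set.union_empty]
        exact hΓ
      haveI : Subsingleton (Module.support R M) := ⟨fun a b => Subtype.ext ((h2 a.2).trans (h2 b.2).symm)⟩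
      exact Order.krullDim_nonpos_of_subsingleton
    rw [hn] at h1
    have h3 : n ≤ 0 := by exact_mod_cast h1
    omega
  refine ⟨hNt, ?_⟩
  have heq : Module.support R M = Module.support R (M ⧸ Γ) := by
    rw [hsupp, Set.union_eq_right]
    exact hΓ.trans (Set.singleton_subset_iff.mpr (IsLocalRing.closedPoint_mem_support R _))
  rw [← hn]
  unfold Module.supportDim
  rw [heq]

/-- The top local cohomology at the maximal ideal is not finitely generated. -/
theorem not_finite_H : ∀ (n : ℕ), 0 < n → ∀ (M : Type u) [AddCommGroup M] [Module R M] [Module.Finite R M],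
    Module.supportDim R M = n →
    ¬ Module.Finite R ((localCohomology (maximalIdeal R) n).obj (ModuleCat.of R M) : Type u) := by
  classical
  intro n
  induction n with
  | zero => intro h; exact absurd h (lt_irrefl 0)
  | succ n ih =>
    intro _ M _ _ _ hdim hfin
    obtain ⟨hNt, hNdim⟩ := support_quot_torsion M (n + 1) (Nat.succ_pos n) hdim
    haveI : Nontrivial (M ⧸ DRing.torsionSub (maximalIdeal R) M) := hNt
    let N := M ⧸ DRing.torsionSub (maximalIdeal R) M
    haveI hfinN : Module.Finite R ((localCohomology (maximalIdeal R) (n + 1)).obj (ModuleCat.of R N) : Type u) :=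
      Module.Finite.of_surjective _ (isArtinian_H_of_quot (maximalIdeal R) n M).2
    obtain ⟨r₀, hr₀, hreg₀⟩ := (socleZero_quot_torsion (R := R) M).exists_isSMulRegular
    rcases Nat.eq_zero_or_pos n with rfl | hn
    · obtain ⟨c, hc⟩ := exists_pow_smul_eq_zero_of_fg (maximalIdeal R) (Module.Finite.fg_top (R := R)
        (M := ((localCohomology (maximalIdeal R) (0 + 1)).obj (ModuleCat.of R N) : Type u)))
        (fun z _ => isPowerTorsion z)
      have hreg := hreg₀.pow (c + 1)
      have hS := IsSMulRegular.smulShortComplex_shortExact (M := ModuleCat.of R N) hreg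
      have hQdim : Module.supportDim R (QuotSMulTop (r₀ ^ (c + 1)) N) ≤ 0 := by
        have h := Module.supportDim_quotSMulTop_succ_eq_supportDim_mem_jacobson hreg
          (by
            rw [IsLocalRing.jacobson_eq_maximalIdeal _ (by
              rw [Ne, Module.annihilator_eq_top_iff]; exact not_subsingleton N)]
            exact Ideal.pow_mem_of_mem _ hr₀ _ (Nat.succ_pos c))
        rw [hNdim] at h
        generalize Module.supportDim R (QuotSMulTop (r₀ ^ (c + 1)) N) = s at h ⊢
        cases s with
        | bot => exact bot_le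
        | coe s =>
          cases s with
          | top => exact absurd (WithBot.coe_injective (h : ((⊤ + 1 : ℕ∞) : WithBot ℕ∞) = _)) (by simp)
          | coe k =>
            have : k + 1 = 0 + 1 := by exact_mod_cast h
            simp [Nat.succ_injective this]
      have htor := isPowerTorsion_of_supportDim_le_zero _ hQdim
      have hδ : ∀ q : QuotSMulTop (r₀ ^ (c + 1)) N, r₀ ^ c • q = 0 := by
        intro q
        let z := (h0Equiv (maximalIdeal R) (ModuleCat.of R (QuotSMulTop (r₀ ^ (c + 1)) N))).symm ⟨q, htor q⟩
        let d₀ : ((localCohomology (maximalIdeal R) 0).obj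
            (ModuleCat.of R (QuotSMulTop (r₀ ^ (c + 1)) N)) : Type u) →ₗ[R]
            ((localCohomology (maximalIdeal R) (0 + 1)).obj (ModuleCat.of R N) : Type u) :=
          δ (maximalIdeal R) hS 0
        have hz : d₀ (r₀ ^ c • z) = 0 := by
          rw [map_smul]
          exact hc _ (Ideal.pow_mem_pow hr₀ c) _ trivial
        obtain ⟨w, hw⟩ := exists_of_δ_eq_zero (maximalIdeal R) hS 0 _ hz
        have hN0 : Subsingleton ((localCohomology (maximalIdeal R) 0).obj (ModuleCat.of R N) : Type u) := by
          refine subsingleton_of_forall_eq 0 fun z => h0_injective ?_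
          obtain ⟨k, hk⟩ : h0 (maximalIdeal R) (ModuleCat.of R N) z ∈
              DRing.torsionSub (maximalIdeal R) N := range_h0 (M := ModuleCat.of R N) ▸ ⟨z, rfl⟩
          rw [map_zero]
          exact (socleZero_quot_torsion (R := R) M).eq_zero_of_pow k hk
        replace hw : (0 : ((localCohomology (maximalIdeal R) 0).obj
            (ModuleCat.of R (QuotSMulTop (r₀ ^ (c + 1)) N)) : Type u)) = r₀ ^ c • z :=
          ((congrArg ((localCohomology (maximalIdeal R) 0).map
            ((ModuleCat.of R N).smulShortComplex (r₀ ^ (c + 1))).g).hom (hN0.elim w 0)).trans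
              (map_zero _)).symm.trans hw
        have h2 := congrArg (h0Equiv (maximalIdeal R) (ModuleCat.of R (QuotSMulTop (r₀ ^ (c + 1)) N))) hw
        simp only [map_zero, map_smul, z, LinearEquiv.apply_symm_apply] at h2
        exact (congrArg Subtype.val h2).symm
      apply CAlgBasics.maximalIdeal_smul_top_ne_top (R := R) (M := N)
      refine eq_top_iff.mpr fun x _ => ?_
      have hx := hδ (Submodule.Quotient.mk x)
      rw [← Submodule.Quotient.mk_smul, Submodule.Quotient.mk_eq_zero,
        Submodule.mem_smul_pointwise_iff_exists] at hx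
      obtain ⟨y, -, hy⟩ := hx
      rw [pow_succ, mul_smul] at hy
      rw [← (hreg₀.pow c).eq_iff.mp hy]
      exact Submodule.smul_mem_smul hr₀ trivial
    · haveI := isArtinian_H (R := R) n N
      obtain ⟨P, k, hP, hsurj⟩ := exists_bad_primes (maximalIdeal R)
        ((localCohomology (maximalIdeal R) n).obj (ModuleCat.of R N) : Type u)
        (IsNoetherian.noetherian _)
      have hass := associatedPrimes.finite R N
      obtain ⟨x, hx, hxP, hxreg⟩ : ∃ x ∈ maximalIdeal R, (∀ p ∈ P, x ∉ p) ∧ IsSMulRegular N x := by
        by_contra hne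
        push Not at hne
        have hsub : (maximalIdeal R : Set R) ⊆ ⋃ p ∈ P ∪ hass.toFinset, (p : Set R) := by
          intro a ha
          by_cases h : ∃ p ∈ P, a ∈ p
          · obtain ⟨p, hp, hap⟩ := h
            exact Set.mem_biUnion (Finset.mem_union_left _ hp) hap
          · push Not at h
            have h2 : a ∈ ({r | IsSMulRegular N r}ᶜ : Set R) := hne a ha h
            rw [← biUnion_associatedPrimes_eq_compl_regular] at h2
            obtain ⟨p, hp, hap⟩ := Set.mem_iUnion₂.mp h2
            exact Set.mem_biUnion (Finset.mem_union_right _ (hass.mem_toFinset.mpr hp)) hap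
        have hpr : ∀ p ∈ P ∪ hass.toFinset, p.IsPrime := fun p hp =>
          (Finset.mem_union.mp hp).elim (fun h => (hP p h).1)
            (fun h => by
              have h1 : IsAssociatedPrime p N := hass.mem_toFinset.mp h
              exact h1.isPrime)
        obtain ⟨p, hp, hle⟩ := (Ideal.subset_union_prime (f := id) ⊥ ⊥ fun p hp _ _ => hpr p hp).mp hsub
        rcases Finset.mem_union.mp hp with h | h
        · exact (hP p h).2 hle
        · have hpm : p = maximalIdeal R :=
            le_antisymm (le_maximalIdeal (hass.mem_toFinset.mp h).isPrime.ne_top) hle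
          have hmem : maximalIdeal R ∈ associatedPrimes R N :=
            Set.mem_of_eq_of_mem hpm.symm (hass.mem_toFinset.mp h)
          have : r₀ ∈ ⋃ p ∈ associatedPrimes R N, (p : Set R) := Set.mem_biUnion hmem hr₀
          rw [biUnion_associatedPrimes_eq_compl_regular] at this
          exact this hreg₀
      have hS := IsSMulRegular.smulShortComplex_shortExact (M := ModuleCat.of R N) hxreg
      have hQ : Module.supportDim R (QuotSMulTop x N) = n := by
        have h := Module.supportDim_quotSMulTop_succ_eq_supportDim_mem_jacobson hxreg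
          (by rw [IsLocalRing.jacobson_eq_maximalIdeal _ (by
              rw [Ne, Module.annihilator_eq_top_iff]; exact not_subsingleton N)]; exact hx)
        rw [hNdim] at h
        generalize Module.supportDim R (QuotSMulTop x N) = s at h ⊢
        cases s with
        | bot => exact absurd (WithBot.bot_add (1 : WithBot ℕ∞) ▸ h).symm (WithBot.coe_ne_bot)
        | coe s =>
          cases s with
          | top =>
            refine absurd (WithBot.coe_injective (h : ((⊤ + 1 : ℕ∞) : WithBot ℕ∞) = ((n + 1 : ℕ) : ℕ∞))) ?_
            exact fun e => ENat.top_ne_coe (n + 1) ((top_add (1 : ℕ∞)).symm.trans e)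
          | coe k =>
            have h2 : ((k + 1 : ℕ) : ℕ∞) = ((n + 1 : ℕ) : ℕ∞) := WithBot.coe_injective h
            rw [Nat.succ_injective (Nat.cast_injective h2)]
            rfl
      refine ih hn (QuotSMulTop x N) hQ ?_
      let g : ((localCohomology (maximalIdeal R) n).obj (ModuleCat.of R N) : Type u) →ₗ[R]
          ((localCohomology (maximalIdeal R) n).obj (ModuleCat.of R (QuotSMulTop x N)) : Type u) :=
        ((localCohomology (maximalIdeal R) n).map ((ModuleCat.of R N).smulShortComplex x).g).hom
      let d : ((localCohomology (maximalIdeal R) n).obj (ModuleCat.of R (QuotSMulTop x N)) : Type u) →ₗ[R]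
          ((localCohomology (maximalIdeal R) (n + 1)).obj (ModuleCat.of R N) : Type u) :=
        δ (maximalIdeal R) hS n
      have hker : LinearMap.ker d = LinearMap.range g := le_antisymm
        (fun z hz => exists_of_δ_eq_zero (maximalIdeal R) hS n z hz)
        (by rintro _ ⟨w, rfl⟩; exact δ_map_g (maximalIdeal R) hS n w)
      haveI : Module.Finite R (LinearMap.range g) := by
        refine finite_of_pow_annihilates (maximalIdeal R) k _ fun a ha z => ?_
        obtain ⟨_, w, rfl⟩ := z
        refine Subtype.ext ?_
        change a • g w = 0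
        obtain ⟨v, hv⟩ := hsurj x hxP 1 w a ha
        rw [← map_smul, ← hv, pow_one, ← map_smul_id (maximalIdeal R) n (ModuleCat.of R N) x v]
        refine Eq.trans ?_ (map_g_map_f (S := (ModuleCat.of R N).smulShortComplex x) (maximalIdeal R) n v)
        rw [ModuleCat.smulShortComplex_f_eq_smul_id]
        rfl
      haveI : Module.Finite R (LinearMap.ker d) := by rw [hker]; infer_instance
      haveI : Module.Finite R (_ ⧸ LinearMap.ker d) :=
        Module.Finite.of_injective ((LinearMap.ker d).liftQ d le_rfl)
          (LinearMap.ker_eq_bot.mp (Submodule.ker_liftQ_eq_bot' _ _ rfl))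
      exact Module.Finite.of_submodule_quotient (LinearMap.ker d)

/-- Grothendieck nonvanishing. -/
theorem nontrivial_H (M : Type u) [AddCommGroup M] [Module R M] [Module.Finite R M] [Nontrivial M]
    (n : ℕ) (hn : Module.supportDim R M = n) :
    Nontrivial ((localCohomology (maximalIdeal R) n).obj (ModuleCat.of R M) : Type u) := by
  rcases Nat.eq_zero_or_pos n with rfl | h
  · have htor := isPowerTorsion_of_supportDim_le_zero (R := R) M (le_of_eq (by simpa using hn))
    obtain ⟨x, hx⟩ := exists_ne (0 : M)
    exact ⟨⟨(h0Equiv (maximalIdeal R) (ModuleCat.of R M)).symm ⟨x, htor x⟩, 0, fun hc => hx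
      (congrArg Subtype.val ((LinearEquiv.symm_apply_eq _).mp hc |>.trans (map_zero _)))⟩⟩
  · by_contra hc
    rw [not_nontrivial_iff_subsingleton] at hc
    exact not_finite_H n h M hn inferInstance

end Groth.Agent.LocCohLib
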