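import Mathlib
import Groth.Agent.LocCohLib.MaxIdeal

/-! Finiteness of local cohomology along short exact sequences. -/

open CategoryTheory Limits TensorProduct

namespace Groth.Agent.LocCohLib

universe u

variable {R : Type u} [CommRing R] {I : Ideal R}

lemma finite_H0 [IsNoetherianRing R] (I : Ideal R) (M : ModuleCat.{u} R) [Module.Finite R M] :
    Module.Finite R ((localCohomology I 0).obj M : Type u) :=
  Module.Finite.of_injective (h0 I M) (h0_injective (I := I) (M := M))

lemma finite_H_of_mid {S : ShortComplex (ModuleCat.{u} R)} (hS : S.ShortExact) [IsNoetherianRing R]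
    (I : Ideal R) (i : ℕ) (h₁ : Module.Finite R ((localCohomology I i).obj S.X₁ : Type u))
    (h₃ : Module.Finite R ((localCohomology I i).obj S.X₃ : Type u)) :
    Module.Finite R ((localCohomology I i).obj S.X₂ : Type u) := by
  have hker : (LinearMap.ker ((localCohomology I i).map S.g).hom) ≤
      LinearMap.range ((localCohomology I i).map S.f).hom := fun z hz => exists_of_map_g_eq_zero I hS i z hz
  haveI : IsNoetherian R (LinearMap.ker ((localCohomology I i).map S.g).hom) :=
    isNoetherian_of_le hker
  haveI := Module.Finite.equiv ((localCohomology I i).map S.g).hom.quotKerEquivRange.symm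
  exact Module.Finite.of_submodule_quotient (LinearMap.ker ((localCohomology I i).map S.g).hom)

lemma finite_H_succ_of_left {S : ShortComplex (ModuleCat.{u} R)} (hS : S.ShortExact) [IsNoetherianRing R]
    (I : Ideal R) (i : ℕ) (h₃ : Module.Finite R ((localCohomology I i).obj S.X₃ : Type u))
    (h₂ : Module.Finite R ((localCohomology I (i + 1)).obj S.X₂ : Type u)) :
    Module.Finite R ((localCohomology I (i + 1)).obj S.X₁ : Type u) := by
  have hker : (LinearMap.ker ((localCohomology I (i + 1)).map S.f).hom) ≤
      LinearMap.range (δ I hS i) := fun z hz => exists_of_map_f_eq_zero I hS i z hz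
  haveI : IsNoetherian R (LinearMap.range (δ I hS i)) := inferInstance
  haveI : IsNoetherian R (LinearMap.ker ((localCohomology I (i + 1)).map S.f).hom) :=
    isNoetherian_of_le hker
  haveI := Module.Finite.equiv ((localCohomology I (i + 1)).map S.f).hom.quotKerEquivRange.symm
  exact Module.Finite.of_submodule_quotient (LinearMap.ker ((localCohomology I (i + 1)).map S.f).hom)

/-- The short exact sequence attached to a submodule. -/
noncomputable abbrev subSeq (M : Type u) [AddCommGroup M] [Module R M] (L : Submodule R M) :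
    ShortComplex (ModuleCat.{u} R) :=
  ShortComplex.mk (ModuleCat.ofHom L.subtype) (ModuleCat.ofHom L.mkQ)
    (by ext x; exact (Submodule.Quotient.mk_eq_zero L).mpr x.2)

lemma subSeq_shortExact (M : Type u) [AddCommGroup M] [Module R M] (L : Submodule R M) :
    (subSeq M L).ShortExact where
  exact := (ShortComplex.moduleCat_exact_iff _).mpr fun x hx =>
    ⟨⟨x, (Submodule.Quotient.mk_eq_zero _).mp hx⟩, rfl⟩
  mono_f := (ModuleCat.mono_iff_injective _).mpr Subtype.val_injective
  epi_g := (ModuleCat.epi_iff_surjective _).mpr (Submodule.mkQ_surjective _)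

/-- The short exact sequence attached to an injective map. -/
noncomputable abbrev injSeq {M N : Type u} [AddCommGroup M] [Module R M] [AddCommGroup N] [Module R N]
    (f : M →ₗ[R] N) : ShortComplex (ModuleCat.{u} R) :=
  ShortComplex.mk (ModuleCat.ofHom f) (ModuleCat.ofHom (LinearMap.range f).mkQ)
    (by ext x; exact (Submodule.Quotient.mk_eq_zero _).mpr ⟨x, rfl⟩)

lemma injSeq_shortExact {M N : Type u} [AddCommGroup M] [Module R M] [AddCommGroup N] [Module R N]
    (f : M →ₗ[R] N) (hf : Function.Injective f) : (injSeq f).ShortExact where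
  exact := (ShortComplex.moduleCat_exact_iff _).mpr fun x hx => (Submodule.Quotient.mk_eq_zero _).mp hx
  mono_f := (ModuleCat.mono_iff_injective _).mpr hf
  epi_g := (ModuleCat.epi_iff_surjective _).mpr (Submodule.mkQ_surjective _)

variable [IsNoetherianRing R]

lemma finite_H1_of_injective (I : Ideal R) {M N : Type u} [AddCommGroup M] [Module R M]
    [AddCommGroup N] [Module R N] [Module.Finite R N] (f : M →ₗ[R] N) (hf : Function.Injective f)
    (h : Module.Finite R (LocCoh.H I 1 N)) : Module.Finite R (LocCoh.H I 1 M) :=
  finite_H_succ_of_left (injSeq_shortExact f hf) I 0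
    (finite_H0 I (ModuleCat.of R (N ⧸ LinearMap.range f))) h

lemma finite_H_of_linearEquiv (I : Ideal R) (i : ℕ) {M N : Type u} [AddCommGroup M] [Module R M]
    [AddCommGroup N] [Module R N] (e : M ≃ₗ[R] N) (h : Module.Finite R (LocCoh.H I i M)) :
    Module.Finite R (LocCoh.H I i N) :=
  Module.Finite.equiv ((localCohomology I i).mapIso e.toModuleIso).toLinearEquiv

lemma finite_H_pi (I : Ideal R) (i : ℕ) (M : Type u) [AddCommGroup M] [Module R M]
    (h : Module.Finite R (LocCoh.H I i M)) : ∀ n : ℕ, Module.Finite R (LocCoh.H I i (Fin n → M)) := by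
  intro n
  induction n with
  | zero =>
    haveI : Subsingleton ((localCohomology I i).obj (ModuleCat.of R (Fin 0 → M)) : Type u) :=
      ModuleCat.subsingleton_of_isZero
        ((localCohomology I i).map_isZero (ModuleCat.isZero_of_subsingleton _))
    infer_instance
  | succ n ih =>
    let p : (Fin (n + 1) → M) →ₗ[R] (Fin n → M) := LinearMap.funLeft R M Fin.succ
    let j : M →ₗ[R] (Fin (n + 1) → M) := LinearMap.single R (fun _ => M) 0
    let S : ShortComplex (ModuleCat.{u} R) := ShortComplex.mk (ModuleCat.ofHom j) (ModuleCat.ofHom p)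
      (by ext x k; exact Pi.single_eq_of_ne (M := fun _ => M) (Fin.succ_ne_zero k) x)
    have hS : S.ShortExact :=
      { exact := (ShortComplex.moduleCat_exact_iff _).mpr fun x hx => ⟨x 0, funext fun k => by
          refine Fin.cases ?_ (fun k => ?_) k
          · exact Pi.single_eq_same (M := fun _ => M) 0 (x 0)
          · exact (Pi.single_eq_of_ne (M := fun _ => M) (Fin.succ_ne_zero k) (x 0)).trans
              (congrFun hx k).symm⟩
        mono_f := (ModuleCat.mono_iff_injective _).mpr (Pi.single_injective (M := fun _ => M) 0)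
        epi_g := (ModuleCat.epi_iff_surjective _).mpr fun y => ⟨Fin.cons 0 y, funext fun k => rfl⟩ }
    exact finite_H_of_mid hS I i h ih

/-- A finite torsion free module over a Noetherian domain embeds into a finite free module. -/
theorem exists_injective_free (B : Type u) [CommRing B] [IsDomain B] [IsNoetherianRing B] (N : Type u)
    [AddCommGroup N] [Module B N] [Module.Finite B N]
    (htf : ∀ (b : B) (x : N), b • x = 0 → b = 0 ∨ x = 0) :
    ∃ (n : ℕ) (g : N →ₗ[B] (Fin n → B)), Function.Injective g := by
  classical
  let K := FractionRing B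
  let V := K ⊗[B] N
  let bV := Module.finBasis K V
  let φ : N →ₗ[B] (Fin (Module.finrank K V) → K) :=
    (bV.equivFun.restrictScalars B).toLinearMap ∘ₗ TensorProduct.mk B K N 1
  have hφ : Function.Injective φ := by
    refine (injective_iff_map_eq_zero _).mpr fun x hx => ?_
    have hx' : TensorProduct.mk B K N 1 x = 0 :=
      (bV.equivFun.restrictScalars B).injective (hx.trans (map_zero _).symm)
    obtain ⟨c, hc⟩ := (IsLocalizedModule.eq_zero_iff (nonZeroDivisors B) (TensorProduct.mk B K N 1)).mp hx'
    exact (htf c x hc).resolve_left (nonZeroDivisors.coe_ne_zero c)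
  obtain ⟨s, hs⟩ := (Module.finite_def.mp (inferInstance : Module.Finite B N))
  obtain ⟨b, hb⟩ := IsLocalization.exist_integer_multiples (nonZeroDivisors B)
    (s ×ˢ (Finset.univ : Finset (Fin (Module.finrank K V)))) (fun p => φ p.1 p.2)
  let ι : (Fin (Module.finrank K V) → B) →ₗ[B] (Fin (Module.finrank K V) → K) :=
    (Algebra.linearMap B K).compLeft _
  have hι : Function.Injective ι := fun x y hxy => funext fun k =>
    IsFractionRing.injective B K (congrFun hxy k)
  have hmem : ∀ x, ((b : B) • φ) x ∈ LinearMap.range ι := by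
    intro x
    have htop : (⊤ : Submodule B N) ≤ (LinearMap.range ι).comap ((b : B) • φ) := by
      rw [← hs, Submodule.span_le]
      intro y hy
      choose c hc using fun k => hb (y, k) (Finset.mem_product.mpr ⟨hy, Finset.mem_univ k⟩)
      exact ⟨c, funext fun k => hc k⟩
    exact htop (Submodule.mem_top (x := x))
  refine ⟨_, (LinearEquiv.ofInjective ι hι).symm.toLinearMap ∘ₗ ((b : B) • φ).codRestrict _ hmem, ?_⟩
  refine (LinearEquiv.ofInjective ι hι).symm.injective.comp fun x y hxy => hφ ?_
  exact smul_right_injective _ (nonZeroDivisors.coe_ne_zero b) (congrArg Subtype.val hxy)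

theorem finite_H1_of_associatedPrimes (I : Ideal R) (M : Type u) [AddCommGroup M] [Module R M]
    [Module.Finite R M] (h : ∀ p ∈ associatedPrimes R M, Module.Finite R (LocCoh.H I 1 (R ⧸ p))) :
    Module.Finite R (LocCoh.H I 1 M) := by
  suffices ∀ L : Submodule R M, associatedPrimes R (M ⧸ L) ⊆ associatedPrimes R M →
      Module.Finite R (LocCoh.H I 1 (M ⧸ L)) from
    finite_H_of_linearEquiv I 1 (Submodule.quotEquivOfEqBot _ rfl)
      (this ⊥ (LinearEquiv.AssociatedPrimes.eq (Submodule.quotEquivOfEqBot _ rfl)).le)
  intro L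
  induction L using WellFoundedGT.induction with
  | ind L ih =>
    intro hass
    by_cases htriv : Subsingleton (M ⧸ L)
    · haveI : Subsingleton ((localCohomology I 1).obj (ModuleCat.of R (M ⧸ L)) : Type u) :=
        ModuleCat.subsingleton_of_isZero
          ((localCohomology I 1).map_isZero (ModuleCat.isZero_of_subsingleton _))
      infer_instance
    haveI : Nontrivial (M ⧸ L) := not_subsingleton_iff_nontrivial.mp htriv
    obtain ⟨p, hp⟩ := associatedPrimes.nonempty R (M ⧸ L)
    obtain ⟨p, ⟨hp, hpmax⟩⟩ := (associatedPrimes.finite R (M ⧸ L)).exists_maximal ⟨p, hp⟩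
    obtain ⟨r, hr⟩ := (IsNoetherian.noetherian p : p.FG)
    let g : (M ⧸ L) →ₗ[R] (r → M ⧸ L) := LinearMap.pi fun a => LinearMap.lsmul R (M ⧸ L) a.1
    let N := LinearMap.ker g
    have hN : ∀ x : N, ∀ a ∈ p, a • x = 0 := by
      intro x a ha
      rw [← hr] at ha
      refine Submodule.span_induction (fun c hc => Subtype.ext (congrFun x.2 ⟨c, hc⟩)) (zero_smul _ _)
        (fun c c' _ _ hc hc' => by rw [add_smul, hc, hc', add_zero])
        (fun c c' _ hc' => by rw [smul_assoc, hc', smul_zero]) ha
    obtain ⟨hpp, x0, hx0⟩ := isAssociatedPrime_iff.mp hp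
    haveI := hpp
    -- the quotient by `N` has associated primes among those of `M`
    let L' := N.comap L.mkQ
    have hLL' : L < L' := by
      refine lt_of_le_not_ge (fun x hx => ?_) fun hle => ?_
      · change L.mkQ x ∈ N
        rw [show L.mkQ x = 0 from (Submodule.Quotient.mk_eq_zero L).mpr hx]
        exact zero_mem _
      · obtain ⟨x1, rfl⟩ := Submodule.Quotient.mk_surjective L x0
        have hmem : x1 ∈ L' := funext fun a => Submodule.mem_colon_singleton.mp
          (show (a.1 : R) ∈ (⊥ : Submodule R (M ⧸ L)).colon {Submodule.Quotient.mk x1} from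
            hx0 ▸ hr ▸ Submodule.subset_span a.2)
        rw [(Submodule.Quotient.mk_eq_zero L).mpr (hle hmem)] at hx0
        exact hpp.ne_top ((Ideal.eq_top_iff_one _).mpr (hx0 ▸ Submodule.mem_colon_singleton.mpr (smul_zero _)))
    let e : (M ⧸ L') ≃ₗ[R] (M ⧸ L) ⧸ N :=
      (Submodule.quotEquivOfEq _ _ (by rw [LinearMap.ker_comp, Submodule.ker_mkQ])).trans
        ((N.mkQ ∘ₗ L.mkQ).quotKerEquivOfSurjective
          ((Submodule.mkQ_surjective _).comp (Submodule.mkQ_surjective _)))
    have hassL' : associatedPrimes R (M ⧸ L') ⊆ associatedPrimes R M := by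
      rw [LinearEquiv.AssociatedPrimes.eq e, LinearEquiv.AssociatedPrimes.eq g.quotKerEquivRange]
      intro q hq
      have h1 := associatedPrimes.subset_of_injective (f := (LinearMap.range g).subtype)
        Subtype.val_injective hq
      refine hass ?_
      obtain ⟨hq', y, hy⟩ := isAssociatedPrime_iff.mp h1
      have hT : q = (Finset.univ : Finset r).inf fun a => (⊥ : Submodule R (M ⧸ L)).colon {y a} := by
        refine hy.trans (Submodule.ext fun c => ?_)
        simp [Submodule.mem_colon_singleton, Submodule.mem_finsetInf, funext_iff]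
      obtain ⟨a, -, ha⟩ := (Ideal.IsPrime.inf_le' hq').mp hT.ge
      exact isAssociatedPrime_iff.mpr ⟨hq', y a,
        le_antisymm (hT.le.trans (Finset.inf_le (Finset.mem_univ a))) ha⟩
    have hq : Module.Finite R (LocCoh.H I 1 ((M ⧸ L) ⧸ N)) :=
      finite_H_of_linearEquiv I 1 e (ih L' hLL' hassL')
    -- the submodule `N` is torsion free over `R ⧸ p`
    let B := R ⧸ p
    letI : Module B N := Module.IsTorsionBySet.module fun x a => hN x a.1 a.2
    haveI : IsScalarTower R B N := Module.IsTorsionBySet.isScalarTower _
    haveI : Module.Finite R N := Module.Finite.of_fg (IsNoetherian.noetherian N)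
    haveI : Module.Finite B N := Module.Finite.of_restrictScalars_finite R B N
    have htf : ∀ (c : B) (x : N), c • x = 0 → c = 0 ∨ x = 0 := by
      intro c x hcx
      obtain ⟨c, rfl⟩ := Ideal.Quotient.mk_surjective c
      by_contra hcon
      push Not at hcon
      have hc : c ∈ ⋃ q ∈ associatedPrimes R N, (q : Set R) := by
        rw [biUnion_associatedPrimes_eq_zero_divisors]
        exact ⟨x, hcon.2, hcx⟩
      obtain ⟨q, hq, hcq⟩ := Set.mem_iUnion₂.mp hc
      have hq' := associatedPrimes.subset_of_injective (f := N.subtype) Subtype.val_injective hq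
      have hpq : p ≤ q := fun a ha => hq.annihilator_le (Module.mem_annihilator.mpr fun z => Subtype.ext (hN z.1 a ha))
      exact hcon.1 (Ideal.Quotient.eq_zero_iff_mem.mpr (hpmax hq' hpq hcq))
    obtain ⟨n, f, hf⟩ := exists_injective_free B N htf
    haveI : Module.Finite R (Fin n → B) := inferInstance
    have hNfin : Module.Finite R (LocCoh.H I 1 N) :=
      finite_H1_of_injective I (f.restrictScalars R) hf (finite_H_pi I 1 B (h p (hass hp)) n)
    exact finite_H_of_mid (subSeq_shortExact (M ⧸ L) N) I 1 hNfin hq

end Groth.Agent.LocCohLib
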