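import Mathlib
import Groth.Agent.LocCohLib.FiniteH1

/-! Finiteness of local cohomology and annihilators (Faltings). -/

open CategoryTheory Limits

namespace Groth.Agent.LocCohLib

universe u

variable {R : Type u} [CommRing R] [IsNoetherianRing R]

/-- Passing to the quotient by torsion: degree `i` surjects, degree `i + 1` is bijective. -/
lemma quot_torsion_surjective (I : Ideal R) (M : Type u) [AddCommGroup M] [Module R M] (i : ℕ) :
    Function.Surjective ((localCohomology I i).map
      (subSeq M (DRing.torsionSub I M)).g).hom := fun y => by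
  have ht : LocCoh.IsPowerTorsion I (DRing.torsionSub I M) := fun x => by
    obtain ⟨n, hn⟩ := x.2
    exact ⟨n, fun a ha => Subtype.ext (hn a ha)⟩
  haveI : Subsingleton ((localCohomology I (i + 1)).obj (subSeq M (DRing.torsionSub I M)).X₁ : Type u) :=
    subsingleton_of_torsion (ModuleCat.of R (DRing.torsionSub I M)) ht i
  exact exists_of_δ_eq_zero I (subSeq_shortExact M _) i y (Subsingleton.elim _ _)

lemma quot_torsion_injective (I : Ideal R) (M : Type u) [AddCommGroup M] [Module R M] (i : ℕ) :
    Function.Injective ((localCohomology I (i + 1)).map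
      (subSeq M (DRing.torsionSub I M)).g).hom := by
  have ht : LocCoh.IsPowerTorsion I (DRing.torsionSub I M) := fun x => by
    obtain ⟨n, hn⟩ := x.2
    exact ⟨n, fun a ha => Subtype.ext (hn a ha)⟩
  haveI : Subsingleton ((localCohomology I (i + 1)).obj (subSeq M (DRing.torsionSub I M)).X₁ : Type u) :=
    subsingleton_of_torsion (ModuleCat.of R (DRing.torsionSub I M)) ht i
  refine (injective_iff_map_eq_zero _).mpr fun z hz => ?_
  obtain ⟨w, rfl⟩ := exists_of_map_g_eq_zero I (subSeq_shortExact M _) (i + 1) z hz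
  rw [Subsingleton.elim w 0, map_zero]

lemma torsionSub_quot_eq_bot (I : Ideal R) (M : Type u) [AddCommGroup M] [Module R M] :
    DRing.torsionSub I (M ⧸ DRing.torsionSub I M) = ⊥ := by
  rw [eq_bot_iff]
  intro z hz
  obtain ⟨x, rfl⟩ := Submodule.Quotient.mk_surjective _ z
  obtain ⟨n, hn⟩ := hz
  refine (Submodule.mem_bot R).mpr ((Submodule.Quotient.mk_eq_zero _).mpr ?_)
  exact exists_pow_smul_of_fg_of_forall (IsNoetherian.noetherian I) x n fun b hb =>
    (Submodule.Quotient.mk_eq_zero (DRing.torsionSub I M)).mp (hn b hb)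

/-- An element of `J` which is regular on a module without `I`-torsion. -/
lemma exists_regular_mem (I J : Ideal R) (hIJ : I ≤ J.radical) (M : Type u) [AddCommGroup M] [Module R M]
    [Module.Finite R M] (hM : DRing.torsionSub I M = ⊥) :
    ∃ a ∈ J, ∀ x : M, a • x = 0 → x = 0 := by
  by_contra hcon
  push Not at hcon
  have hsub : (J : Set R) ⊆ ⋃ q ∈ ((associatedPrimes.finite R M).toFinset : Set (Ideal R)), (q : Set R) := by
    intro a ha
    obtain ⟨x, hx, hx0⟩ := hcon a ha
    have : a ∈ ⋃ q ∈ associatedPrimes R M, (q : Set R) := by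
      rw [biUnion_associatedPrimes_eq_zero_divisors]; exact ⟨x, hx0, hx⟩
    simpa [Set.mem_iUnion] using this
  obtain ⟨q, hq, hJq⟩ := (Ideal.subset_union_prime (⊥ : Ideal R) ⊥ fun q hq _ _ =>
    IsAssociatedPrime.isPrime ((Set.Finite.mem_toFinset _).mp hq)).mp hsub
  obtain ⟨hqp, x, hx⟩ := isAssociatedPrime_iff.mp ((Set.Finite.mem_toFinset _).mp hq)
  haveI := hqp
  have hIq : I ≤ q := hIJ.trans ((Ideal.IsPrime.radical_le_iff hqp).mpr hJq)
  have hxt : x ∈ DRing.torsionSub I M := by
    refine ⟨1, fun a ha => ?_⟩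
    rw [pow_one] at ha
    exact Submodule.mem_colon_singleton.mp (hx ▸ hIq ha)
  rw [hM, Submodule.mem_bot] at hxt
  subst hxt
  exact hqp.ne_top ((Ideal.eq_top_iff_one _).mpr (hx ▸ Submodule.mem_colon_singleton.mpr (smul_zero _)))

/-- Faltings: local cohomology in degrees `≤ n` killed by an ideal `J` with `I ≤ √J` is finite. -/
theorem finite_H_of_annihilated (I : Ideal R) : ∀ (n : ℕ) (J : Ideal R), I ≤ J.radical →
    ∀ (M : Type u) [AddCommGroup M] [Module R M] [Module.Finite R M],
    (∀ i : ℕ, i ≤ n → ∀ a ∈ J, ∀ x : LocCoh.H I i M, a • x = 0) →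
    ∀ i : ℕ, i ≤ n → Module.Finite R (LocCoh.H I i M) := by
  intro n
  induction n with
  | zero =>
    intro J _ M _ _ _ _ i hi
    obtain rfl := Nat.le_zero.mp hi
    exact finite_H0 I (ModuleCat.of R M)
  | succ n ih =>
    intro J hIJ M _ _ _ hJ i hi
    rcases Nat.lt_or_eq_of_le hi with hi | rfl
    · exact ih J hIJ M (fun i hi => hJ i (by omega)) i (by omega)
    let T := DRing.torsionSub I M
    let Mb := M ⧸ T
    have hsurj := fun i => quot_torsion_surjective I M i
    have hJb : ∀ i : ℕ, i ≤ n + 1 → ∀ a ∈ J, ∀ x : LocCoh.H I i Mb, a • x = 0 := by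
      intro i hi a ha x
      obtain ⟨y, rfl⟩ := hsurj i x
      rw [← map_smul, hJ i hi a ha y]
      exact map_zero _
    suffices hfin : Module.Finite R (LocCoh.H I (n + 1) Mb) by
      haveI : Module.Finite R ((localCohomology I (n + 1)).obj (subSeq M T).X₃ : Type u) := hfin
      exact Module.Finite.of_injective _ (quot_torsion_injective I M n)
    obtain ⟨a, ha, hreg⟩ := exists_regular_mem I J hIJ Mb (torsionSub_quot_eq_bot I M)
    let f : Mb →ₗ[R] Mb := LinearMap.lsmul R Mb a
    have hf : Function.Injective f := (injective_iff_map_eq_zero f).mpr hreg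
    have hS := injSeq_shortExact f hf
    have hkill : ∀ z : ((localCohomology I (n + 1)).obj (injSeq f).X₁ : Type u),
        ((localCohomology I (n + 1)).map (injSeq f).f).hom z = 0 := fun z => by
      rw [show (injSeq f).f = a • 𝟙 (ModuleCat.of R Mb) from rfl,
        map_smul_id I (n + 1) (ModuleCat.of R Mb) a z]
      exact hJb (n + 1) le_rfl a ha z
    have hQ : Module.Finite R (LocCoh.H I n (Mb ⧸ LinearMap.range f)) := by
      refine ih (J * J) ?_ (Mb ⧸ LinearMap.range f) (fun i hin c hc z => ?_) n le_rfl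
      · rw [Ideal.radical_mul, inf_idem]; exact hIJ
      induction hc using Submodule.mul_induction_on' with
      | mem_mul_mem b hb c hc =>
        obtain ⟨w, hw⟩ := exists_of_δ_eq_zero I hS i (c • z) (by
          rw [map_smul]; exact hJb (i + 1) (by omega) c hc _)
        change (b * c) • (z : ((localCohomology I i).obj (injSeq f).X₃ : Type u)) = 0
        rw [mul_smul, ← hw, ← map_smul]
        exact (congrArg _ (hJb i (by omega) b hb w)).trans (map_zero _)
      | add c _ c' _ h h' => rw [add_smul, h, h', add_zero]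
    haveI : Module.Finite R ((localCohomology I n).obj (injSeq f).X₃ : Type u) := hQ
    exact Module.Finite.of_surjective (δ I hS n) fun z => exists_of_map_f_eq_zero I hS n z (hkill z)

theorem exists_annihilator_of_finite (I : Ideal R) (M : Type u) [AddCommGroup M] [Module R M] (n : ℕ)
    (h : ∀ i : ℕ, i ≤ n → Module.Finite R (LocCoh.H I i M)) :
    ∃ J : Ideal R, I ≤ J.radical ∧ ∀ i : ℕ, i ≤ n → ∀ a ∈ J, ∀ x : LocCoh.H I i M, a • x = 0 := by
  induction n with
  | zero =>
    haveI := h 0 le_rfl
    obtain ⟨N, hN⟩ := exists_pow_smul_eq_zero_of_fg (I := I) (P := (⊤ : Submodule R (LocCoh.H I 0 M)))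
      Module.Finite.fg_top fun x _ => isPowerTorsion x
    refine ⟨I ^ N, fun x hx => ⟨N, Ideal.pow_mem_pow hx N⟩, fun i hi a ha x => ?_⟩
    obtain rfl := Nat.le_zero.mp hi
    exact hN a ha x trivial
  | succ n ih =>
    obtain ⟨J, hJ, hkill⟩ := ih fun i hi => h i (by omega)
    haveI := h (n + 1) le_rfl
    obtain ⟨N, hN⟩ := exists_pow_smul_eq_zero_of_fg (I := I) (P := (⊤ : Submodule R (LocCoh.H I (n + 1) M)))
      Module.Finite.fg_top fun x _ => isPowerTorsion x
    refine ⟨J ⊓ I ^ N, ?_, fun i hi a ha x => ?_⟩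
    · rw [Ideal.radical_inf]
      exact le_inf hJ fun x hx => ⟨N, Ideal.pow_mem_pow hx N⟩
    · rcases Nat.lt_or_eq_of_le hi with hi | rfl
      · exact hkill i (by omega) a ha.1 x
      · exact hN a ha.2 x trivial

end Groth.Agent.LocCohLib
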