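import Mathlib
import Groth.Agent.LocCohLib.Torsion
import Groth.Agent.Depth.Basic

/-! Depth and the first nonvanishing local cohomology. -/

open CategoryTheory Limits RingTheory.Sequence
open scoped Pointwise

namespace Groth.Agent.LocCohLib

universe u

variable {R : Type u} [CommRing R]

lemma smul_eq_zero_of_annihilates {N M : ModuleCat.{u} R} {r : R} (hr : ∀ x : N, r • x = 0) {i : ℕ}
    (e : Abelian.Ext.{u} N M i) : r • e = 0 := by
  have hid : r • 𝟙 N = 0 := by
    apply ModuleCat.hom_ext
    exact LinearMap.ext hr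
  calc r • e = r • (Abelian.Ext.mk₀ (𝟙 N)).comp e (zero_add i) := by simp
    _ = (Abelian.Ext.mk₀ (r • 𝟙 N)).comp e (zero_add i) := by
      rw [Abelian.Ext.mk₀_smul, Abelian.Ext.smul_comp]
    _ = 0 := by rw [hid]; simp

/-- Vanishing of `Ext` below the length of a regular sequence. -/
theorem subsingleton_ext_of_isWeaklyRegular (I : Ideal R) (M N : ModuleCat.{u} R) (rs : List R)
    (hreg : IsWeaklyRegular M rs) (hI : ∀ r ∈ rs, r ∈ I) (k : ℕ)
    (hN : ∀ a ∈ I ^ k, ∀ x : N, a • x = 0) (i : ℕ) (hi : i < rs.length) :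
    Subsingleton (Abelian.Ext.{u} N M i) := by
  induction rs generalizing M i with
  | nil => simp at hi
  | cons a rs ih =>
    rw [isWeaklyRegular_cons_iff] at hreg
    have hak : ∀ x : N, a ^ k • x = 0 := hN _ (Ideal.pow_mem_pow (hI a (by simp)) k)
    refine subsingleton_of_forall_eq 0 fun x => ?_
    have hkill : a ^ k • x = 0 := smul_eq_zero_of_annihilates hak x
    suffices hinj : ∀ y : Abelian.Ext.{u} N M i, a • y = 0 → y = 0 by
      have : ∀ (j : ℕ) (y : Abelian.Ext.{u} N M i), a ^ j • y = 0 → y = 0 := by
        intro j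
        induction j with
        | zero => intro y hy; simpa using hy
        | succ j ihj =>
          intro y hy
          rw [pow_succ', mul_smul] at hy
          exact ihj y (hinj _ hy)
      exact this k x hkill
    intro y hy
    cases i with
    | zero =>
      obtain ⟨f, rfl⟩ := Abelian.Ext.addEquiv₀.symm.surjective y
      rw [Abelian.Ext.addEquiv₀_symm_apply, ← Abelian.Ext.mk₀_smul] at hy
      have h0 : a • f = 0 := Abelian.Ext.addEquiv₀.symm.injective (hy.trans (map_zero _).symm)
      have : f = 0 := by
        apply ModuleCat.hom_ext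
        refine LinearMap.ext fun z => hreg.1 ?_
        exact (congr($(h0).hom z)).trans (smul_zero a).symm
      rw [this, map_zero]
    | succ i =>
      have hS := IsSMulRegular.smulShortComplex_shortExact (M := M) hreg.1
      have hy' : y.comp (Abelian.Ext.mk₀ (M.smulShortComplex a).f) (add_zero (i + 1)) = 0 := by
        rw [ModuleCat.smulShortComplex_f_eq_smul_id]
        exact (Abelian.Ext.smul_eq_comp_mk₀ y a).symm.trans hy
      obtain ⟨z, rfl⟩ := Abelian.Ext.covariant_sequence_exact₁ _ hS y hy' rfl
      haveI : Subsingleton (Abelian.Ext.{u} N (M.smulShortComplex a).X₃ i) :=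
        ih (ModuleCat.of R (QuotSMulTop a M)) hreg.2 (fun r hr => hI r (by simp [hr])) i
          (by simpa using hi)
      rw [Subsingleton.elim z 0, Abelian.Ext.zero_comp]
      rfl

/-- Vanishing of local cohomology below the length of a regular sequence. -/
theorem subsingleton_of_isWeaklyRegular (I : Ideal R) (M : ModuleCat.{u} R) (rs : List R)
    (hreg : IsWeaklyRegular M rs) (hI : ∀ r ∈ rs, r ∈ I) (i : ℕ) (hi : i < rs.length) :
    Subsingleton ((localCohomology I i).obj M : Type u) := by
  refine subsingleton_of_forall_ext fun n x => ⟨n, le_rfl, ?_⟩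
  have hN : ∀ a ∈ I ^ n, ∀ y : quot I n, a • y = 0 := fun a ha y => by
    obtain ⟨y, rfl⟩ := Submodule.Quotient.mk_surjective _ y
    rw [← Submodule.Quotient.mk_smul, Submodule.Quotient.mk_eq_zero]
    exact Ideal.mul_mem_right _ _ ha
  haveI := subsingleton_ext_of_isWeaklyRegular I M (quot I n) rs hreg hI n hN i hi
  rw [Subsingleton.elim x 0]
  simp

variable [IsNoetherianRing R] (I : Ideal R)

/-- Nonvanishing in the degree given by the length of a maximal regular sequence. -/
theorem nontrivial_of_isMaxSeq (M : Type u) [AddCommGroup M] [Module R M] {rs : List R}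
    (h : Depth.IsMaxSeq I M rs) :
    Nontrivial ((localCohomology I rs.length).obj (ModuleCat.of R M) : Type u) ∧
      Nontrivial (Abelian.Ext.{u} (ModuleCat.of R (R ⧸ I)) (ModuleCat.of R M) rs.length) := by
  induction rs generalizing M with
  | nil =>
    obtain ⟨-, -, x, hx, hx'⟩ := h
    simp only [Ideal.ofList_nil, Submodule.bot_smul, Submodule.mem_bot] at hx hx'
    constructor
    · refine ⟨⟨(h0Equiv I (ModuleCat.of R M)).symm ⟨x, 1, fun a ha => hx' a (by rwa [pow_one] at ha)⟩,
        0, fun h => hx ?_⟩⟩
      have h2 := congrArg (h0Equiv I (ModuleCat.of R M)) h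
      rw [LinearEquiv.apply_symm_apply, map_zero] at h2
      exact congrArg Subtype.val h2
    · let f : ModuleCat.of R (R ⧸ I) ⟶ ModuleCat.of R M := ModuleCat.ofHom
        (Submodule.liftQ I (LinearMap.toSpanSingleton R M x) fun a ha =>
          LinearMap.mem_ker.mpr (hx' a ha))
      refine ⟨⟨Abelian.Ext.mk₀ f, 0, fun h => hx ?_⟩⟩
      have h2 : f = 0 := Abelian.Ext.addEquiv₀.symm.injective (h.trans (map_zero _).symm)
      exact (one_smul R x).symm.trans congr($(h2).hom (Submodule.Quotient.mk 1))
  | cons r rs ih =>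
    obtain ⟨hw, hm, x, hx, hx'⟩ := h
    simp only [List.mem_cons, forall_eq_or_imp] at hm
    obtain ⟨hr, hw'⟩ := (isWeaklyRegular_cons_iff M r rs).1 hw
    let e := Submodule.quotOfListConsSMulTopEquivQuotSMulTopInner M r rs
    obtain ⟨y, hy⟩ := Submodule.Quotient.mk_surjective _ (e (Submodule.Quotient.mk x))
    have hmax : Depth.IsMaxSeq I (QuotSMulTop r M) rs := by
      refine ⟨hw', hm.2, y, fun hy' => hx ?_, fun a ha => ?_⟩
      · rw [← Submodule.Quotient.mk_eq_zero, hy] at hy'
        exact (Submodule.Quotient.mk_eq_zero _).1 (e.map_eq_zero_iff.1 hy')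
      · rw [← Submodule.Quotient.mk_eq_zero, Submodule.Quotient.mk_smul, hy, ← map_smul,
          ← Submodule.Quotient.mk_smul, (Submodule.Quotient.mk_eq_zero _).2 (hx' a ha), map_zero]
    obtain ⟨h₁, h₂⟩ := ih (QuotSMulTop r M) hmax
    have hS := IsSMulRegular.smulShortComplex_shortExact (M := ModuleCat.of R M) hr
    have hall : ∀ r' ∈ r :: rs, r' ∈ I := fun r' hr' => (List.mem_cons.mp hr').elim (· ▸ hm.1) (hm.2 r')
    constructor
    · haveI : Subsingleton ((localCohomology I rs.length).obj
          ((ModuleCat.of R M).smulShortComplex r).X₂ : Type u) :=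
        subsingleton_of_isWeaklyRegular I (ModuleCat.of R M) (r :: rs) hw hall rs.length (by simp)
      refine @Function.Injective.nontrivial _ _ h₁ (δ I hS rs.length)
        ((injective_iff_map_eq_zero (δ I hS rs.length)).mpr fun z hz => ?_)
      obtain ⟨w, rfl⟩ := exists_of_δ_eq_zero I hS rs.length z hz
      rw [Subsingleton.elim w 0, map_zero]
    · haveI : Subsingleton (Abelian.Ext.{u} (ModuleCat.of R (R ⧸ I))
          ((ModuleCat.of R M).smulShortComplex r).X₂ rs.length) :=
        subsingleton_ext_of_isWeaklyRegular I (ModuleCat.of R M) _ (r :: rs) hw hall 1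
          (fun a ha z => by
            obtain ⟨z, rfl⟩ := Submodule.Quotient.mk_surjective _ z
            rw [← Submodule.Quotient.mk_smul, Submodule.Quotient.mk_eq_zero]
            exact Ideal.mul_mem_right _ _ (by rwa [pow_one] at ha)) rs.length (by simp)
      refine @Function.Injective.nontrivial _ _ h₂
        (hS.extClass.postcomp _ (rfl : rs.length + 1 = rs.length + 1))
        ((injective_iff_map_eq_zero (hS.extClass.postcomp _
          (rfl : rs.length + 1 = rs.length + 1))).mpr fun z hz => ?_)
      obtain ⟨w, rfl⟩ := Abelian.Ext.covariant_sequence_exact₃ _ hS z rfl hz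
      rw [Subsingleton.elim w 0, Abelian.Ext.zero_comp]

end Groth.Agent.LocCohLib
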