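import Mathlib
import Groth.Agent.LocCohLib.Depth

/-! Ischebeck's vanishing of `Ext`. -/

open CategoryTheory RingTheory.Sequence IsLocalRing

namespace Groth.Agent.LocCohLib

universe u

variable {R : Type u} [CommRing R] [IsNoetherianRing R] [IsLocalRing R]

lemma exists_weaklyRegular_of_depth {M : Type u} [AddCommGroup M] [Module R M] [Module.Finite R M]
    [Nontrivial M] {d : ℕ} (hd : LocCoh.depth R M = d) :
    ∃ rs : List R, IsWeaklyRegular M rs ∧ (∀ r ∈ rs, r ∈ maximalIdeal R) ∧ rs.length = d := by
  have hI : maximalIdeal R • (⊤ : Submodule R M) ≠ ⊤ := fun h =>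
    top_ne_bot (Submodule.eq_bot_of_le_smul_of_le_jacobson_bot (maximalIdeal R) ⊤ Module.Finite.fg_top h.ge
      (by rw [IsLocalRing.jacobson_eq_maximalIdeal ⊥ bot_ne_top]))
  obtain ⟨rs, hrs⟩ := Depth.exists_isMaxSeq (M := M) hI
  refine ⟨rs, hrs.1, hrs.2.1, ?_⟩
  rw [LocCoh.depth, Depth.idealDepth_eq_length hI hrs] at hd
  exact_mod_cast hd

/-- Ischebeck: `Ext^i(N, M) = 0` for `i + dim N < depth M`. -/
theorem subsingleton_ext_of_supportDim (M : Type u) [AddCommGroup M] [Module R M] [Module.Finite R M]
    [Nontrivial M] (d : ℕ) (hd : LocCoh.depth R M = d) :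
    ∀ (r : ℕ) (N : Type u) [AddCommGroup N] [Module R N] [Module.Finite R N],
      Module.supportDim R N ≤ r → ∀ i : ℕ, i + r < d →
        Subsingleton (Abelian.Ext.{u} (ModuleCat.of R N) (ModuleCat.of R M) i) := by
  intro r
  induction r using Nat.strong_induction_on with
  | _ r ih =>
    intro N _ _ _ hN
    refine IsNoetherianRing.induction_on_isQuotientEquivQuotientPrime R (M := N) inferInstance
      (motive := fun N _ _ _ => Module.supportDim R N ≤ r → ∀ i : ℕ, i + r < d →
        Subsingleton (Abelian.Ext.{u} (ModuleCat.of R N) (ModuleCat.of R M) i)) ?_ ?_ ?_ hN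
    · intro N _ _ _ _ _ i _
      exact subsingleton_of_forall_eq 0 fun e => by
        rw [← Abelian.Ext.mk₀_id_comp e,
          show 𝟙 (ModuleCat.of R N) = 0 from (ModuleCat.isZero_of_subsingleton _).eq_of_src _ _]
        simp
    · intro N _ _ _ p e hN i hi
      haveI := p.isPrime
      suffices h : Subsingleton (Abelian.Ext.{u} (ModuleCat.of R (R ⧸ p.asIdeal)) (ModuleCat.of R M) i) by
        refine subsingleton_of_forall_eq 0 fun x => ?_
        have h1 := h.elim ((Abelian.Ext.mk₀ e.toModuleIso.inv).comp x (zero_add i)) 0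
        have h2 := congrArg (fun y => (Abelian.Ext.mk₀ e.toModuleIso.hom).comp y (zero_add i)) h1
        simp only [Abelian.Ext.mk₀_comp_mk₀_assoc, Iso.hom_inv_id, Abelian.Ext.mk₀_id_comp,
          Abelian.Ext.comp_zero] at h2
        exact h2
      rw [Module.supportDim_eq_of_equiv e] at hN
      by_cases hmax : p.asIdeal = maximalIdeal R
      · obtain ⟨rs, hw, hmem, hlen⟩ := exists_weaklyRegular_of_depth hd
        refine subsingleton_ext_of_isWeaklyRegular (maximalIdeal R) (ModuleCat.of R M) _ rs hw hmem 1
          (fun a ha x => ?_) i (by omega)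
        obtain ⟨y, rfl⟩ := Submodule.Quotient.mk_surjective _ x
        rw [pow_one, ← hmax] at ha
        exact (Submodule.Quotient.mk_eq_zero _).mpr (p.asIdeal.mul_mem_right y ha)
      · obtain ⟨x, hx, hxp⟩ := SetLike.exists_of_lt
          (lt_of_le_of_ne (le_maximalIdeal p.isPrime.ne_top) hmax)
        have hreg : IsSMulRegular (R ⧸ p.asIdeal) x := by
          rw [isSMulRegular_iff_right_eq_zero_of_smul]
          intro y hy
          obtain ⟨y, rfl⟩ := Ideal.Quotient.mk_surjective y
          exact Ideal.Quotient.eq_zero_iff_mem.mpr ((p.isPrime.mem_or_mem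
            (Ideal.Quotient.eq_zero_iff_mem.mp hy : x * y ∈ p.asIdeal)).resolve_left hxp)
        have hdim := Module.supportDim_quotSMulTop_succ_eq_supportDim (M := R ⧸ p.asIdeal) hreg hx
        obtain ⟨r', rfl⟩ : ∃ r', r = r' + 1 := by
          refine Nat.exists_eq_succ_of_ne_zero fun h0 => ?_
          subst h0
          have hpos : (1 : WithBot ℕ∞) ≤ Module.supportDim R (R ⧸ p.asIdeal) := by
            haveI : Nontrivial (QuotSMulTop x (R ⧸ p.asIdeal)) := by
              rw [← not_subsingleton_iff_nontrivial, ← Module.supportDim_eq_bot_iff_subsingleton (R := R)]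
              intro hb
              rw [hb, WithBot.bot_add] at hdim
              exact Module.supportDim_ne_bot_of_nontrivial (R := R) (M := R ⧸ p.asIdeal) hdim.symm
            obtain ⟨e', he'⟩ := WithBot.ne_bot_iff_exists.mp
              (Module.supportDim_ne_bot_of_nontrivial (R := R) (M := QuotSMulTop x (R ⧸ p.asIdeal)))
            rw [← hdim, ← he']
            exact_mod_cast le_add_self
          exact absurd (hpos.trans hN) (by norm_num)
        have hQ : Module.supportDim R (QuotSMulTop x (R ⧸ p.asIdeal)) ≤ r' := by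
          rw [← hdim] at hN
          push_cast at hN
          revert hN
          cases Module.supportDim R (QuotSMulTop x (R ⧸ p.asIdeal)) with
          | bot => exact fun _ => bot_le
          | coe e' =>
            intro hN
            cases e' with
            | top =>
              have h' : (⊤ : ℕ∞) + 1 ≤ ((r' + 1 : ℕ) : ℕ∞) := by exact_mod_cast hN
              rw [top_add] at h'
              exact absurd (top_le_iff.mp h') (ENat.coe_ne_top _)
            | coe n => exact_mod_cast (by exact_mod_cast hN : n + 1 ≤ r' + 1) |> Nat.le_of_add_le_add_right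
        have hS := IsSMulRegular.smulShortComplex_shortExact (M := ModuleCat.of R (R ⧸ p.asIdeal)) hreg
        haveI : Subsingleton (Abelian.Ext.{u}
            ((ModuleCat.of R (R ⧸ p.asIdeal)).smulShortComplex x).X₃ (ModuleCat.of R M) (i + 1)) :=
          ih r' (by omega) (QuotSMulTop x (R ⧸ p.asIdeal)) hQ (i + 1) (by omega)
        have hsurj : ∀ y : Abelian.Ext.{u} (ModuleCat.of R (R ⧸ p.asIdeal)) (ModuleCat.of R M) i,
            ∃ z, x • z = y := by
          intro y
          obtain ⟨z, hz⟩ := Abelian.Ext.contravariant_sequence_exact₁ hS (ModuleCat.of R M) y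
            (Nat.add_comm 1 i) (Subsingleton.elim _ _)
          refine ⟨z, ?_⟩
          rw [← hz, ModuleCat.smulShortComplex_f_eq_smul_id]
          erw [Abelian.Ext.mk₀_smul, Abelian.Ext.smul_comp, Abelian.Ext.mk₀_id_comp]
          rfl
        have htop : (⊤ : Submodule R (Abelian.Ext.{u} (ModuleCat.of R (R ⧸ p.asIdeal)) (ModuleCat.of R M) i)) = ⊥ :=
          Submodule.eq_bot_of_le_smul_of_le_jacobson_bot (maximalIdeal R) ⊤ Module.Finite.fg_top
            (fun y _ => by
              obtain ⟨z, rfl⟩ := hsurj y
              exact Submodule.smul_mem_smul hx trivial)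
            (by rw [IsLocalRing.jacobson_eq_maximalIdeal ⊥ bot_ne_top])
        exact subsingleton_of_forall_eq 0 fun y => (Submodule.mem_bot R).mp (htop ▸ trivial)
    · intro N₁ _ _ _ N₂ _ _ _ N₃ _ _ _ f g hf hg hfg h₁ h₃ hN i hi
      let S : ShortComplex (ModuleCat.{u} R) := ShortComplex.mk (ModuleCat.ofHom f) (ModuleCat.ofHom g)
        (ModuleCat.hom_ext (LinearMap.ext fun x => hfg.apply_apply_eq_zero x))
      have hS : S.ShortExact :=
        { exact := (ShortComplex.moduleCat_exact_iff _).mpr fun x hx => (hfg x).mp hx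
          mono_f := (ModuleCat.mono_iff_injective _).mpr hf
          epi_g := (ModuleCat.epi_iff_surjective _).mpr hg }
      haveI : Subsingleton (Abelian.Ext.{u} S.X₁ (ModuleCat.of R M) i) :=
        h₁ ((Module.supportDim_le_of_injective f hf).trans hN) i hi
      haveI : Subsingleton (Abelian.Ext.{u} S.X₃ (ModuleCat.of R M) i) :=
        h₃ ((Module.supportDim_le_of_surjective g hg).trans hN) i hi
      refine subsingleton_of_forall_eq 0 fun x => ?_
      obtain ⟨z, hz⟩ := Abelian.Ext.contravariant_sequence_exact₂ hS (ModuleCat.of R M) x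
        (Subsingleton.elim _ _)
      rw [← hz, Subsingleton.elim z 0]
      simp

end Groth.Agent.LocCohLib
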