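import Mathlib
import Groth.Prelude.Def_CAlg
import Groth.Agent.LocCohLib.Ischebeck
import Groth.Agent.Depth.Basic

/-! Systems of parameters of Cohen–Macaulay local rings are regular sequences. -/

open CategoryTheory RingTheory.Sequence IsLocalRing

namespace Groth.Agent.LocCohLib

universe u

theorem isWeaklyRegular_of_sop {R : Type u} [CommRing R] [LocCoh.IsCohenMacaulayLocalRing R] {n : ℕ}
    (hdim : ringKrullDim R = n) {b : Fin n → R}
    (hb : (Ideal.span (Set.range b)).radical = maximalIdeal R) : IsWeaklyRegular R (List.ofFn b) := by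
  classical
  have hI : maximalIdeal R • (⊤ : Submodule R R) ≠ ⊤ := by
    rw [smul_eq_mul, Ideal.mul_top]; exact Ideal.IsPrime.ne_top'
  have hdepth : LocCoh.depth R R = n := by
    have h := LocCoh.IsCohenMacaulayLocalRing.supportDim_eq_depth (R := R)
    rw [Module.supportDim_self_eq_ringKrullDim, hdim] at h
    exact (WithBot.coe_inj.mp h).symm
  have hbm : ∀ j, b j ∈ maximalIdeal R := fun j => hb ▸ Ideal.le_radical (Ideal.subset_span ⟨j, rfl⟩)
  suffices key : ∀ i ≤ n, IsWeaklyRegular R ((List.ofFn b).take i) by
    have := key n le_rfl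
    rwa [List.take_of_length_le (by simp)] at this
  intro i
  induction i with
  | zero => intro _; rw [List.take_zero]; exact IsWeaklyRegular.nil R R
  | succ i ih =>
    intro hi
    have hreg := ih (by omega)
    have hlen : ((List.ofFn b).take i).length = i := by simp; omega
    have hmem : ∀ r ∈ (List.ofFn b).take i, r ∈ maximalIdeal R := fun r hr => by
      obtain ⟨j, rfl⟩ := List.mem_ofFn.mp (List.mem_of_mem_take hr)
      exact hbm j
    rw [List.take_add_one, List.getElem?_eq_getElem (by simp; omega), Option.toList_some,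
      isWeaklyRegular_append_iff]
    refine ⟨hreg, (isWeaklyRegular_singleton_iff _ _).2 ?_⟩
    set L := (List.ofFn b).take i with hL
    set M := R ⧸ (Ideal.ofList L • ⊤ : Submodule R R) with hM
    rw [List.getElem_ofFn]
    -- the depth of the quotient
    have hIM := Groth.Agent.Depth.smul_top_quot_ne_top (M := R) (J := Ideal.ofList L) (Ideal.span_le.2 hmem) hI
    haveI : Nontrivial M := by
      by_contra h
      rw [not_nontrivial_iff_subsingleton] at h
      exact hIM (Subsingleton.elim _ _)
    obtain ⟨s, hsw, hsm, x, hx, hx'⟩ := Groth.Agent.Depth.exists_isMaxSeq (M := M) hIM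
    have hsum : Groth.Agent.Depth.IsMaxSeq (maximalIdeal R) R (L ++ s) := by
      obtain ⟨y, rfl⟩ := Submodule.Quotient.mk_surjective _ x
      refine ⟨(isWeaklyRegular_append_iff R L s).2 ⟨hreg, hsw⟩,
        fun r hr => (List.mem_append.1 hr).elim (hmem r) (hsm r), y, ?_, ?_⟩
      · intro hy
        apply hx
        rw [Ideal.ofList_append, Submodule.sup_smul, Submodule.mem_sup] at hy
        obtain ⟨u, hu, w, hw, huw⟩ := hy
        rw [← huw, Submodule.Quotient.mk_add, (Submodule.Quotient.mk_eq_zero _).2 hu, zero_add]
        have := Submodule.mem_map_of_mem (f := (Ideal.ofList L • ⊤ : Submodule R R).mkQ) hw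
        rwa [Submodule.map_smul'', Submodule.map_top, Submodule.range_mkQ] at this
      · intro r hr
        have h1 := hx' r hr
        rw [← Submodule.range_mkQ (Ideal.ofList L • ⊤ : Submodule R R), ← Submodule.map_top,
          ← Submodule.map_smul'', ← Submodule.Quotient.mk_smul, ← Submodule.mkQ_apply, Submodule.mem_map] at h1
        obtain ⟨w, hw, hwe⟩ := h1
        rw [Submodule.mkQ_apply, Submodule.mkQ_apply, Submodule.Quotient.eq] at hwe
        rw [Ideal.ofList_append, Submodule.sup_smul]
        have := Submodule.sub_mem _ (Submodule.mem_sup_right hw : w ∈ (Ideal.ofList L • ⊤ : Submodule R R) ⊔ _)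
          (Submodule.mem_sup_left hwe)
        rwa [sub_sub_cancel] at this
    have hlens : L.length + s.length = n := by
      have h := Groth.Agent.Depth.idealDepth_eq_length hI hsum
      rw [← LocCoh.depth, hdepth] at h
      rw [← List.length_append]
      exact (by exact_mod_cast h : n = (L ++ s).length).symm
    have hdM : LocCoh.depth R M = ((n - i : ℕ) : ℕ∞) := by
      rw [LocCoh.depth, Groth.Agent.Depth.idealDepth_eq_length hIM ⟨hsw, hsm, x, hx, hx'⟩]
      congr 1; omega
    -- no associated prime contains the next parameter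
    by_contra hno
    rw [isSMulRegular_iff_right_eq_zero_of_smul] at hno
    push Not at hno
    obtain ⟨m₀, hm₀, hm₀'⟩ := hno
    obtain ⟨P, hP, hbP⟩ : ∃ P ∈ associatedPrimes R M, b ⟨i, by omega⟩ ∈ P := by
      have : b ⟨i, by omega⟩ ∈ ⋃ p ∈ associatedPrimes R M, (p : Set R) := by
        rw [biUnion_associatedPrimes_eq_zero_divisors]; exact ⟨m₀, hm₀', hm₀⟩
      simpa using this
    obtain ⟨hPp, f, hf⟩ := (isAssociatedPrime_iff_exists_injective_linearMap _ _).1 hP
    haveI := hPp
    haveI : Nontrivial (R ⧸ P) := Ideal.Quotient.nontrivial_iff.mpr hPp.ne_top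
    have hJP : ∀ j : Fin n, (j : ℕ) ≤ i → b j ∈ P := fun j hj => by
      rcases eq_or_lt_of_le hj with h | h
      · exact (Fin.ext h : j = ⟨i, by omega⟩) ▸ hbP
      · have hbj : b j ∈ Ideal.ofList L := Ideal.subset_span (by
          show b j ∈ L
          exact List.mem_take_iff_getElem.mpr ⟨j, by simp; omega, by simp⟩)
        have hz : b j • f 1 = 0 := by
          obtain ⟨y, hy⟩ := Submodule.Quotient.mk_surjective _ (f 1)
          rw [← hy, ← Submodule.Quotient.mk_smul, Submodule.Quotient.mk_eq_zero]
          exact Submodule.smul_mem_smul hbj trivial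
        rw [← map_smul, map_eq_zero_iff f hf, Algebra.smul_def, mul_one, Ideal.Quotient.algebraMap_eq,
          Ideal.Quotient.eq_zero_iff_mem] at hz
        exact hz
    have hdimP : Module.supportDim R (R ⧸ P) ≤ ((n - i - 1 : ℕ) : ℕ) := by
      rw [Module.supportDim_quotient_eq_ringKrullDim]
      let S := R ⧸ P
      haveI : IsLocalRing S := IsLocalRing.of_surjective' (Ideal.Quotient.mk P) Ideal.Quotient.mk_surjective
      let T : Finset S := (Finset.univ.filter fun j : Fin n => i < (j : ℕ)).image fun j => Ideal.Quotient.mk P (b j)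
      have hmax : maximalIdeal S ∈ (Ideal.span (T : Set S)).minimalPrimes := by
        refine ⟨⟨Ideal.IsMaximal.isPrime inferInstance, ?_⟩, fun Q hQ _ => ?_⟩
        · rw [Ideal.span_le]
          intro z hz
          obtain ⟨j, -, rfl⟩ := Finset.mem_image.mp hz
          by_contra hu
          rw [SetLike.mem_coe, IsLocalRing.mem_maximalIdeal, mem_nonunits_iff, not_not] at hu
          obtain ⟨c, hc⟩ := hu.exists_right_inv
          obtain ⟨c, rfl⟩ := Ideal.Quotient.mk_surjective c
          rw [← map_mul, ← map_one (Ideal.Quotient.mk P), Ideal.Quotient.eq] at hc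
          exact (maximalIdeal.isMaximal R).ne_top ((Ideal.eq_top_iff_one _).mpr (by
            have := sub_mem ((maximalIdeal R).mul_mem_right c (hbm j)) (le_maximalIdeal hPp.ne_top hc)
            rwa [sub_sub_cancel] at this))
        · intro z hz
          obtain ⟨z, rfl⟩ := Ideal.Quotient.mk_surjective z
          have hzR : z ∈ maximalIdeal R := by
            rw [IsLocalRing.mem_maximalIdeal] at hz ⊢
            exact fun hu => hz (hu.map _)
          rw [← hb] at hzR
          obtain ⟨l, hl⟩ := hzR
          refine hQ.1.mem_of_pow_mem l ?_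
          rw [← map_pow]
          have hle : (Ideal.span (Set.range b)).map (Ideal.Quotient.mk P) ≤ Q := by
            rw [Ideal.map_span, Ideal.span_le]
            rintro _ ⟨_, ⟨j, rfl⟩, rfl⟩
            rcases le_or_gt (j : ℕ) i with h | h
            · rw [Ideal.Quotient.eq_zero_iff_mem.mpr (hJP j h)]; exact zero_mem Q
            · exact hQ.2 (Ideal.subset_span (Finset.mem_image.mpr ⟨j, by simp [h], rfl⟩))
          exact hle (Ideal.mem_map_of_mem _ hl)
      have h1 := Ideal.height_le_card_of_mem_minimalPrimes_span_finset hmax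
      have h2 : T.card ≤ n - i - 1 := by
        refine Finset.card_image_le.trans ?_
        have : (Finset.univ.filter fun j : Fin n => i < (j : ℕ)).card ≤ (Finset.Ioo i n).card :=
          Finset.card_le_card_of_injOn (fun j => (j : ℕ)) (fun j hj => by simp at hj ⊢; omega)
            (fun a _ c _ h => Fin.ext h)
        simpa [Nat.card_Ioo] using this
      rw [← IsLocalRing.maximalIdeal_height_eq_ringKrullDim]
      exact WithBot.coe_le_coe.mpr (h1.trans (by exact_mod_cast h2))
    haveI := subsingleton_ext_of_supportDim M (n - i) hdM (n - i - 1) (R ⧸ P) hdimP 0 (by omega)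
    have hzero : ModuleCat.ofHom f = 0 := (Abelian.Ext.mk₀_bijective _ _).1 (Subsingleton.elim _ _)
    have h1 : f 1 = 0 := by rw [show f = 0 from congrArg ModuleCat.Hom.hom hzero]; rfl
    exact one_ne_zero (hf (h1.trans (map_zero f).symm))

end Groth.Agent.LocCohLib
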