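import Mathlib
import Groth.Agent.LocCohLib.FiniteH1
import Groth.Agent.LocCohLib.Depth

/-! Annihilation of local cohomology below the grade near a point of finite projective dimension. -/

open CategoryTheory Limits

namespace Groth.Agent.LocCohLib

universe u

variable {R : Type u} [CommRing R] [IsNoetherianRing R]

lemma subsingleton_H_pi (I : Ideal R) (i : ℕ) (M : Type u) [AddCommGroup M] [Module R M]
    (h : Subsingleton (LocCoh.H I i M)) : ∀ n : ℕ, Subsingleton (LocCoh.H I i (Fin n → M)) := by
  intro n
  induction n with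
  | zero =>
    exact ModuleCat.subsingleton_of_isZero
      ((localCohomology I i).map_isZero (ModuleCat.isZero_of_subsingleton _))
  | succ n ih =>
    let p : (Fin (n + 1) → M) →ₗ[R] (Fin n → M) := LinearMap.funLeft R M Fin.succ
    let j : M →ₗ[R] (Fin (n + 1) → M) := LinearMap.single R (fun _ => M) 0
    let S : ShortComplex (ModuleCat.{u} R) := ShortComplex.mk (ModuleCat.ofHom j) (ModuleCat.ofHom p)
      (by ext x k; exact Pi.single_eq_of_ne (M := fun _ => M) (Fin.succ_ne_zero k) x)
    have hS : S.ShortExact :=
      { exact := (ShortComplex.moduleCat_exact_iff _).mpr fun x hx => ⟨x 0, funext fun k => by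
          refine Fin.cases ?_ (fun k => ?_) k
          · exact Pi.single_eq_same (M := fun _ => M) 0 (x 0)
          · exact (Pi.single_eq_of_ne (M := fun _ => M) (Fin.succ_ne_zero k) (x 0)).trans
              (congrFun hx k).symm⟩
        mono_f := (ModuleCat.mono_iff_injective _).mpr (Pi.single_injective (M := fun _ => M) 0)
        epi_g := (ModuleCat.epi_iff_surjective _).mpr fun y => ⟨Fin.cons 0 y, funext fun k => rfl⟩ }
    exact subsingleton_mid I hS i h ih

lemma subsingleton_H_of_lt_idealDepth (b : Ideal R) (hb : b ≠ ⊤) (i : ℕ)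
    (hi : (i : ℕ∞) < LocCoh.idealDepth b R) : Subsingleton (LocCoh.H b i R) := by
  rw [LocCoh.idealDepth, if_neg (by simpa [smul_eq_mul] using hb)] at hi
  obtain ⟨rs, hrs⟩ := lt_iSup_iff.mp hi
  obtain ⟨h, hlen⟩ := lt_iSup_iff.mp hrs
  exact subsingleton_of_isWeaklyRegular b (ModuleCat.of R R) rs h.1 h.2 i (by exact_mod_cast hlen)

/-- Near a prime where a finite module is projective it is a retract of a free module, up to a scalar. -/
theorem exists_factor_through_free (M : Type u) [AddCommGroup M] [Module R M] [Module.Finite R M]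
    (p : Ideal R) [p.IsPrime]
    (hp : Module.Projective (Localization.AtPrime p) (LocalizedModule p.primeCompl M)) :
    ∃ (s : R) (n : ℕ) (f : (Fin n → R) →ₗ[R] M) (h : M →ₗ[R] (Fin n → R)),
      s ∉ p ∧ ∀ x, f (h x) = s • x := by
  obtain ⟨n, f, hf⟩ := Module.Finite.exists_fin' R M
  let mkF := LocalizedModule.mkLinearMap p.primeCompl (Fin n → R)
  let mkM := LocalizedModule.mkLinearMap p.primeCompl M
  obtain ⟨σ, hσ⟩ := Module.projective_lifting_property (LocalizedModule.map p.primeCompl f) LinearMap.id
    (LocalizedModule.map_surjective p.primeCompl f hf)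
  haveI : Module.FinitePresentation R M := Module.finitePresentation_of_finite R M
  obtain ⟨h, s, hh⟩ := Module.FinitePresentation.exists_lift_of_isLocalizedModule p.primeCompl mkF
    (σ.restrictScalars R ∘ₗ mkM)
  have hcomp : mkM ∘ₗ (f ∘ₗ h) = mkM ∘ₗ ((s : R) • LinearMap.id) := by
    ext x
    have hx : mkF (h x) = (s : R) • σ (mkM x) := LinearMap.congr_fun hh x
    change mkM (f (h x)) = mkM ((s : R) • x)
    rw [map_smul]
    have := congrArg (LocalizedModule.map p.primeCompl f) hx
    rw [LinearMap.map_smul_of_tower, show (LocalizedModule.map p.primeCompl f) (σ (mkM x)) = mkM x from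
      LinearMap.congr_fun hσ (mkM x)] at this
    rw [← this]
    exact (LocalizedModule.map_mk p.primeCompl f (h x) 1).symm
  obtain ⟨t, ht⟩ := Module.Finite.exists_smul_of_comp_eq_of_isLocalizedModule p.primeCompl mkM _ _ hcomp
  refine ⟨(t : R) * s, n, f, (t : R) • h, fun hmem => (t * s).2 hmem, fun x => ?_⟩
  rw [LinearMap.smul_apply, map_smul, mul_smul]
  exact LinearMap.congr_fun ht x

theorem exists_annihilator_of_projDim : ∀ (h : ℕ) (M : Type u) [AddCommGroup M] [Module R M]
    [Module.Finite R M] (p : Ideal R) [p.IsPrime],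
    HasProjectiveDimensionLE (ModuleCat.of (Localization.AtPrime p) (LocalizedModule p.primeCompl M)) h →
    ∃ s : R, s ∉ p ∧ ∀ (b : Ideal R), b ≠ ⊤ → ∀ (i : ℕ), ((i + h : ℕ) : ℕ∞) < LocCoh.idealDepth b R →
      ∀ x : LocCoh.H b i M, s • x = 0 := by
  intro h
  induction h with
  | zero =>
    intro M _ _ _ p _ hpd
    haveI : Module.Projective (Localization.AtPrime p) (LocalizedModule p.primeCompl M) :=
      (IsProjective.iff_projective _).mpr ((projective_iff_hasProjectiveDimensionLE_zero _).mpr hpd)
    obtain ⟨s, n, f, g, hs, hfg⟩ := exists_factor_through_free M p inferInstance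
    refine ⟨s, hs, fun b hb i hi x => ?_⟩
    haveI := subsingleton_H_pi b i R (subsingleton_H_of_lt_idealDepth b hb i hi) n
    rw [← map_smul_id b i (ModuleCat.of R M) s x,
      show s • 𝟙 (ModuleCat.of R M) = ModuleCat.ofHom g ≫ ModuleCat.ofHom f from by
        ext y; exact (hfg y).symm, Functor.map_comp]
    exact (congrArg _ (Subsingleton.elim (α := LocCoh.H b i (Fin n → R)) _ 0)).trans
      (map_zero ((localCohomology b i).map (ModuleCat.ofHom f)).hom)
  | succ h ih =>
    intro M _ _ _ p _ hpd
    obtain ⟨n, f, hf⟩ := Module.Finite.exists_fin' R M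
    let K := LinearMap.ker f
    haveI : Module.Finite R K := Module.Finite.of_fg (IsNoetherian.noetherian K)
    let L := Localization.AtPrime p
    let K' : ModuleCat.{u} L := ModuleCat.of L (LocalizedModule p.primeCompl K)
    let F' : ModuleCat.{u} L := ModuleCat.of L (LocalizedModule p.primeCompl (Fin n → R))
    let M' : ModuleCat.{u} L := ModuleCat.of L (LocalizedModule p.primeCompl M)
    let j' : K' ⟶ F' := ModuleCat.ofHom (LocalizedModule.map p.primeCompl K.subtype)
    let f' : F' ⟶ M' := ModuleCat.ofHom (LocalizedModule.map p.primeCompl f)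
    let S : ShortComplex (ModuleCat.{u} L) := ShortComplex.mk j' f'
      (by
        refine ModuleCat.hom_ext (LinearMap.ext fun x => ?_)
        change (LocalizedModule.map p.primeCompl f) ((LocalizedModule.map p.primeCompl K.subtype) x) = 0
        exact (LocalizedModule.map_exact p.primeCompl _ _ f.exact_subtype_ker_map).apply_apply_eq_zero x)
    have hS : S.ShortExact :=
      { exact := (ShortComplex.moduleCat_exact_iff _).mpr fun x hx =>
          (LocalizedModule.map_exact p.primeCompl _ _ f.exact_subtype_ker_map x).mp hx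
        mono_f := (ModuleCat.mono_iff_injective _).mpr
          (LocalizedModule.map_injective p.primeCompl _ Subtype.val_injective)
        epi_g := (ModuleCat.epi_iff_surjective _).mpr (LocalizedModule.map_surjective p.primeCompl f hf) }
    haveI : Module.Projective L (LocalizedModule p.primeCompl (Fin n → R)) :=
      Module.projective_of_isLocalizedModule p.primeCompl (LocalizedModule.mkLinearMap p.primeCompl _)
    have hP : CategoryTheory.Projective S.X₂ := (IsProjective.iff_projective _).mp this
    have hK := (hS.hasProjectiveDimensionLT_X₃_iff h hP).mp hpd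
    obtain ⟨s, hs, hkill⟩ := ih K p hK
    refine ⟨s, hs, fun b hb i hi x => ?_⟩
    let S₁ : ShortComplex (ModuleCat.{u} R) := ShortComplex.mk (ModuleCat.ofHom K.subtype)
      (ModuleCat.ofHom f) (by ext y; exact LinearMap.congr_fun f.comp_ker_subtype _)
    have hS₁ : S₁.ShortExact :=
      { exact := (ShortComplex.moduleCat_exact_iff _).mpr fun y hy => ⟨⟨y, hy⟩, rfl⟩
        mono_f := (ModuleCat.mono_iff_injective _).mpr Subtype.val_injective
        epi_g := (ModuleCat.epi_iff_surjective _).mpr hf }
    have hlt : (i : ℕ∞) < LocCoh.idealDepth b R :=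
      lt_of_le_of_lt (by exact_mod_cast Nat.le_add_right i (h + 1)) hi
    haveI := subsingleton_H_pi b i R (subsingleton_H_of_lt_idealDepth b hb i hlt) n
    obtain ⟨w, hw⟩ := exists_of_δ_eq_zero b hS₁ i (s • x) (by
      rw [map_smul]
      exact hkill b hb (i + 1) (by rwa [show i + 1 + h = i + (h + 1) by ring]) _)
    rw [← hw, show w = 0 from Subsingleton.elim (α := LocCoh.H b i (Fin n → R)) _ _]
    exact map_zero _

end Groth.Agent.LocCohLib
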