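import Mathlib
import Groth.Agent.LocCohLib.Acyclic
import Groth.Prelude.Def_DualLC

/-! Change of the supporting ideal, on cocycles of an injective resolution; Mayer–Vietoris. -/

open CategoryTheory Limits Opposite

namespace Groth.Agent.LocCohLib

universe u

variable {R : Type u} [CommRing R]

noncomputable def qle {I I' : Ideal R} (h : I ≤ I') (n : ℕ) : quot I n ⟶ quot I' n :=
  ModuleCat.ofHom (Submodule.mapQ (I ^ n) (I' ^ n) LinearMap.id (by simpa using Ideal.pow_right_mono h n))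

lemma HmapOfLE_ι {I I' : Ideal R} (h : I ≤ I') (i : ℕ) (M : ModuleCat.{u} R) (n : ℕ)
    (x : Abelian.Ext.{u} (quot I' n) M i) :
    ((Dual2.HmapOfLE h i).app M).hom (ι I' i M n x) =
      ι I i M n ((Abelian.Ext.mk₀ (qle h n)).comp x (zero_add i)) := by
  obtain ⟨y, rfl⟩ := (extComp (quot I' n) M i).surjective x
  rw [← extComp_map_left, ι_extComp, ι_extComp]
  have hw := NatTrans.congr_app (Limits.ι_colimMap
    (Functor.whiskerRight (NatTrans.op (Dual2.quotMapOfLE h)) (_root_.Ext R (ModuleCat.{u} R) i)) (op (op n))) M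
  exact congr($(hw).hom y)

variable {M : ModuleCat.{u} R} (J : InjectiveResolution M)

/-- The class of a torsion cocycle. -/
noncomputable def tcls (I : Ideal R) (i : ℕ) :
    ZI I J.cocomplex i →ₗ[R] ((localCohomology I i).obj M : Type u) :=
  gmk J i ∘ₗ
    { toFun := fun x => ⟨(⟨x.1, x.2.1⟩ : DRing.torsionSub I _), (mem_Zmod_gammaCx _).mpr x.2.2⟩
      map_add' := fun _ _ => rfl
      map_smul' := fun _ _ => rfl }

lemma tcls_surjective (I : Ideal R) (i : ℕ) : Function.Surjective (tcls J I i) :=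
  (gmk_surjective J i).comp fun z =>
    ⟨⟨uel I z.1, (z.1 : DRing.torsionSub I _).2, (mem_Zmod_gammaCx _).mp z.2⟩, rfl⟩

lemma tcls_zero_injective (I : Ideal R) : Function.Injective (tcls J I 0) := by
  intro x y h
  have h' := gmk_zero_injective J h
  exact Subtype.ext (congrArg (fun z : Zmod (gammaCx I J.cocomplex) 0 => uel I z.1) h')

lemma tcls_eq_zero_iff (I : Ideal R) (i : ℕ) (x : ZI I J.cocomplex (i + 1)) :
    tcls J I (i + 1) x = 0 ↔ ∃ y ∈ DRing.torsionSub I (J.cocomplex.X i),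
      (J.cocomplex.d i (i + 1)).hom y = x.1 := by
  rw [tcls, LinearMap.comp_apply, gmk_eq_zero_iff_succ]
  constructor
  · rintro ⟨w, hw⟩
    exact ⟨uel I w, (w : DRing.torsionSub I _).2, congrArg (uel I) hw⟩
  · rintro ⟨y, hy, hyx⟩
    exact ⟨(⟨y, hy⟩ : DRing.torsionSub I _), Subtype.ext hyx⟩

lemma torsionSub_mono' {I I' : Ideal R} (h : I ≤ I') (E : Type u) [AddCommGroup E] [Module R E] :
    DRing.torsionSub I' E ≤ DRing.torsionSub I E := fun _ ⟨n, hn⟩ =>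
  ⟨n, fun a ha => hn a (Ideal.pow_right_mono h n ha)⟩

/-- Inclusion of torsion cocycles. -/
noncomputable def zincl {I I' : Ideal R} (h : I ≤ I') (i : ℕ) :
    ZI I' J.cocomplex i →ₗ[R] ZI I J.cocomplex i :=
  Submodule.inclusion (inf_le_inf_right _ (torsionSub_mono' h _))

@[simp] lemma zincl_coe {I I' : Ideal R} (h : I ≤ I') (i : ℕ) (x : ZI I' J.cocomplex i) :
    (zincl J h i x).1 = x.1 := rfl

lemma HmapOfLE_tcls {I I' : Ideal R} (h : I ≤ I') (i : ℕ) (x : ZI I' J.cocomplex i) :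
    ((Dual2.HmapOfLE h i).app M).hom (tcls J I' i x) = tcls J I i (zincl J h i x) := by
  obtain ⟨n, hn⟩ := x.2.1
  have hn' : ∀ a ∈ I ^ n, a • x.1 = 0 := fun a ha => hn a (Ideal.pow_right_mono h n ha)
  simp only [tcls, LinearMap.comp_apply]
  erw [gmk_eq (I := I') J _ n hn, gmk_eq (I := I) J _ n hn']
  rw [HmapOfLE_ι, J.mk₀_comp_extMk]
  congr 2
  exact hom_quot_ext rfl

lemma torsionSub_sup (I₁ I₂ : Ideal R) (E : Type u) [AddCommGroup E] [Module R E] :
    DRing.torsionSub (I₁ ⊔ I₂) E = DRing.torsionSub I₁ E ⊓ DRing.torsionSub I₂ E :=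
  le_antisymm (le_inf (torsionSub_mono' le_sup_left E) (torsionSub_mono' le_sup_right E))
    fun _ hx => mem_torsionSub_sup hx.1 hx.2

lemma torsionSub_inf [IsNoetherianRing R] (I₁ I₂ : Ideal R) (E : Type u) [AddCommGroup E] [Module R E]
    [Module.Injective R E] :
    DRing.torsionSub (I₁ ⊓ I₂) E = DRing.torsionSub I₁ E ⊔ DRing.torsionSub I₂ E := by
  refine le_antisymm ?_ (sup_le (torsionSub_mono' inf_le_left E) (torsionSub_mono' inf_le_right E))
  rintro x ⟨k, hk⟩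
  -- Artin–Rees
  obtain ⟨c, hc⟩ := Ideal.exists_pow_inf_eq_pow_smul I₁ (I₂ ^ k : Submodule R R)
  have hAB : ∀ a ∈ (I₁ ^ (c + k) ⊓ I₂ ^ k : Ideal R), a • x = 0 := by
    intro a ha
    refine hk a ((mul_pow I₁ I₂ k).symm.le.trans (Ideal.pow_right_mono Ideal.mul_le_inf k) ?_)
    have h1 : a ∈ (I₁ ^ (c + k) • ⊤ ⊓ I₂ ^ k : Submodule R R) := by
      simpa [smul_eq_mul, Ideal.mul_top] using ha
    rw [hc (c + k) (by omega), Nat.add_sub_cancel_left] at h1
    exact Submodule.smul_mono le_rfl inf_le_right h1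
  let A := I₁ ^ (c + k)
  let B := I₂ ^ k
  let f : R →ₗ[R] (R ⧸ A) × (R ⧸ B) := LinearMap.prod A.mkQ B.mkQ
  have hker : LinearMap.ker f = A ⊓ B := by
    ext a
    simp [f, Submodule.Quotient.mk_eq_zero]
  let g : (R ⧸ (A ⊓ B)) →ₗ[R] E := Submodule.liftQ _ (LinearMap.toSpanSingleton R E x) fun a ha => hAB a ha
  let f' : (R ⧸ (A ⊓ B)) →ₗ[R] (R ⧸ A) × (R ⧸ B) := Submodule.liftQ _ f hker.ge
  have hf' : Function.Injective f' := LinearMap.ker_eq_bot.mp (Submodule.ker_liftQ_eq_bot _ _ _ hker.le)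
  obtain ⟨φ, hφ⟩ := Module.Injective.out f' hf' g
  refine Submodule.mem_sup.mpr ⟨φ (A.mkQ 1, 0), ⟨c + k, fun a ha => ?_⟩, φ (0, B.mkQ 1), ⟨k, fun a ha => ?_⟩, ?_⟩
  · rw [← map_smul, Prod.smul_mk, smul_zero, ← map_smul, smul_eq_mul, mul_one, Submodule.mkQ_apply,
      (Submodule.Quotient.mk_eq_zero _).mpr ha]
    exact map_zero φ
  · rw [← map_smul, Prod.smul_mk, smul_zero, ← map_smul, smul_eq_mul, mul_one, Submodule.mkQ_apply,
      (Submodule.Quotient.mk_eq_zero _).mpr ha]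
    exact map_zero φ
  · rw [← map_add, Prod.mk_add_mk, add_zero, zero_add]
    exact (hφ (Submodule.Quotient.mk 1)).trans (one_smul R x)

section MV

variable (I₁ I₂ : Ideal R)

/-- Decomposed cocycles for `I₁ ⊓ I₂`. -/
noncomputable def mvW (i : ℕ) : Submodule R (J.cocomplex.X i × J.cocomplex.X i) :=
  (DRing.torsionSub I₁ (J.cocomplex.X i)).prod (DRing.torsionSub I₂ (J.cocomplex.X i)) ⊓
    LinearMap.ker ((J.cocomplex.d i (i + 1)).hom ∘ₗ (LinearMap.fst R _ _ + LinearMap.snd R _ _))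

noncomputable def mvσ (i : ℕ) : mvW J I₁ I₂ i →ₗ[R] ZI (I₁ ⊓ I₂) J.cocomplex i :=
  ((LinearMap.fst R _ _ + LinearMap.snd R _ _) ∘ₗ (mvW J I₁ I₂ i).subtype).codRestrict _ fun w =>
    ⟨add_mem (torsionSub_mono' inf_le_left _ w.2.1.1) (torsionSub_mono' inf_le_right _ w.2.1.2), by exact w.2.2⟩

lemma mvσ_surjective [IsNoetherianRing R] (i : ℕ) : Function.Surjective (mvσ J I₁ I₂ i) := by
  intro z
  haveI : Injective (ModuleCat.of R (J.cocomplex.X i)) := J.injective i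
  haveI := Module.injective_module_of_injective_object R (J.cocomplex.X i)
  obtain ⟨a, ha, b, hb, hab⟩ := Submodule.mem_sup.mp ((torsionSub_inf I₁ I₂ _).le z.2.1)
  refine ⟨⟨(a, b), ⟨ha, hb⟩, LinearMap.mem_ker.mpr ?_⟩, Subtype.ext hab⟩
  change (J.cocomplex.d i (i + 1)).hom (a + b) = 0
  rw [hab]
  exact z.2.2

noncomputable def mvψ (i : ℕ) : mvW J I₁ I₂ i →ₗ[R] ((localCohomology (I₁ ⊔ I₂) (i + 1)).obj M : Type u) :=
  tcls J (I₁ ⊔ I₂) (i + 1) ∘ₗ
    ((J.cocomplex.d i (i + 1)).hom ∘ₗ LinearMap.fst R _ _ ∘ₗ (mvW J I₁ I₂ i).subtype).codRestrict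
      (ZI (I₁ ⊔ I₂) J.cocomplex (i + 1)) fun w => by
    obtain ⟨⟨a, b⟩, ⟨ha, hb⟩, hd⟩ := w
    refine ⟨?_, LinearMap.mem_ker.mpr (congr($(J.cocomplex.d_comp_d i (i + 1) (i + 1 + 1)).hom a))⟩
    rw [SetLike.mem_coe, torsionSub_sup]
    refine ⟨DRing.map_mem_torsionSub _ (J.cocomplex.d i (i + 1)).hom ha, ?_⟩
    have h1 : (J.cocomplex.d i (i + 1)).hom a + (J.cocomplex.d i (i + 1)).hom b = 0 :=
      (map_add _ a b).symm.trans (LinearMap.mem_ker.mp hd)
    change (J.cocomplex.d i (i + 1)).hom a ∈ DRing.torsionSub I₂ _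
    rw [eq_neg_of_add_eq_zero_left h1]
    exact neg_mem (DRing.map_mem_torsionSub _ _ hb)

lemma mvψ_eq_zero_iff (i : ℕ) (w : mvW J I₁ I₂ i) :
    mvψ J I₁ I₂ i w = 0 ↔ ∃ e, e ∈ DRing.torsionSub I₁ (J.cocomplex.X i) ∧ e ∈ DRing.torsionSub I₂ (J.cocomplex.X i) ∧
      (J.cocomplex.d i (i + 1)).hom e = (J.cocomplex.d i (i + 1)).hom w.1.1 := by
  rw [mvψ, LinearMap.comp_apply, tcls_eq_zero_iff]
  constructor
  · rintro ⟨e, he, hde⟩
    rw [torsionSub_sup] at he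
    exact ⟨e, he.1, he.2, hde⟩
  · rintro ⟨e, he, he', hde⟩
    exact ⟨e, mem_torsionSub_sup he he', hde⟩

variable [IsNoetherianRing R]

lemma ker_mv_le (i : ℕ) :
    LinearMap.ker (tcls J (I₁ ⊓ I₂) i ∘ₗ mvσ J I₁ I₂ i) ≤ LinearMap.ker (mvψ J I₁ I₂ i) := by
  intro w hw
  rw [LinearMap.mem_ker, LinearMap.comp_apply] at hw
  rw [LinearMap.mem_ker, mvψ_eq_zero_iff]
  cases i with
  | zero =>
    have h : w.1.1 + w.1.2 = 0 := congrArg Subtype.val (tcls_zero_injective J _ (hw.trans (map_zero _).symm))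
    exact ⟨w.1.1, w.2.1.1, (eq_neg_of_add_eq_zero_left h).symm ▸ neg_mem w.2.1.2, rfl⟩
  | succ p =>
    obtain ⟨y, hy, hyw⟩ := (tcls_eq_zero_iff J _ p _).mp hw
    haveI : Injective (ModuleCat.of R (J.cocomplex.X p)) := J.injective p
    haveI := Module.injective_module_of_injective_object R (J.cocomplex.X p)
    obtain ⟨a, ha, b, hb, rfl⟩ := Submodule.mem_sup.mp ((torsionSub_inf I₁ I₂ _).le hy)
    have h : (J.cocomplex.d p (p + 1)).hom a + (J.cocomplex.d p (p + 1)).hom b = w.1.1 + w.1.2 :=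
      (map_add _ a b).symm.trans hyw
    refine ⟨w.1.1 - (J.cocomplex.d p (p + 1)).hom a, sub_mem w.2.1.1 (DRing.map_mem_torsionSub _ _ ha), ?_, ?_⟩
    · rw [show w.1.1 - (J.cocomplex.d p (p + 1)).hom a = (J.cocomplex.d p (p + 1)).hom b - w.1.2 by
        rw [sub_eq_sub_iff_add_eq_add, add_comm ((J.cocomplex.d p (p + 1)).hom b), h]]
      exact sub_mem (DRing.map_mem_torsionSub _ _ hb) w.2.1.2
    · rw [map_sub, show (J.cocomplex.d (p + 1) (p + 1 + 1)).hom ((J.cocomplex.d p (p + 1)).hom a) = 0 from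
        congr($(J.cocomplex.d_comp_d p (p + 1) (p + 1 + 1)).hom a), sub_zero]

lemma _root_.LinearMap.prod_apply_fst' {R M M₂ M₃ : Type*} [Semiring R] [AddCommMonoid M] [AddCommMonoid M₂]
    [AddCommMonoid M₃] [Module R M] [Module R M₂] [Module R M₃] (f : M →ₗ[R] M₂) (g : M →ₗ[R] M₃) (x : M) :
    (f.prod g x).1 = f x := rfl

lemma _root_.LinearMap.prod_apply_snd' {R M M₂ M₃ : Type*} [Semiring R] [AddCommMonoid M] [AddCommMonoid M₂]
    [AddCommMonoid M₃] [Module R M] [Module R M₂] [Module R M₃] (f : M →ₗ[R] M₂) (g : M →ₗ[R] M₃) (x : M) :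
    (f.prod g x).2 = g x := rfl

lemma tσ_surjective (i : ℕ) : Function.Surjective (tcls J (I₁ ⊓ I₂) i ∘ₗ mvσ J I₁ I₂ i) :=
  (tcls_surjective J _ i).comp (mvσ_surjective J I₁ I₂ i)

/-- The connecting map. -/
noncomputable def mvδ (i : ℕ) :
    ((localCohomology (I₁ ⊓ I₂) i).obj M : Type u) →ₗ[R] ((localCohomology (I₁ ⊔ I₂) (i + 1)).obj M : Type u) :=
  (LinearMap.ker (tcls J (I₁ ⊓ I₂) i ∘ₗ mvσ J I₁ I₂ i)).liftQ (mvψ J I₁ I₂ i) (ker_mv_le J I₁ I₂ i) ∘ₗ
    ((tcls J (I₁ ⊓ I₂) i ∘ₗ mvσ J I₁ I₂ i).quotKerEquivOfSurjective (tσ_surjective J I₁ I₂ i)).symm.toLinearMap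

lemma mvδ_apply (i : ℕ) (w : mvW J I₁ I₂ i) :
    mvδ J I₁ I₂ i (tcls J (I₁ ⊓ I₂) i (mvσ J I₁ I₂ i w)) = mvψ J I₁ I₂ i w := by
  rw [mvδ, LinearMap.comp_apply]
  have : ((tcls J (I₁ ⊓ I₂) i ∘ₗ mvσ J I₁ I₂ i).quotKerEquivOfSurjective (tσ_surjective J I₁ I₂ i)).symm.toLinearMap
      (tcls J (I₁ ⊓ I₂) i (mvσ J I₁ I₂ i w)) = Submodule.Quotient.mk w :=
    (LinearEquiv.symm_apply_eq _).mpr rfl
  rw [this, Submodule.liftQ_apply]

theorem mv_exact :
    Function.Injective (LinearMap.prod ((Dual2.HmapOfLE (le_sup_left : I₁ ≤ I₁ ⊔ I₂) 0).app M).hom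
        ((Dual2.HmapOfLE (le_sup_right : I₂ ≤ I₁ ⊔ I₂) 0).app M).hom) ∧
      (∀ i : ℕ, LinearMap.ker (LinearMap.prod ((Dual2.HmapOfLE (le_sup_left : I₁ ≤ I₁ ⊔ I₂) (i + 1)).app M).hom
          ((Dual2.HmapOfLE (le_sup_right : I₂ ≤ I₁ ⊔ I₂) (i + 1)).app M).hom) = LinearMap.range (mvδ J I₁ I₂ i)) ∧
      (∀ i : ℕ, LinearMap.ker (((Dual2.HmapOfLE (inf_le_left : I₁ ⊓ I₂ ≤ I₁) i).app M).hom ∘ₗ
            LinearMap.fst R ((localCohomology I₁ i).obj M : Type u) ((localCohomology I₂ i).obj M : Type u) -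
          ((Dual2.HmapOfLE (inf_le_right : I₁ ⊓ I₂ ≤ I₂) i).app M).hom ∘ₗ
            LinearMap.snd R ((localCohomology I₁ i).obj M : Type u) ((localCohomology I₂ i).obj M : Type u)) =
        LinearMap.range (LinearMap.prod ((Dual2.HmapOfLE (le_sup_left : I₁ ≤ I₁ ⊔ I₂) i).app M).hom
          ((Dual2.HmapOfLE (le_sup_right : I₂ ≤ I₁ ⊔ I₂) i).app M).hom)) ∧
      (∀ i : ℕ, LinearMap.ker (mvδ J I₁ I₂ i) =
        LinearMap.range (((Dual2.HmapOfLE (inf_le_left : I₁ ⊓ I₂ ≤ I₁) i).app M).hom ∘ₗ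
            LinearMap.fst R ((localCohomology I₁ i).obj M : Type u) ((localCohomology I₂ i).obj M : Type u) -
          ((Dual2.HmapOfLE (inf_le_right : I₁ ⊓ I₂ ≤ I₂) i).app M).hom ∘ₗ
            LinearMap.snd R ((localCohomology I₁ i).obj M : Type u) ((localCohomology I₂ i).obj M : Type u))) := by
  set d := fun i => (J.cocomplex.d i (i + 1)).hom with hd
  refine ⟨?_, fun i => le_antisymm ?_ ?_, fun i => le_antisymm ?_ ?_, fun i => le_antisymm ?_ ?_⟩
  · rw [injective_iff_map_eq_zero]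
    intro z hz
    obtain ⟨z, rfl⟩ := tcls_surjective J _ 0 z
    have h1 := congrArg Prod.fst hz
    simp only [LinearMap.prod_apply_fst', LinearMap.prod_apply_snd', Prod.fst_zero, HmapOfLE_tcls] at h1
    have h2 := congrArg Subtype.val (tcls_zero_injective J _ (h1.trans (map_zero _).symm))
    rw [show z = 0 from Subtype.ext h2, map_zero]
  · intro z hz
    obtain ⟨z, rfl⟩ := tcls_surjective J _ (i + 1) z
    have h1 := congrArg Prod.fst (LinearMap.mem_ker.mp hz)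
    have h2 := congrArg Prod.snd (LinearMap.mem_ker.mp hz)
    simp only [LinearMap.prod_apply_fst', LinearMap.prod_apply_snd', Prod.fst_zero, Prod.snd_zero, HmapOfLE_tcls,
      tcls_eq_zero_iff, zincl_coe] at h1 h2
    obtain ⟨a, ha, hda⟩ := h1
    obtain ⟨b, hb, hdb⟩ := h2
    have hw : (a, -b) ∈ mvW J I₁ I₂ i := ⟨⟨ha, neg_mem hb⟩, LinearMap.mem_ker.mpr (by
      change d i (a + -b) = 0
      rw [map_add, map_neg, hd, hda, hdb, add_neg_cancel])⟩
    refine ⟨tcls J _ i (mvσ J I₁ I₂ i ⟨(a, -b), hw⟩), ?_⟩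
    rw [mvδ_apply, mvψ, LinearMap.comp_apply]
    exact congrArg _ (Subtype.ext hda)
  · rintro _ ⟨z, rfl⟩
    obtain ⟨w, rfl⟩ := tσ_surjective J I₁ I₂ i z
    rw [LinearMap.comp_apply, mvδ_apply, LinearMap.mem_ker, mvψ, LinearMap.comp_apply]
    refine Prod.ext ?_ ?_
    · simp only [LinearMap.prod_apply_fst', LinearMap.prod_apply_snd', Prod.fst_zero, HmapOfLE_tcls, tcls_eq_zero_iff, zincl_coe]
      exact ⟨w.1.1, w.2.1.1, rfl⟩
    · simp only [LinearMap.prod_apply_fst', LinearMap.prod_apply_snd', Prod.snd_zero, HmapOfLE_tcls, tcls_eq_zero_iff, zincl_coe]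
      refine ⟨-w.1.2, neg_mem w.2.1.2, ?_⟩
      have h : d i w.1.1 + d i w.1.2 = 0 := (map_add _ _ _).symm.trans (LinearMap.mem_ker.mp w.2.2)
      rw [map_neg]
      exact (eq_neg_of_add_eq_zero_left h).symm
  · rintro ⟨x, y⟩ hxy
    obtain ⟨x, rfl⟩ := tcls_surjective J _ i x
    obtain ⟨y, rfl⟩ := tcls_surjective J _ i y
    simp only [LinearMap.mem_ker, LinearMap.sub_apply, LinearMap.comp_apply, LinearMap.fst_apply,
      LinearMap.snd_apply, HmapOfLE_tcls, ← map_sub] at hxy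
    cases i with
    | zero =>
      have h : x.1 - y.1 = 0 := congrArg Subtype.val (tcls_zero_injective J _ (hxy.trans (map_zero _).symm))
      rw [sub_eq_zero] at h
      have hz : x.1 ∈ ZI (I₁ ⊔ I₂) J.cocomplex 0 :=
        ⟨mem_torsionSub_sup x.2.1 (h ▸ y.2.1), x.2.2⟩
      refine ⟨tcls J _ 0 ⟨x.1, hz⟩, ?_⟩
      refine Prod.ext ?_ ?_
      · rw [LinearMap.prod_apply_fst', HmapOfLE_tcls]; exact congrArg _ (Subtype.ext rfl)
      · rw [LinearMap.prod_apply_snd', HmapOfLE_tcls]; exact congrArg _ (Subtype.ext h)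
    | succ p =>
      obtain ⟨e, he, hde⟩ := (tcls_eq_zero_iff J _ p _).mp hxy
      haveI : Injective (ModuleCat.of R (J.cocomplex.X p)) := J.injective p
      haveI := Module.injective_module_of_injective_object R (J.cocomplex.X p)
      obtain ⟨a, ha, b, hb, rfl⟩ := Submodule.mem_sup.mp ((torsionSub_inf I₁ I₂ _).le he)
      have h : d p a + d p b = x.1 - y.1 := (map_add _ a b).symm.trans hde
      have hz : x.1 - d p a ∈ ZI (I₁ ⊔ I₂) J.cocomplex (p + 1) := by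
        refine ⟨mem_torsionSub_sup (sub_mem x.2.1 (DRing.map_mem_torsionSub _ _ ha)) ?_, LinearMap.mem_ker.mpr ?_⟩
        · rw [show x.1 - d p a = y.1 + d p b by rw [sub_eq_iff_eq_add, add_assoc, add_comm (d p b), h]; abel]
          exact add_mem y.2.1 (DRing.map_mem_torsionSub _ _ hb)
        · rw [map_sub, show d (p + 1) (d p a) = 0 from
            congr($(J.cocomplex.d_comp_d p (p + 1) (p + 1 + 1)).hom a), sub_zero]
          exact x.2.2
      refine ⟨tcls J _ (p + 1) ⟨_, hz⟩, ?_⟩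
      refine Prod.ext ?_ ?_ <;>
        simp only [LinearMap.prod_apply_fst', LinearMap.prod_apply_snd', HmapOfLE_tcls] <;>
        refine sub_eq_zero.mp ?_
      · rw [← map_sub, tcls_eq_zero_iff]
        exact ⟨-a, neg_mem ha, by rw [map_neg]; change -d p a = x.1 - d p a - x.1; abel⟩
      · rw [← map_sub, tcls_eq_zero_iff]
        refine ⟨b, hb, ?_⟩
        change d p b = x.1 - d p a - y.1
        rw [sub_right_comm, ← h]
        abel
  · rintro _ ⟨z, rfl⟩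
    obtain ⟨z, rfl⟩ := tcls_surjective J _ i z
    simp only [LinearMap.mem_ker, LinearMap.sub_apply, LinearMap.comp_apply, LinearMap.fst_apply,
      LinearMap.snd_apply, LinearMap.prod_apply_fst', LinearMap.prod_apply_snd', HmapOfLE_tcls, sub_eq_zero]
    exact congrArg _ (Subtype.ext rfl)
  · intro z hz
    obtain ⟨w, rfl⟩ := tσ_surjective J I₁ I₂ i z
    rw [LinearMap.mem_ker, LinearMap.comp_apply, mvδ_apply, mvψ_eq_zero_iff] at hz
    obtain ⟨e, he, he', hde⟩ := hz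
    have h : d i w.1.1 + d i w.1.2 = 0 := (map_add _ _ _).symm.trans (LinearMap.mem_ker.mp w.2.2)
    have hx : w.1.1 - e ∈ ZI I₁ J.cocomplex i :=
      ⟨sub_mem w.2.1.1 he, LinearMap.mem_ker.mpr (by rw [map_sub, hde, sub_self])⟩
    have hy : -(w.1.2 + e) ∈ ZI I₂ J.cocomplex i :=
      ⟨neg_mem (add_mem w.2.1.2 he'), LinearMap.mem_ker.mpr (by
        rw [map_neg, map_add, hde, neg_eq_zero]; exact (add_comm _ _).trans h)⟩
    refine ⟨(tcls J _ i ⟨_, hx⟩, tcls J _ i ⟨_, hy⟩), ?_⟩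
    simp only [LinearMap.sub_apply, LinearMap.comp_apply, LinearMap.fst_apply, LinearMap.snd_apply,
      HmapOfLE_tcls, ← map_sub]
    refine congrArg _ (Subtype.ext ?_)
    change (w.1.1 - e) - -(w.1.2 + e) = w.1.1 + w.1.2
    abel
  · rintro _ ⟨⟨x, y⟩, rfl⟩
    obtain ⟨x, rfl⟩ := tcls_surjective J _ i x
    obtain ⟨y, rfl⟩ := tcls_surjective J _ i y
    have hw : (x.1, -y.1) ∈ mvW J I₁ I₂ i := ⟨⟨x.2.1, neg_mem y.2.1⟩, LinearMap.mem_ker.mpr (by
      change d i (x.1 + -y.1) = 0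
      rw [map_add, map_neg, show d i x.1 = 0 from x.2.2, show d i y.1 = 0 from y.2.2, neg_zero, add_zero])⟩
    simp only [LinearMap.sub_apply, LinearMap.comp_apply, LinearMap.fst_apply, LinearMap.snd_apply,
      HmapOfLE_tcls, ← map_sub]
    rw [show zincl J inf_le_left i x - zincl J inf_le_right i y = mvσ J I₁ I₂ i ⟨_, hw⟩ from
      Subtype.ext (sub_eq_add_neg _ _), LinearMap.mem_ker, mvδ_apply, mvψ_eq_zero_iff]
    exact ⟨0, zero_mem _, zero_mem _, (map_zero _).trans x.2.2.symm⟩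

end MV

end Groth.Agent.LocCohLib
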