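import Mathlib
import Groth.Agent.LocCohLib.Change
import Groth.Agent.LocCohLib.MaxIdeal
import Groth.Agent.LocCohLib.FiniteTest
import Groth.Agent.LocCohLib.FiniteH1

/-! The comparison `H^i_{a+(b)} → H^i_a` and localisation at `b`. -/

open CategoryTheory Limits

namespace Groth.Agent.LocCohLib

universe u

variable {R : Type u} [CommRing R] [IsNoetherianRing R]
variable {M : ModuleCat.{u} R} (J : InjectiveResolution M) (a : Ideal R) (b : R)


lemma exists_pow_smul_of_mem_torsion_sup {E : Type u} [AddCommGroup E] [Module R E] {x : E}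
    (hx : x ∈ DRing.torsionSub (a ⊔ Ideal.span {b}) E) : ∃ k : ℕ, b ^ k • x = 0 := by
  obtain ⟨k, hk⟩ := hx
  exact ⟨k, hk _ (Ideal.pow_mem_pow (Ideal.mem_sup_right (Ideal.mem_span_singleton_self b)) k)⟩

lemma mem_torsion_sup {E : Type u} [AddCommGroup E] [Module R E] {x : E} {k : ℕ}
    (hx : x ∈ DRing.torsionSub a E) (hk : b ^ k • x = 0) : x ∈ DRing.torsionSub (a ⊔ Ideal.span {b}) E :=
  mem_torsionSub_sup hx (mem_torsionSub_span_singleton hk)

lemma exists_divide (i : ℕ) (k : ℕ) {w : J.cocomplex.X i} (hw : w ∈ DRing.torsionSub a (J.cocomplex.X i)) :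
    ∃ w' ∈ DRing.torsionSub a (J.cocomplex.X i), ∃ l : ℕ, b ^ l • (b ^ k • w' - w) = 0 := by
  haveI : Injective (ModuleCat.of R (J.cocomplex.X i)) := J.injective i
  haveI := Module.injective_module_of_injective_object R (J.cocomplex.X i)
  haveI := injective_torsionSub a (J.cocomplex.X i : Type u)
  obtain ⟨l, hl⟩ := divProp_of_injective (DRing.torsionSub a (J.cocomplex.X i : Type u)) b k
  obtain ⟨⟨w', hw'⟩, hww⟩ := hl ⟨w, hw⟩
  exact ⟨w', hw', l, congrArg Subtype.val hww⟩

lemma pow_smul_tcls_eq_zero {i : ℕ} (z : ZI a J.cocomplex i) (m : ℕ) (h : b ^ m • tcls J a i z = 0) :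
    ∃ e ∈ DRing.torsionSub (a ⊔ Ideal.span {b}) (J.cocomplex.X i),
      (J.cocomplex.d i (i + 1)).hom e = 0 ∧ ∃ he : e ∈ ZI a J.cocomplex i, tcls J a i ⟨e, he⟩ = tcls J a i z := by
  rw [← map_smul] at h
  cases i with
  | zero =>
    have h0 : b ^ m • z.1 = 0 := congrArg Subtype.val (tcls_zero_injective J _ (h.trans (map_zero _).symm))
    exact ⟨z.1, mem_torsion_sup a b z.2.1 h0, z.2.2, z.2, rfl⟩
  | succ p =>
    obtain ⟨w, hw, hdw⟩ := (tcls_eq_zero_iff J a p _).mp h
    obtain ⟨w', hw', l, hl⟩ := exists_divide J a b p m hw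
    have hd : (J.cocomplex.d (p + 1) (p + 1 + 1)).hom ((J.cocomplex.d p (p + 1)).hom w') = 0 :=
      congr($(J.cocomplex.d_comp_d p (p + 1) (p + 1 + 1)).hom w')
    have hde : (J.cocomplex.d (p + 1) (p + 1 + 1)).hom (z.1 - (J.cocomplex.d p (p + 1)).hom w') = 0 := by
      rw [map_sub, hd, sub_zero]; exact z.2.2
    have hmem : z.1 - (J.cocomplex.d p (p + 1)).hom w' ∈ DRing.torsionSub a (J.cocomplex.X (p + 1)) :=
      sub_mem z.2.1 (DRing.map_mem_torsionSub _ _ hw')
    refine ⟨_, mem_torsion_sup (k := l + m) a b hmem ?_, hde, ⟨hmem, hde⟩, sub_eq_zero.mp ?_⟩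
    · rw [pow_add, mul_smul, smul_sub (b ^ m), ← map_smul,
        show b ^ m • z.1 = (J.cocomplex.d p (p + 1)).hom w from hdw.symm, ← map_sub, ← map_smul,
        ← neg_sub (b ^ m • w') w, smul_neg, hl, neg_zero, map_zero]
    · rw [← map_sub, tcls_eq_zero_iff]
      exact ⟨-w', neg_mem hw', by
        change (J.cocomplex.d p (p + 1)).hom (-w') = z.1 - (J.cocomplex.d p (p + 1)).hom w' - z.1
        rw [map_neg]; abel⟩

include J in
theorem range_HmapOfLE (i : ℕ) (x : (localCohomology a i).obj M) :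
    x ∈ LinearMap.range ((Dual2.HmapOfLE (le_sup_left : a ≤ (a ⊔ Ideal.span {b})) i).app M).hom ↔ ∃ n : ℕ, b ^ n • x = 0 := by
  obtain ⟨z, rfl⟩ := tcls_surjective J a i x
  constructor
  · rintro ⟨y, hy⟩
    obtain ⟨y, rfl⟩ := tcls_surjective J (a ⊔ Ideal.span {b}) i y
    obtain ⟨n, hn⟩ := exists_pow_smul_of_mem_torsion_sup a b y.2.1
    refine ⟨n, ?_⟩
    rw [← hy, ← map_smul, ← map_smul, show b ^ n • y = 0 from Subtype.ext hn, map_zero, map_zero]
  · rintro ⟨n, hn⟩
    obtain ⟨e, he, hde, hea, heq⟩ := pow_smul_tcls_eq_zero J a b z n hn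
    exact ⟨tcls J (a ⊔ Ideal.span {b}) i ⟨e, he, hde⟩, (HmapOfLE_tcls J le_sup_left i _).trans heq⟩

include J in
theorem injective_HmapOfLE_zero :
    Function.Injective ((Dual2.HmapOfLE (le_sup_left : a ≤ (a ⊔ Ideal.span {b})) 0).app M).hom := by
  rw [injective_iff_map_eq_zero]
  intro z hz
  obtain ⟨z, rfl⟩ := tcls_surjective J _ 0 z
  rw [HmapOfLE_tcls] at hz
  have h2 := congrArg Subtype.val (tcls_zero_injective J _ (hz.trans (map_zero _).symm))
  rw [show z = 0 from Subtype.ext h2, map_zero]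

/-- `{y ∈ T_a K^i | d y ∈ T_c K^{i+1}}`. -/
noncomputable def addV (i : ℕ) : Submodule R (J.cocomplex.X i) :=
  DRing.torsionSub a (J.cocomplex.X i) ⊓
    (DRing.torsionSub (a ⊔ Ideal.span {b}) (J.cocomplex.X (i + 1))).comap (J.cocomplex.d i (i + 1)).hom

noncomputable def addψ (i : ℕ) : addV J a b i →ₗ[R] ((localCohomology (a ⊔ Ideal.span {b}) (i + 1)).obj M : Type u) :=
  tcls J (a ⊔ Ideal.span {b}) (i + 1) ∘ₗ ((J.cocomplex.d i (i + 1)).hom ∘ₗ (addV J a b i).subtype).codRestrict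
    (ZI (a ⊔ Ideal.span {b}) J.cocomplex (i + 1)) fun y =>
      ⟨y.2.2, LinearMap.mem_ker.mpr (congr($(J.cocomplex.d_comp_d i (i + 1) (i + 1 + 1)).hom y.1))⟩

lemma range_addψ (i : ℕ) :
    LinearMap.range (addψ J a b i) = LinearMap.ker ((Dual2.HmapOfLE (le_sup_left : a ≤ (a ⊔ Ideal.span {b})) (i + 1)).app M).hom := by
  ext x
  obtain ⟨z, rfl⟩ := tcls_surjective J (a ⊔ Ideal.span {b}) (i + 1) x
  rw [LinearMap.mem_ker, HmapOfLE_tcls, tcls_eq_zero_iff]
  constructor
  · rintro ⟨y, hy⟩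
    have hy' : tcls J (a ⊔ Ideal.span {b}) (i + 1) _ = tcls J (a ⊔ Ideal.span {b}) (i + 1) z := hy
    rw [← sub_eq_zero, ← map_sub, tcls_eq_zero_iff] at hy'
    obtain ⟨e, he, hde⟩ := hy'
    refine ⟨y.1 - e, sub_mem y.2.1 (torsionSub_mono' le_sup_left _ he), ?_⟩
    rw [map_sub, hde]
    change (J.cocomplex.d i (i + 1)).hom y.1 - ((J.cocomplex.d i (i + 1)).hom y.1 - z.1) = z.1
    abel
  · rintro ⟨y, hy, hdy⟩
    have hmem : y ∈ addV J a b i := ⟨hy, by
      change (J.cocomplex.d i (i + 1)).hom y ∈ DRing.torsionSub (a ⊔ Ideal.span {b}) _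
      rw [show (J.cocomplex.d i (i + 1)).hom y = z.1 from hdy]
      exact z.2.1⟩
    exact ⟨⟨y, hmem⟩, congrArg (tcls J _ (i + 1)) (Subtype.ext hdy)⟩

lemma addV_exists_pow (i : ℕ) (y : addV J a b i) : ∃ k : ℕ, b ^ k • (y : J.cocomplex.X i) ∈ ZI a J.cocomplex i := by
  obtain ⟨k, hk⟩ := exists_pow_smul_of_mem_torsion_sup a b y.2.2
  exact ⟨k, Submodule.smul_mem _ _ y.2.1, LinearMap.mem_ker.mpr (by rw [map_smul]; exact hk)⟩

/-- `y ↦ [b^k y] / b^k`. -/
noncomputable def addρFun (i : ℕ) (y : addV J a b i) :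
    LocalizedModule (Submonoid.powers b) ((localCohomology a i).obj M : Type u) :=
  LocalizedModule.mk (tcls J a i ⟨_, (addV_exists_pow J a b i y).choose_spec⟩)
    ⟨b ^ (addV_exists_pow J a b i y).choose, pow_mem (Submonoid.mem_powers b) _⟩

lemma addρFun_eq (i : ℕ) (y : addV J a b i) (m : ℕ) (hm : b ^ m • (y : J.cocomplex.X i) ∈ ZI a J.cocomplex i) :
    addρFun J a b i y = LocalizedModule.mk (tcls J a i ⟨_, hm⟩) ⟨b ^ m, pow_mem (Submonoid.mem_powers b) _⟩ := by
  refine LocalizedModule.mk_eq.mpr ⟨1, ?_⟩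
  simp only [one_smul, Submonoid.smul_def]
  rw [← map_smul, ← map_smul]
  exact congrArg _ (Subtype.ext (smul_comm _ _ _))

noncomputable def addρ (i : ℕ) :
    addV J a b i →ₗ[R] LocalizedModule (Submonoid.powers b) ((localCohomology a i).obj M : Type u) where
  toFun := addρFun J a b i
  map_add' y y' := by
    obtain ⟨k, hk⟩ := addV_exists_pow J a b i y
    obtain ⟨k', hk'⟩ := addV_exists_pow J a b i y'
    have h1 : b ^ (k + k') • (y : J.cocomplex.X i) ∈ ZI a J.cocomplex i := by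
      rw [add_comm, pow_add, mul_smul]; exact Submodule.smul_mem _ _ hk
    have h2 : b ^ (k + k') • (y' : J.cocomplex.X i) ∈ ZI a J.cocomplex i := by
      rw [pow_add, mul_smul]; exact Submodule.smul_mem _ _ hk'
    rw [addρFun_eq J a b i y _ h1, addρFun_eq J a b i y' _ h2,
      addρFun_eq J a b i (y + y') (k + k') (by
        rw [Submodule.coe_add, smul_add]; exact add_mem h1 h2), LocalizedModule.mk_add_mk]
    refine LocalizedModule.mk_eq.mpr ⟨1, ?_⟩
    simp only [one_smul, Submonoid.smul_def, Submonoid.coe_mul, ← smul_add, ← map_add, ← map_smul, smul_smul]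
    exact congrArg _ (Subtype.ext (by
      change (b ^ (k + k') * b ^ (k + k')) • (b ^ (k + k') • ((y : J.cocomplex.X i) + y')) =
        (b ^ (k + k') * b ^ (k + k')) • (b ^ (k + k') • (y : J.cocomplex.X i) + b ^ (k + k') • (y' : J.cocomplex.X i))
      rw [← smul_add]))
  map_smul' r y := by
    obtain ⟨k, hk⟩ := addV_exists_pow J a b i y
    rw [addρFun_eq J a b i y k hk, RingHom.id_apply, LocalizedModule.smul'_mk,
      addρFun_eq J a b i (r • y) k (by rw [Submodule.coe_smul, smul_comm]; exact Submodule.smul_mem _ _ hk),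
      ← map_smul]
    exact congrArg (LocalizedModule.mk · _) (congrArg _ (Subtype.ext (smul_comm _ _ _)))

lemma addρ_surjective (i : ℕ) : Function.Surjective (addρ J a b i) := by
  intro x
  induction x using LocalizedModule.induction_on with
  | _ h s =>
    obtain ⟨_, k, rfl⟩ := s
    obtain ⟨z, rfl⟩ := tcls_surjective J a i h
    obtain ⟨y, hy, l, hl⟩ := exists_divide J a b i k z.2.1
    rw [smul_sub, sub_eq_zero, smul_smul, ← pow_add] at hl
    have hm : b ^ (l + k) • y ∈ ZI a J.cocomplex i := by rw [hl]; exact Submodule.smul_mem _ _ z.2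
    have hV : y ∈ addV J a b i :=
      ⟨hy, mem_torsion_sup a b (DRing.map_mem_torsionSub _ _ hy) (k := l + k) (by
        rw [← map_smul]; exact hm.2)⟩
    refine ⟨⟨y, hV⟩, ?_⟩
    change addρFun J a b i ⟨y, hV⟩ = _
    rw [addρFun_eq J a b i ⟨y, hV⟩ (l + k) hm]
    refine LocalizedModule.mk_eq.mpr ⟨1, ?_⟩
    simp only [one_smul, Submonoid.smul_def, ← map_smul]
    exact congrArg _ (Subtype.ext (by
      change b ^ k • b ^ (l + k) • y = b ^ (l + k) • z.1
      rw [hl, smul_smul, ← pow_add, add_comm k l]))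

lemma ker_addψ (i : ℕ) :
    LinearMap.ker (addψ J a b i) = (LinearMap.range
      (LocalizedModule.mkLinearMap (Submonoid.powers b) ((localCohomology a i).obj M : Type u))).comap (addρ J a b i) := by
  ext y
  rw [LinearMap.mem_ker, addψ, LinearMap.comp_apply, tcls_eq_zero_iff, Submodule.mem_comap]
  constructor
  · rintro ⟨e, he, hde⟩
    have hz : y.1 - e ∈ ZI a J.cocomplex i :=
      ⟨sub_mem y.2.1 (torsionSub_mono' le_sup_left _ he), LinearMap.mem_ker.mpr (by
        rw [map_sub, hde]; exact sub_self _)⟩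
    obtain ⟨k, hk⟩ := addV_exists_pow J a b i y
    obtain ⟨k', hk'⟩ := exists_pow_smul_of_mem_torsion_sup a b he
    refine ⟨tcls J a i ⟨_, hz⟩, ?_⟩
    change LocalizedModule.mk _ 1 = addρFun J a b i y
    rw [addρFun_eq J a b i y k hk]
    refine LocalizedModule.mk_eq.mpr ⟨⟨b ^ k', pow_mem (Submonoid.mem_powers b) _⟩, ?_⟩
    simp only [one_smul, Submonoid.smul_def, ← map_smul]
    exact congrArg _ (Subtype.ext (by
      change b ^ k' • b ^ k • (y.1 - e) = b ^ k' • b ^ k • y.1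
      rw [smul_sub, smul_sub, smul_comm (b ^ k') (b ^ k) e, hk', smul_zero, sub_zero]))
  · rintro ⟨h, hh⟩
    obtain ⟨z, rfl⟩ := tcls_surjective J a i h
    obtain ⟨k, hk⟩ := addV_exists_pow J a b i y
    change LocalizedModule.mk _ 1 = addρFun J a b i y at hh
    rw [addρFun_eq J a b i y k hk] at hh
    obtain ⟨⟨_, l, rfl⟩, hl⟩ := LocalizedModule.mk_eq.mp hh
    simp only [one_smul, Submonoid.smul_def] at hl
    rw [← map_smul, ← map_smul, ← map_smul, ← sub_eq_zero, ← map_sub] at hl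
    have key : ∀ w : J.cocomplex.X i, b ^ l • b ^ k • z.1 - b ^ l • b ^ k • y.1 = w →
        b ^ (l + k) • (z.1 - y.1) = w := by
      intro w hw
      rw [pow_add, mul_smul, smul_sub, smul_sub]; exact hw
    cases i with
    | zero =>
      have h0 := key 0 (congrArg Subtype.val (tcls_zero_injective J _ (hl.trans (map_zero _).symm)))
      refine ⟨y.1 - z.1, mem_torsion_sup a b (sub_mem y.2.1 z.2.1) (k := l + k) ?_, ?_⟩
      · rw [← neg_sub, smul_neg, h0, neg_zero]
      · change _ = (J.cocomplex.d 0 (0 + 1)).hom y.1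
        rw [map_sub, show (J.cocomplex.d 0 (0 + 1)).hom z.1 = 0 from z.2.2, sub_zero]
    | succ p =>
      obtain ⟨w, hw, hdw⟩ := (tcls_eq_zero_iff J a p _).mp hl
      have h0 := key _ hdw.symm
      obtain ⟨w', hw', l', hl'⟩ := exists_divide J a b p (l + k) hw
      refine ⟨y.1 - z.1 + (J.cocomplex.d p (p + 1)).hom w',
        mem_torsion_sup a b (add_mem (sub_mem y.2.1 z.2.1) (DRing.map_mem_torsionSub _ _ hw')) (k := l' + (l + k)) ?_, ?_⟩
      · rw [pow_add, mul_smul, smul_add (b ^ (l + k)), ← neg_sub z.1 y.1, smul_neg, h0, ← map_smul,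
          neg_add_eq_sub, ← map_sub, ← map_smul, hl', map_zero]
      · change _ = (J.cocomplex.d (p + 1) (p + 1 + 1)).hom y.1
        rw [map_add, map_sub, show (J.cocomplex.d (p + 1) (p + 1 + 1)).hom z.1 = 0 from z.2.2, sub_zero,
          show (J.cocomplex.d (p + 1) (p + 1 + 1)).hom ((J.cocomplex.d p (p + 1)).hom w') = 0 from
            congr($(J.cocomplex.d_comp_d p (p + 1) (p + 1 + 1)).hom w'), add_zero]

/-- The kernel of `H^(i+1)_c → H^(i+1)_a` is the cokernel of `H^i_a → (H^i_a)_b`. -/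
noncomputable def kerEquivCoker (i : ℕ) :
    (LocalizedModule (Submonoid.powers b) ((localCohomology a i).obj M : Type u) ⧸ LinearMap.range
      (LocalizedModule.mkLinearMap (Submonoid.powers b) ((localCohomology a i).obj M : Type u))) ≃ₗ[R]
      LinearMap.ker ((Dual2.HmapOfLE (le_sup_left : a ≤ (a ⊔ Ideal.span {b})) (i + 1)).app M).hom :=
  let q := (LinearMap.range
      (LocalizedModule.mkLinearMap (Submonoid.powers b) ((localCohomology a i).obj M : Type u))).mkQ ∘ₗ addρ J a b i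
  (q.quotKerEquivOfSurjective ((Submodule.mkQ_surjective _).comp (addρ_surjective J a b i))).symm ≪≫ₗ
    Submodule.quotEquivOfEq _ _ (by rw [LinearMap.ker_comp, Submodule.ker_mkQ, ← ker_addψ]) ≪≫ₗ
    (addψ J a b i).quotKerEquivRange ≪≫ₗ LinearEquiv.ofEq _ _ (range_addψ J a b i)

/-- The cokernel of a localisation map does not depend on the model. -/
noncomputable def cokerEquiv {N N' : Type u} [AddCommGroup N] [Module R N] [AddCommGroup N'] [Module R N']
    (S : Submonoid R) (f : N →ₗ[R] N') [IsLocalizedModule S f] :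
    (LocalizedModule S N ⧸ LinearMap.range (LocalizedModule.mkLinearMap S N)) ≃ₗ[R] (N' ⧸ LinearMap.range f) :=
  Submodule.Quotient.equiv _ _ (IsLocalizedModule.iso S f) (by
    rw [← LinearMap.range_comp]
    congr 1
    ext x
    simp [IsLocalizedModule.iso_apply_mk])

omit [IsNoetherianRing R] in
lemma exists_pow_smul_eq_zero_fg {T : Type u} [AddCommGroup T] [Module R T]
    (h : ∀ x : T, ∃ k : ℕ, b ^ k • x = 0) (P : Submodule R T) (hP : P.FG) :
    ∃ k : ℕ, ∀ x ∈ P, b ^ k • x = 0 := by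
  classical
  obtain ⟨s, rfl⟩ := hP
  choose f hf using h
  refine ⟨s.sup f, fun x hx => ?_⟩
  refine (Submodule.span_le (p := LinearMap.ker (LinearMap.lsmul R T (b ^ s.sup f)))).mpr ?_ hx
  intro y hy
  obtain ⟨t, ht⟩ := Nat.exists_eq_add_of_le (Finset.le_sup (f := f) hy)
  rw [SetLike.mem_coe, LinearMap.mem_ker, LinearMap.lsmul_apply, ht, add_comm, pow_add, mul_smul, hf, smul_zero]

lemma exists_pow_smul_H {T : ModuleCat.{u} R} (h : ∀ x : T, ∃ k : ℕ, b ^ k • x = 0) (i : ℕ)
    (z : (localCohomology a i).obj T) : ∃ k : ℕ, b ^ k • z = 0 := by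
  obtain ⟨P, hP, z₀, rfl⟩ := exists_fg_preimage a i T z
  obtain ⟨k, hk⟩ := exists_pow_smul_eq_zero_fg b h P hP
  refine ⟨k, ?_⟩
  rw [← map_smul, ← map_smul_id a i (ModuleCat.of R P) (b ^ k) z₀,
    show b ^ k • 𝟙 (ModuleCat.of R P) = 0 from by ext x; exact hk _ x.2,
    show (localCohomology a i).map (0 : ModuleCat.of R P ⟶ ModuleCat.of R P) = 0 from Functor.map_zero _ _ _]
  exact map_zero _

lemma h_map_injective_zero {N N' : ModuleCat.{u} R} (f : N ⟶ N') (hf : Function.Injective f.hom)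
    (z : (localCohomology a 0).obj N) (hz : ((localCohomology a 0).map f).hom z = 0) : z = 0 := by
  apply h0_injective
  apply hf
  rw [map_zero, map_zero, ← h0_map, hz, map_zero]

/-- `H^i_a` commutes with localisation at `b`. -/
theorem isLocalizedModule_H (M : Type u) [AddCommGroup M] [Module R M] (i : ℕ) :
    IsLocalizedModule (Submonoid.powers b)
      ((localCohomology a i).map (ModuleCat.ofHom (LocalizedModule.mkLinearMap (Submonoid.powers b) M))).hom := by
  let L := LocalizedModule (Submonoid.powers b) M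
  let f := LocalizedModule.mkLinearMap (Submonoid.powers b) M
  let P := LinearMap.range f
  have hS₁ := subSeq_shortExact (R := R) M (LinearMap.ker f)
  have hS₂ := subSeq_shortExact (R := R) L P
  let e : ModuleCat.of R (M ⧸ LinearMap.ker f) ⟶ ModuleCat.of R P := ModuleCat.ofHom f.quotKerEquivRange.toLinearMap
  have he : IsIso e := f.quotKerEquivRange.toModuleIso.isIso_hom
  have hfac : ModuleCat.ofHom f = (subSeq M (LinearMap.ker f)).g ≫ e ≫ (subSeq L P).f := by
    ext x; rfl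
  have hK : ∀ x : (subSeq M (LinearMap.ker f)).X₁, ∃ k : ℕ, b ^ k • x = 0 := by
    rintro ⟨x, hx⟩
    obtain ⟨⟨_, k, rfl⟩, hk⟩ := (IsLocalizedModule.eq_zero_iff (Submonoid.powers b) f).mp hx
    exact ⟨k, Subtype.ext hk⟩
  have hC : ∀ x : (subSeq L P).X₃, ∃ k : ℕ, b ^ k • x = 0 := by
    intro x
    obtain ⟨x, rfl⟩ := Submodule.Quotient.mk_surjective P x
    obtain ⟨⟨m, ⟨_, k, rfl⟩⟩, hmk⟩ := IsLocalizedModule.surj (Submonoid.powers b) f x
    exact ⟨k, (Submodule.Quotient.mk_eq_zero P).mpr ⟨m, hmk.symm⟩⟩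
  refine ⟨?_, ?_, ?_⟩
  · rintro ⟨_, k, rfl⟩
    let φ : ModuleCat.of R L ≅ ModuleCat.of R L :=
      (LinearEquiv.ofBijective (algebraMap R (Module.End R L) (b ^ k))
        ((Module.End.isUnit_iff _).mp
          (IsLocalizedModule.map_units f (⟨b ^ k, pow_mem (Submonoid.mem_powers b) k⟩ : Submonoid.powers b)))).toModuleIso
    have hφ : φ.hom = b ^ k • 𝟙 (ModuleCat.of R L) := by ext x; rfl
    rw [Module.End.isUnit_iff]
    have : Function.Bijective ((localCohomology a i).map φ.hom).hom :=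
      ConcreteCategory.bijective_of_isIso ((localCohomology a i).map φ.hom)
    rw [hφ] at this
    convert this using 1
    funext z
    exact (map_smul_id a i (ModuleCat.of R L) (b ^ k) z).symm
  · intro y
    obtain ⟨k, hk⟩ := exists_pow_smul_H a b hC i (((localCohomology a i).map (subSeq L P).g).hom y)
    rw [← map_smul] at hk
    obtain ⟨x', hx'⟩ := exists_of_map_g_eq_zero a hS₂ i _ hk
    obtain ⟨x, hx⟩ : ∃ x, ((localCohomology a i).map e).hom x = x' :=
      (ConcreteCategory.bijective_of_isIso ((localCohomology a i).map e)).2 x'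
    obtain ⟨l, hl⟩ := exists_pow_smul_H a b hK (i + 1) (δ a hS₁ i x)
    rw [← map_smul] at hl
    obtain ⟨z, hz⟩ := exists_of_δ_eq_zero a hS₁ i _ hl
    refine ⟨⟨z, ⟨b ^ (l + k), pow_mem (Submonoid.mem_powers b) _⟩⟩, ?_⟩
    change b ^ (l + k) • y = ((localCohomology a i).map (ModuleCat.ofHom f)).hom z
    rw [hfac, Functor.map_comp, Functor.map_comp, ModuleCat.hom_comp, ModuleCat.hom_comp, LinearMap.comp_apply,
      LinearMap.comp_apply, hz, map_smul, hx, map_smul, hx', smul_smul, ← pow_add]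
  · intro x₁ x₂ h
    suffices ∃ n : ℕ, b ^ n • (x₁ - x₂) = 0 by
      obtain ⟨n, hn⟩ := this
      exact ⟨⟨b ^ n, pow_mem (Submonoid.mem_powers b) n⟩, by rwa [smul_sub, sub_eq_zero] at hn⟩
    have h0 : ((localCohomology a i).map (ModuleCat.ofHom f)).hom (x₁ - x₂) = 0 := by
      rw [map_sub, sub_eq_zero]; exact h
    rw [hfac, Functor.map_comp, Functor.map_comp, ModuleCat.hom_comp, ModuleCat.hom_comp, LinearMap.comp_apply,
      LinearMap.comp_apply] at h0
    set y := ((localCohomology a i).map (subSeq M (LinearMap.ker f)).g).hom (x₁ - x₂) with hy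
    obtain ⟨k, hk⟩ : ∃ k : ℕ, b ^ k • ((localCohomology a i).map e).hom y = 0 := by
      cases i with
      | zero =>
        exact ⟨0, by rw [pow_zero, one_smul]; exact h_map_injective_zero a _ Subtype.val_injective _ h0⟩
      | succ p =>
        obtain ⟨w, hw⟩ := exists_of_map_f_eq_zero a hS₂ p _ h0
        obtain ⟨k, hk⟩ := exists_pow_smul_H a b hC p w
        exact ⟨k, by rw [← hw, ← map_smul, hk, map_zero]⟩
    rw [← map_smul] at hk
    have hy0 : b ^ k • y = 0 :=
      (ConcreteCategory.bijective_of_isIso ((localCohomology a i).map e)).1 (hk.trans (map_zero _).symm)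
    rw [hy, ← map_smul] at hy0
    obtain ⟨u, hu⟩ := exists_of_map_g_eq_zero a hS₁ i _ hy0
    obtain ⟨l, hl⟩ := exists_pow_smul_H a b hK i u
    refine ⟨l + k, ?_⟩
    rw [pow_add, mul_smul, ← hu, ← map_smul, hl, map_zero]

/-- `H^0_⊥(M) = M`. -/
noncomputable def h0botEquiv (M : Type u) [AddCommGroup M] [Module R M] :
    ((localCohomology (⊥ : Ideal R) 0).obj (ModuleCat.of R M) : Type u) ≃ₗ[R] M :=
  h0Equiv ⊥ (ModuleCat.of R M) ≪≫ₗ LinearEquiv.ofTop _ (torsionSub_eq_top fun x => ⟨1, fun r hr => by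
    rw [pow_one, Ideal.mem_bot] at hr; rw [hr, zero_smul]⟩)

/-- `H^1_(b)(M)` is the cokernel of `M → M_b`. -/
theorem nonempty_H_one_equiv (M : Type u) [AddCommGroup M] [Module R M] :
    Nonempty ((LocalizedModule (Submonoid.powers b) M ⧸
      LinearMap.range (LocalizedModule.mkLinearMap (Submonoid.powers b) M)) ≃ₗ[R]
      ((localCohomology (Ideal.span {b}) 1).obj (ModuleCat.of R M) : Type u)) := by
  let f := LocalizedModule.mkLinearMap (Submonoid.powers b) M
  let e := h0botEquiv (R := R) M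
  let g := f ∘ₗ e.toLinearMap
  haveI : IsLocalizedModule (Submonoid.powers b) g := IsLocalizedModule.of_linearEquiv_right _ f e
  have hg : LinearMap.range g = LinearMap.range f := by
    rw [LinearMap.range_comp, LinearEquiv.range, Submodule.map_top]
  haveI : Subsingleton ((localCohomology (⊥ : Ideal R) 1).obj (ModuleCat.of R M) : Type u) :=
    subsingleton_of_torsion _ (fun x => ⟨1, fun r hr => by
      rw [pow_one, Ideal.mem_bot] at hr; rw [hr, zero_smul]⟩) 0
  have htop : LinearMap.ker ((Dual2.HmapOfLE (le_sup_left : (⊥ : Ideal R) ≤ ⊥ ⊔ Ideal.span {b}) (0 + 1)).app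
      (ModuleCat.of R M)).hom = ⊤ := by
    ext x
    simp only [LinearMap.mem_ker, Submodule.mem_top, iff_true]
    exact Subsingleton.elim _ _
  rw [← hg]
  rw [← bot_sup_eq (Ideal.span ({b} : Set R))]
  exact ⟨(cokerEquiv _ g).symm ≪≫ₗ kerEquivCoker (injectiveResolution (ModuleCat.of R M)) ⊥ b 0 ≪≫ₗ
    LinearEquiv.ofTop _ htop⟩

end Groth.Agent.LocCohLib
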