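import Mathlib
import Groth.Agent.LocCohLib.Basic
import Groth.Agent.LocCohLib.MaxIdeal

/-! `Ext^n(F, G) = Hom(F, H^n_J(G))` for finite `F` killed by a power of `J`, given the vanishing one degree lower. -/

open CategoryTheory Limits

namespace Groth.Agent.LocCohLib

universe u

variable {R : Type u} [CommRing R] (J : Ideal R)

/-- `J^k` kills `F`. -/
def KilledBy (k : ℕ) (F : Type u) [AddCommGroup F] [Module R F] : Prop :=
  ∀ a ∈ J ^ k, ∀ x : F, a • x = 0

variable {J}

lemma KilledBy.mono {k m : ℕ} (h : k ≤ m) {F : Type u} [AddCommGroup F] [Module R F] (hF : KilledBy J k F) :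
    KilledBy J m F := fun a ha x => hF a (Ideal.pow_le_pow_right h ha) x

lemma exists_killedBy [IsNoetherianRing R] (F : Type u) [AddCommGroup F] [Module R F] [Module.Finite R F]
    (h : Module.support R F ⊆ PrimeSpectrum.zeroLocus (J : Set R)) : ∃ k, KilledBy J k F := by
  have hle : J ≤ (Module.annihilator R F).radical := by
    rw [Ideal.radical_eq_sInf, le_sInf_iff]
    rintro Q ⟨hQ, hQp⟩
    exact h (Module.mem_support_iff_of_finite.mpr hQ : (⟨Q, hQp⟩ : PrimeSpectrum R) ∈ Module.support R F)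
  obtain ⟨k, hk⟩ := Ideal.exists_pow_le_of_le_radical_of_fg hle (IsNoetherian.noetherian _)
  exact ⟨k, fun a ha => Module.mem_annihilator.mp (hk ha)⟩

lemma killedBy_quot (k : ℕ) : KilledBy J k (R ⧸ J ^ k) := fun a ha x => by
  obtain ⟨y, rfl⟩ := Ideal.Quotient.mk_surjective x
  rw [Algebra.smul_def, Ideal.Quotient.algebraMap_eq, Ideal.Quotient.eq_zero_iff_mem.mpr ha, zero_mul]

lemma support_subset_of_killedBy {k : ℕ} {F : Type u} [AddCommGroup F] [Module R F] [Module.Finite R F]
    (hF : KilledBy J k F) : Module.support R F ⊆ PrimeSpectrum.zeroLocus (J : Set R) := fun p hp a ha =>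
  p.isPrime.mem_of_pow_mem k
    (Module.mem_support_iff_of_finite.mp hp (Module.mem_annihilator.mpr (hF _ (Ideal.pow_mem_pow ha k))))

variable (J) in
/-- No `Ext^(n-1)` from finite modules supported in `V(J)`. -/
def Van (G : ModuleCat.{u} R) (n : ℕ) : Prop :=
  ∀ (F : Type u) [AddCommGroup F] [Module R F], Module.Finite R F → (∃ k, KilledBy J k F) →
    ∀ i : ℕ, i + 1 = n → Subsingleton (Abelian.Ext.{u} (ModuleCat.of R F) G i)

section

variable {G : ModuleCat.{u} R} {n : ℕ} [IsNoetherianRing R] (hV : Van J G n)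

include hV in
lemma precomp_injective {P F : Type u} [AddCommGroup P] [Module R P] [Module.Finite R P] [AddCommGroup F]
    [Module R F] (k : ℕ) (hP : KilledBy J k P) (p : P →ₗ[R] F) (hp : Function.Surjective p)
    (y : Abelian.Ext.{u} (ModuleCat.of R F) G n)
    (hy : (Abelian.Ext.mk₀ (ModuleCat.ofHom p)).comp y (zero_add n) = 0) : y = 0 := by
  cases n with
  | zero =>
    obtain ⟨g, rfl⟩ := Abelian.Ext.addEquiv₀.symm.surjective y
    have h2 : ModuleCat.ofHom p ≫ g = 0 := (Abelian.Ext.mk₀_bijective _ _).1 (by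
      rw [← Abelian.Ext.mk₀_comp_mk₀, Abelian.Ext.mk₀_zero]; exact hy)
    have hg : g = 0 := ModuleCat.hom_ext (LinearMap.ext fun z => by
      obtain ⟨w, rfl⟩ := hp z
      exact congr($(h2).hom w))
    rw [hg, map_zero]
  | succ q =>
    let K := LinearMap.ker p
    haveI : Module.Finite R K := Module.Finite.of_fg (IsNoetherian.noetherian K)
    let T : ShortComplex (ModuleCat.{u} R) := ShortComplex.mk (ModuleCat.ofHom K.subtype) (ModuleCat.ofHom p)
      (by ext x; exact x.2)
    have hT : T.ShortExact :=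
      { exact := (ShortComplex.moduleCat_exact_iff _).mpr fun x hx => ⟨⟨x, hx⟩, rfl⟩
        mono_f := (ModuleCat.mono_iff_injective _).mpr Subtype.val_injective
        epi_g := (ModuleCat.epi_iff_surjective _).mpr hp }
    obtain ⟨z, hz⟩ := Abelian.Ext.contravariant_sequence_exact₃ hT G y hy (show 1 + q = q + 1 by omega)
    haveI : Subsingleton (Abelian.Ext.{u} T.X₁ G q) :=
      hV K inferInstance ⟨k, fun a ha x => Subtype.ext (hP a ha x.1)⟩ q rfl
    rw [← hz, Subsingleton.elim z 0, Abelian.Ext.comp_zero]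

include hV in
lemma ι_injective (k : ℕ) (x : Abelian.Ext.{u} (quot J k) G n) (hx : ι J n G k x = 0) : x = 0 := by
  obtain ⟨m, h, hm⟩ := (ι_eq_zero_iff x).mp hx
  exact precomp_injective hV m (killedBy_quot m) (qmap J h).hom
    (fun z => by
      obtain ⟨w, rfl⟩ := Ideal.Quotient.mk_surjective z
      exact ⟨Ideal.Quotient.mk _ w, qmap_mk J h w⟩) x hm

end

section hom

variable (J) in
/-- The map `R/J^k → F` sending `1` to `f`. -/
noncomputable def φel {F : Type u} [AddCommGroup F] [Module R F] (k : ℕ) (hF : KilledBy J k F) (f : F) :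
    quot J k ⟶ ModuleCat.of R F :=
  ModuleCat.ofHom (Submodule.liftQ (J ^ k) (LinearMap.toSpanSingleton R F f) fun a ha =>
    LinearMap.mem_ker.mpr (hF a ha f))

variable {F F' : Type u} [AddCommGroup F] [Module R F] [AddCommGroup F'] [Module R F'] {k : ℕ}

lemma quot_hom_ext {X : ModuleCat.{u} R} {φ ψ : quot J k ⟶ X} (h : φ.hom 1 = ψ.hom 1) : φ = ψ := by
  refine ModuleCat.hom_ext (LinearMap.ext fun z => ?_)
  obtain ⟨r, rfl⟩ := Ideal.Quotient.mk_surjective z
  rw [show (Ideal.Quotient.mk (J ^ k) r : R ⧸ J ^ k) = r • 1 from by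
    rw [Algebra.smul_def, Ideal.Quotient.algebraMap_eq, mul_one], map_smul, map_smul, h]

lemma φel_one (hF : KilledBy J k F) (f : F) : (φel J k hF f).hom 1 = f :=
  one_smul R f

variable (G : ModuleCat.{u} R) (n : ℕ)

/-- `x ↦ (f ↦ class of f^* x)`. -/
noncomputable def Φ (hF : KilledBy J k F) :
    Abelian.Ext.{u} (ModuleCat.of R F) G n →ₗ[R] F →ₗ[R] ((localCohomology J n).obj G : Type u) where
  toFun x :=
    { toFun := fun f => ι J n G k ((Abelian.Ext.mk₀ (φel J k hF f)).comp x (zero_add n))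
      map_add' := fun f f' => by
        rw [show φel J k hF (f + f') = φel J k hF f + φel J k hF f' from quot_hom_ext (by
          rw [φel_one, ModuleCat.hom_add, LinearMap.add_apply, φel_one, φel_one]),
          Abelian.Ext.mk₀_add, Abelian.Ext.add_comp, map_add]
      map_smul' := fun r f => by
        rw [show φel J k hF (r • f) = r • φel J k hF f from quot_hom_ext (by
          rw [φel_one, ModuleCat.hom_smul, LinearMap.smul_apply, φel_one]),
          Abelian.Ext.mk₀_smul, Abelian.Ext.smul_comp, map_smul, RingHom.id_apply] }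
  map_add' x y := LinearMap.ext fun f => by
    change ι J n G k ((Abelian.Ext.mk₀ (φel J k hF f)).comp (x + y) (zero_add n)) = _
    rw [Abelian.Ext.comp_add, map_add]; rfl
  map_smul' r x := LinearMap.ext fun f => by
    change ι J n G k ((Abelian.Ext.mk₀ (φel J k hF f)).comp (r • x) (zero_add n)) = _
    rw [Abelian.Ext.comp_smul, map_smul]; rfl

lemma Φ_apply (hF : KilledBy J k F) (x : Abelian.Ext.{u} (ModuleCat.of R F) G n) (f : F) :
    Φ G n hF x f = ι J n G k ((Abelian.Ext.mk₀ (φel J k hF f)).comp x (zero_add n)) := rfl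

lemma Φ_natural (hF : KilledBy J k F) (hF' : KilledBy J k F') (g : F' →ₗ[R] F)
    (x : Abelian.Ext.{u} (ModuleCat.of R F) G n) :
    Φ G n hF' ((Abelian.Ext.mk₀ (ModuleCat.ofHom g)).comp x (zero_add n)) = Φ G n hF x ∘ₗ g := by
  refine LinearMap.ext fun f => ?_
  rw [LinearMap.comp_apply, Φ_apply, Φ_apply, Abelian.Ext.mk₀_comp_mk₀_assoc]
  rw [show φel J k hF' f ≫ ModuleCat.ofHom g = φel J k hF (g f) from quot_hom_ext (by
    rw [φel_one, ModuleCat.hom_comp, LinearMap.comp_apply, φel_one]; rfl)]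

lemma Φ_le {m : ℕ} (h : k ≤ m) (hF : KilledBy J k F) (x : Abelian.Ext.{u} (ModuleCat.of R F) G n) :
    Φ G n (hF.mono h) x = Φ G n hF x := by
  refine LinearMap.ext fun f => ?_
  rw [Φ_apply, Φ_apply, ← ι_comp h ((Abelian.Ext.mk₀ (φel J k hF f)).comp x (zero_add n)),
    Abelian.Ext.mk₀_comp_mk₀_assoc]
  rw [show qmap J h ≫ φel J k hF f = φel J m (hF.mono h) f from quot_hom_ext (by
    rw [φel_one, ModuleCat.hom_comp, LinearMap.comp_apply,
      show (qmap J h).hom 1 = 1 from qmap_mk J h 1, φel_one])]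

end hom

section bij

variable {G : ModuleCat.{u} R} {n : ℕ} [IsNoetherianRing R] (hV : Van J G n)
variable {F : Type u} [AddCommGroup F] [Module R F] {k : ℕ}

/-- The coordinate maps of `(R/J^k)^r`. -/
noncomputable def coord (J : Ideal R) (k r : ℕ) (a : Fin r) : (Fin r → R ⧸ J ^ k) →ₗ[R] R ⧸ J ^ k :=
  LinearMap.proj a

lemma killedBy_pi (k r : ℕ) : KilledBy J k (Fin r → R ⧸ J ^ k) := fun a ha x =>
  funext fun j => killedBy_quot k a ha (x j)

lemma Φ_injective_pi (k r : ℕ) (hV : Van J G n) (x : Abelian.Ext.{u} (ModuleCat.of R (Fin r → R ⧸ J ^ k)) G n)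
    (hx : Φ G n (killedBy_pi k r) x = 0) : x = 0 := by
  classical
  have hid : (𝟙 (ModuleCat.of R (Fin r → R ⧸ J ^ k)) : _ ⟶ _) =
      ∑ a, ModuleCat.ofHom (coord J k r a) ≫ φel J k (killedBy_pi k r) (Pi.single a 1) := by
    refine ModuleCat.hom_ext (LinearMap.ext fun v => ?_)
    rw [ModuleCat.hom_sum, LinearMap.sum_apply, ModuleCat.hom_id, LinearMap.id_apply]
    funext b
    rw [Finset.sum_apply, Finset.sum_eq_single b]
    · obtain ⟨c, hc⟩ := Ideal.Quotient.mk_surjective (v b)
      change v b = ((φel J k (killedBy_pi k r) (Pi.single b 1)).hom (v b)) b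
      rw [← hc]
      change _ = (c • (Pi.single b 1 : Fin r → R ⧸ J ^ k)) b
      rw [Pi.smul_apply, Pi.single_eq_same, Algebra.smul_def, mul_one]
      rfl
    · intro a _ hab
      obtain ⟨c, hc⟩ := Ideal.Quotient.mk_surjective (v a)
      change ((φel J k (killedBy_pi k r) (Pi.single a 1)).hom (v a)) b = 0
      rw [← hc]
      change (c • (Pi.single a 1 : Fin r → R ⧸ J ^ k)) b = 0
      rw [Pi.smul_apply, Pi.single_eq_of_ne (Ne.symm hab), smul_zero]
    · exact fun h => absurd (Finset.mem_univ b) h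
  rw [← Abelian.Ext.mk₀_id_comp x, hid, Abelian.Ext.mk₀_sum, Abelian.Ext.sum_comp]
  refine Finset.sum_eq_zero fun a _ => ?_
  rw [← Abelian.Ext.mk₀_comp_mk₀_assoc,
    ι_injective hV k _ (LinearMap.congr_fun hx (Pi.single a 1)), Abelian.Ext.comp_zero]

variable (F) in
/-- A cover of `F` by `(R/J^k)^r`. -/
lemma exists_cover [Module.Finite R F] (hF : KilledBy J k F) :
    ∃ (r : ℕ) (p : (Fin r → R ⧸ J ^ k) →ₗ[R] F), Function.Surjective p := by
  classical
  obtain ⟨r, q, hq⟩ := Module.Finite.exists_fin' R F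
  refine ⟨r, ∑ a, (φel J k hF (q (Pi.single a 1))).hom ∘ₗ coord J k r a, fun y => ?_⟩
  obtain ⟨v, rfl⟩ := hq y
  refine ⟨fun a => Ideal.Quotient.mk (J ^ k) (v a), ?_⟩
  rw [LinearMap.sum_apply]
  conv_rhs => rw [pi_eq_sum_univ' v, map_sum]
  refine Finset.sum_congr rfl fun a _ => ?_
  rw [map_smul]
  rfl

include hV in
theorem Φ_injective [Module.Finite R F] (hF : KilledBy J k F) : Function.Injective (Φ G n hF) := by
  rw [injective_iff_map_eq_zero]
  intro x hx
  obtain ⟨r, p, hp⟩ := exists_cover F hF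
  refine precomp_injective hV k (killedBy_pi k r) p hp x (Φ_injective_pi k r hV _ ?_)
  rw [Φ_natural G n hF (killedBy_pi k r) p x, hx, LinearMap.zero_comp]

include hV in
theorem Φ_surjective [Module.Finite R F] (hF : KilledBy J k F) : Function.Surjective (Φ G n hF) := by
  classical
  intro h
  obtain ⟨r, q, hq⟩ := Module.Finite.exists_fin' R F
  choose d hd x hx using fun a : Fin r => exists_ι_ge (h (q (Pi.single a 1))) k
  let m := k + Finset.univ.sup d
  have hdm : ∀ a, d a ≤ m := fun a => le_add_left (Finset.le_sup (Finset.mem_univ a))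
  have hFm : KilledBy J m F := hF.mono (Nat.le_add_right k _)
  let xx : Abelian.Ext.{u} (ModuleCat.of R (Fin r → R ⧸ J ^ m)) G n := ∑ a,
    (Abelian.Ext.mk₀ (ModuleCat.ofHom (coord J m r a))).comp
      ((Abelian.Ext.mk₀ (qmap J (hdm a))).comp (x a) (zero_add n)) (zero_add n)
  let p : (Fin r → R ⧸ J ^ m) →ₗ[R] F := ∑ a, (φel J m hFm (q (Pi.single a 1))).hom ∘ₗ coord J m r a
  have hpsingle : ∀ b : Fin r, p (Pi.single b 1) = q (Pi.single b 1) := fun b => by
    rw [LinearMap.sum_apply, Finset.sum_eq_single b]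
    · change (φel J m hFm (q (Pi.single b 1))).hom ((Pi.single b 1 : Fin r → R ⧸ J ^ m) b) = _
      rw [Pi.single_eq_same, φel_one]
    · intro a _ hab
      change (φel J m hFm (q (Pi.single a 1))).hom ((Pi.single b 1 : Fin r → R ⧸ J ^ m) a) = _
      rw [Pi.single_eq_of_ne hab, map_zero]
    · exact fun h => absurd (Finset.mem_univ b) h
  have hp : Function.Surjective p := fun y => by
    obtain ⟨v, rfl⟩ := hq y
    refine ⟨∑ a, v a • Pi.single a 1, ?_⟩
    rw [map_sum]
    conv_rhs => rw [pi_eq_sum_univ' v, map_sum]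
    exact Finset.sum_congr rfl fun a _ => by rw [map_smul, map_smul, hpsingle]
  have hΦx : Φ G n (killedBy_pi m r) xx = h ∘ₗ p := by
    have hgen : ∀ b : Fin r, Φ G n (killedBy_pi m r) xx (Pi.single b 1) = h (p (Pi.single b 1)) := fun b => by
      rw [hpsingle, ← hx b, Φ_apply, ← ι_comp (hdm b) (x b), Abelian.Ext.comp_sum]
      congr 1
      rw [Finset.sum_eq_single b]
      · rw [Abelian.Ext.mk₀_comp_mk₀_assoc,
          show φel J m (killedBy_pi m r) (Pi.single b 1) ≫ ModuleCat.ofHom (coord J m r b) = 𝟙 _ from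
            quot_hom_ext (by
              rw [ModuleCat.hom_comp, LinearMap.comp_apply, φel_one, ModuleCat.hom_id, LinearMap.id_apply]
              exact Pi.single_eq_same b 1),
          Abelian.Ext.mk₀_id_comp]
      · intro a _ hab
        rw [Abelian.Ext.mk₀_comp_mk₀_assoc,
          show φel J m (killedBy_pi m r) (Pi.single b 1) ≫ ModuleCat.ofHom (coord J m r a) = 0 from
            quot_hom_ext (by
              rw [ModuleCat.hom_comp, LinearMap.comp_apply, φel_one, ModuleCat.hom_zero, LinearMap.zero_apply]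
              exact Pi.single_eq_of_ne hab 1),
          Abelian.Ext.mk₀_zero, Abelian.Ext.zero_comp]
      · exact fun h => absurd (Finset.mem_univ b) h
    refine LinearMap.ext fun v => ?_
    choose c hc using fun a => Ideal.Quotient.mk_surjective (v a)
    have hv : v = ∑ a, c a • (Pi.single a 1 : Fin r → R ⧸ J ^ m) := funext fun b => by
      rw [Finset.sum_apply, Finset.sum_eq_single b]
      · rw [Pi.smul_apply, Pi.single_eq_same, Algebra.smul_def, mul_one, Ideal.Quotient.algebraMap_eq, hc]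
      · exact fun a _ hab => by rw [Pi.smul_apply, Pi.single_eq_of_ne (Ne.symm hab), smul_zero]
      · exact fun h => absurd (Finset.mem_univ b) h
    generalize Φ G n (killedBy_pi m r) xx = X at hgen ⊢
    rw [LinearMap.comp_apply, hv, map_sum, map_sum, map_sum]
    exact Finset.sum_congr rfl fun a _ => by rw [map_smul, map_smul, map_smul, hgen]
  let K := LinearMap.ker p
  haveI : Module.Finite R K := Module.Finite.of_fg (IsNoetherian.noetherian K)
  have hK : KilledBy J m K := fun a ha y => Subtype.ext (killedBy_pi m r a ha y.1)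
  have hxK : (Abelian.Ext.mk₀ (ModuleCat.ofHom K.subtype)).comp xx (zero_add n) = 0 := by
    refine Φ_injective hV hK ?_
    rw [Φ_natural G n (killedBy_pi m r) hK K.subtype xx, hΦx, map_zero, LinearMap.comp_assoc]
    exact LinearMap.ext fun y => by
      rw [LinearMap.comp_apply, LinearMap.comp_apply, Submodule.subtype_apply, LinearMap.mem_ker.mp y.2, map_zero]
      rfl
  let T : ShortComplex (ModuleCat.{u} R) := ShortComplex.mk (ModuleCat.ofHom K.subtype) (ModuleCat.ofHom p)
    (by ext y; exact y.2)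
  have hT : T.ShortExact :=
    { exact := (ShortComplex.moduleCat_exact_iff _).mpr fun y hy => ⟨⟨y, hy⟩, rfl⟩
      mono_f := (ModuleCat.mono_iff_injective _).mpr Subtype.val_injective
      epi_g := (ModuleCat.epi_iff_surjective _).mpr hp }
  obtain ⟨y, hy⟩ := Abelian.Ext.contravariant_sequence_exact₂ hT G xx hxK
  refine ⟨y, ?_⟩
  have h1 : Φ G n hFm y ∘ₗ p = h ∘ₗ p := by
    rw [← Φ_natural G n hFm (killedBy_pi m r) p y, ← hΦx]
    exact congrArg _ hy
  rw [← Φ_le G n (Nat.le_add_right k _) hF y]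
  exact LinearMap.ext fun z => by
    obtain ⟨w, rfl⟩ := hp z
    exact LinearMap.congr_fun h1 w

include hV in
/-- `Ext^n(F, G) ≅ Hom(F, H^n_J(G))`. -/
theorem nonempty_ext_equiv_hom [Module.Finite R F] (hF : KilledBy J k F) :
    Nonempty (Abelian.Ext.{u} (ModuleCat.of R F) G n ≃ₗ[R] (F →ₗ[R] ((localCohomology J n).obj G : Type u))) :=
  ⟨LinearEquiv.ofBijective (Φ G n hF) ⟨Φ_injective hV hF, Φ_surjective hV hF⟩⟩

end bij

section test

variable [IsNoetherianRing R]

/-- A module supported in `V(J)` without maps from a finite module of full support vanishes. -/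
theorem subsingleton_of_hom (F H : Type u) [AddCommGroup F] [Module R F] [Module.Finite R F] [AddCommGroup H]
    [Module R H] (hsupp : PrimeSpectrum.zeroLocus (J : Set R) ⊆ Module.support R F)
    (hH : LocCoh.IsPowerTorsion J H) (h : Subsingleton (F →ₗ[R] H)) : Subsingleton H := by
  by_contra hne
  rw [not_subsingleton_iff_nontrivial] at hne
  obtain ⟨p, hp⟩ := associatedPrimes.nonempty R H
  haveI := hp.isPrime
  obtain ⟨-, g, hg⟩ := (isAssociatedPrime_iff_exists_injective_linearMap _ _).1 hp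
  have hJp : J ≤ p := fun a ha => by
    obtain ⟨k, hk⟩ := hH (g 1)
    have := hk _ (Ideal.pow_mem_pow ha k)
    rw [← map_smul, map_eq_zero_iff g hg, Algebra.smul_def, mul_one, Ideal.Quotient.algebraMap_eq,
      Ideal.Quotient.eq_zero_iff_mem] at this
    exact Ideal.IsPrime.mem_of_pow_mem inferInstance k this
  let P : PrimeSpectrum R := ⟨p, inferInstance⟩
  have hPF : P ∈ Module.support R F := hsupp hJp
  obtain ⟨N, ⟨hN1, hN2⟩, hmax⟩ := set_has_maximal_iff_noetherian.mpr (inferInstance : IsNoetherian R F)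
    {N : Submodule R F | p • (⊤ : Submodule R F) ≤ N ∧ P ∈ Module.support R (F ⧸ N)}
    ⟨p • ⊤, le_rfl, by rw [Module.support_quotient]; exact ⟨hPF, le_refl (α := Ideal R) p⟩⟩
  obtain ⟨x, hxN⟩ : ∃ x, x ∉ N := by
    by_contra hall
    push Not at hall
    haveI : Subsingleton (F ⧸ N) := subsingleton_of_forall_eq 0 fun z => by
      obtain ⟨w, rfl⟩ := Submodule.Quotient.mk_surjective N z
      exact (Submodule.Quotient.mk_eq_zero N).mpr (hall w)
    rw [Module.support_eq_empty_iff.mpr inferInstance] at hN2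
    exact hN2
  have hlt : N < N ⊔ Submodule.span R {x} :=
    lt_of_le_of_ne le_sup_left fun he => hxN (he.ge (Submodule.mem_sup_right (Submodule.mem_span_singleton_self x)))
  have hnot : P ∉ Module.support R (F ⧸ (N ⊔ Submodule.span R {x})) := fun hmem =>
    hmax _ ⟨hN1.trans le_sup_left, hmem⟩ hlt
  rw [Module.mem_support_iff_of_finite, SetLike.not_le_iff_exists] at hnot
  obtain ⟨s, hs, hsp⟩ := hnot
  let q : R →ₗ[R] F ⧸ N := LinearMap.toSpanSingleton R _ (N.mkQ x)
  have hsF : ∀ z : F ⧸ N, s • z ∈ LinearMap.range q := fun z => by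
    obtain ⟨w, rfl⟩ := Submodule.Quotient.mk_surjective N z
    have h0 : s • w ∈ N ⊔ Submodule.span R {x} := by
      rw [← Submodule.Quotient.mk_eq_zero, Submodule.Quotient.mk_smul]
      exact Module.mem_annihilator.mp hs _
    obtain ⟨a, ha, b, hb, hab⟩ := Submodule.mem_sup.mp h0
    obtain ⟨c, rfl⟩ := Submodule.mem_span_singleton.mp hb
    refine ⟨c, ?_⟩
    rw [← Submodule.Quotient.mk_smul, ← hab, Submodule.Quotient.mk_add, (Submodule.Quotient.mk_eq_zero N).mpr ha,
      zero_add]
    rfl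
  have hq : LinearMap.ker q = p := by
    refine le_antisymm (fun c hc => ?_) fun c hc => ?_
    · by_contra hcp
      rw [Module.mem_support_iff_of_finite] at hN2
      refine Ideal.IsPrime.mul_notMem inferInstance hcp hsp (hN2 (Module.mem_annihilator.mpr fun z => ?_))
      obtain ⟨d, hd⟩ := hsF z
      rw [mul_smul, ← hd, ← map_smul, smul_eq_mul, mul_comm, ← smul_eq_mul, map_smul,
        LinearMap.mem_ker.mp hc, smul_zero]
    · rw [LinearMap.mem_ker]
      change c • Submodule.Quotient.mk (p := N) x = 0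
      rw [← Submodule.Quotient.mk_smul, Submodule.Quotient.mk_eq_zero]
      exact hN1 (Submodule.smul_mem_smul hc trivial)
  let f : F →ₗ[R] H := g ∘ₗ (Submodule.quotEquivOfEq _ _ hq).toLinearMap ∘ₗ q.quotKerEquivRange.symm.toLinearMap ∘ₗ
    ((s • (LinearMap.id : (F ⧸ N) →ₗ[R] F ⧸ N)).codRestrict (LinearMap.range q) hsF) ∘ₗ N.mkQ
  have hf := LinearMap.congr_fun (h.elim f 0) x
  simp only [f, LinearMap.comp_apply, LinearMap.zero_apply, LinearEquiv.coe_coe, map_eq_zero_iff g hg,
    LinearEquiv.map_eq_zero_iff] at hf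
  have h2 : s • (N.mkQ x) = 0 := congrArg Subtype.val hf
  exact hsp (hq.le (LinearMap.mem_ker.mpr h2))

end test

end Groth.Agent.LocCohLib
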