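import Mathlib
import Groth.Agent.LocCohLib.Annihilated

/-! Finiteness of local cohomology can be checked prime by prime. -/

open CategoryTheory Limits

namespace Groth.Agent.LocCohLib

universe u

variable {R : Type u} [CommRing R] [IsNoetherianRing R]

lemma finite_mid_of_exact {A B C : Type u} [AddCommGroup A] [Module R A] [AddCommGroup B] [Module R B]
    [AddCommGroup C] [Module R C] (f : A →ₗ[R] B) (g : B →ₗ[R] C) (hfg : Function.Exact f g)
    (hA : Module.Finite R A) (hC : Module.Finite R C) : Module.Finite R B := by
  haveI : IsNoetherian R (LinearMap.ker g) := isNoetherian_of_le hfg.linearMap_ker_eq.le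
  haveI := Module.Finite.equiv g.quotKerEquivRange.symm
  exact Module.Finite.of_submodule_quotient (LinearMap.ker g)

/-- Torsion for one element with finite socle, locally finite: then finite. -/
theorem finite_of_local_of_finite_ker (x : R) (H : Type u) [AddCommGroup H] [Module R H]
    (htors : ∀ z : H, ∃ n : ℕ, x ^ n • z = 0)
    (hker : Module.Finite R (LinearMap.ker (LinearMap.lsmul R H x)))
    (hloc : ∀ (p : Ideal R) [p.IsPrime],
      Module.Finite (Localization.AtPrime p) (LocalizedModule p.primeCompl H)) :
    Module.Finite R H := by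
  classical
  let S := LinearMap.ker (LinearMap.lsmul R H x)
  let P : ℕ → Submodule R H := fun k => LinearMap.range (LinearMap.lsmul R H (x ^ k)) ⊓ S
  have hP : ∀ {k m : ℕ}, k ≤ m → P m ≤ P k := by
    intro k m hkm z ⟨⟨w, hw⟩, hz⟩
    refine ⟨⟨x ^ (m - k) • w, ?_⟩, hz⟩
    rw [← hw, LinearMap.lsmul_apply, LinearMap.lsmul_apply, smul_smul, ← pow_add,
      Nat.add_sub_cancel' hkm]
  obtain ⟨k₀, hk₀⟩ := monotone_stabilizes_iff_noetherian.mpr (inferInstance : IsNoetherian R R)
    ⟨fun k => (P k).annihilator, fun k m hkm => Submodule.annihilator_mono (hP hkm)⟩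
  have hzero : P k₀ = ⊥ := by
    by_contra hne
    have hann : (P k₀).annihilator ≠ ⊤ := fun h => hne (Submodule.annihilator_eq_top_iff.mp h)
    obtain ⟨p, hp, hle⟩ := Ideal.exists_le_maximal _ hann
    haveI := hp.isPrime
    -- at `p` some power of `x` kills everything
    obtain ⟨s, hs⟩ := (hloc p).fg_top
    have hkill : ∀ y : LocalizedModule p.primeCompl H, ∃ n : ℕ, x ^ n • y = 0 := by
      intro y
      induction y using LocalizedModule.induction_on with
      | h m t =>
        obtain ⟨n, hn⟩ := htors m
        exact ⟨n, by rw [LocalizedModule.smul'_mk, hn, LocalizedModule.zero_mk]⟩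
    choose n hn using hkill
    obtain ⟨N, hN⟩ : ∃ N : ℕ, ∀ y : LocalizedModule p.primeCompl H, x ^ N • y = 0 := by
      refine ⟨s.sup n, fun y => ?_⟩
      have hy : y ∈ Submodule.span (Localization.AtPrime p) (s : Set (LocalizedModule p.primeCompl H)) :=
        hs ▸ Submodule.mem_top
      induction hy using Submodule.span_induction with
      | mem a ha =>
        rw [← Nat.sub_add_cancel (Finset.le_sup ha : n a ≤ s.sup n), pow_add, mul_smul, hn, smul_zero]
      | zero => exact smul_zero _
      | add a b _ _ ha hb => rw [smul_add, ha, hb, add_zero]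
      | smul c a _ ha => rw [smul_comm, ha, smul_zero]
    let m := max N k₀
    have hPm : Module.Finite R (P m) := by
      haveI : IsNoetherian R S := inferInstance
      haveI : IsNoetherian R (P m) := isNoetherian_of_le (inf_le_right : P m ≤ S)
      infer_instance
    have hmem : (⟨p, hp.isPrime⟩ : PrimeSpectrum R) ∈ Module.support R (P m) := by
      rw [Module.mem_support_iff_of_finite]
      exact (hk₀ m (le_max_right N k₀) : (P k₀).annihilator = (P m).annihilator).symm.le.trans hle
    obtain ⟨⟨z, ⟨⟨w, hw⟩, hzS⟩⟩, hz⟩ := Module.mem_support_iff'.mp hmem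
    have hmN : N ≤ m := le_max_left N k₀
    have h0 : LocalizedModule.mk z (1 : p.primeCompl) = 0 := by
      rw [← hw, LinearMap.lsmul_apply, ← LocalizedModule.smul'_mk,
        ← Nat.sub_add_cancel hmN, pow_add, mul_smul, hN, smul_zero]
    obtain ⟨r, hr⟩ := (IsLocalizedModule.eq_zero_iff p.primeCompl
      (LocalizedModule.mkLinearMap p.primeCompl H)).mp h0
    exact hz r r.2 (Subtype.ext hr)
  have hxk : ∀ z : H, x ^ k₀ • z = 0 := by
    intro z
    by_contra hz
    have hex : ∃ n, x ^ n • x ^ k₀ • z = 0 := htors _
    have hj : 0 < Nat.find hex := Nat.pos_of_ne_zero fun h0 => hz (by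
      simpa [h0] using Nat.find_spec hex)
    have hmem : x ^ (Nat.find hex - 1) • x ^ k₀ • z ∈ P k₀ := by
      refine ⟨⟨x ^ (Nat.find hex - 1) • z, smul_comm _ _ _⟩, ?_⟩
      change x • x ^ (Nat.find hex - 1) • x ^ k₀ • z = 0
      rw [← mul_smul x, ← pow_succ', Nat.sub_add_cancel hj]
      exact Nat.find_spec hex
    rw [hzero, Submodule.mem_bot] at hmem
    exact Nat.find_min hex (Nat.sub_lt hj one_pos) hmem
  have hfin : ∀ k : ℕ, Module.Finite R (LinearMap.ker (LinearMap.lsmul R H (x ^ k))) := by
    intro k
    induction k with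
    | zero =>
      rw [pow_zero, show LinearMap.ker (LinearMap.lsmul R H 1) = ⊥ from
        LinearMap.ker_eq_bot.mpr fun a b h => by simpa using h]
      infer_instance
    | succ k ih =>
      let A := LinearMap.ker (LinearMap.lsmul R H (x ^ (k + 1)))
      let B := LinearMap.ker (LinearMap.lsmul R H (x ^ k))
      let g : A →ₗ[R] B := ((LinearMap.lsmul R H x).domRestrict A).codRestrict B fun a => by
        change x ^ k • x • (a : H) = 0
        rw [← mul_smul, ← pow_succ]; exact a.2
      let f : S →ₗ[R] A := Submodule.inclusion fun a (ha : x • a = 0) => by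
        change x ^ (k + 1) • a = 0
        rw [pow_succ, mul_smul, ha, smul_zero]
      exact finite_mid_of_exact f g (fun a => ⟨fun ha => ⟨⟨a.1, congrArg Subtype.val ha⟩, rfl⟩,
        fun ⟨c, hc⟩ => hc ▸ Subtype.ext c.2⟩) hker ih
  haveI := hfin k₀
  exact Module.Finite.of_surjective (LinearMap.ker (LinearMap.lsmul R H (x ^ k₀))).subtype
    fun z => ⟨⟨z, hxk z⟩, rfl⟩

theorem finite_H_of_local (I : Ideal R) : ∀ (n : ℕ) (M : Type u) [AddCommGroup M] [Module R M]
    [Module.Finite R M], (∀ (p : Ideal R) [p.IsPrime], ∀ i : ℕ, i ≤ n →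
      Module.Finite (Localization.AtPrime p) (LocalizedModule p.primeCompl (LocCoh.H I i M))) →
    ∀ i : ℕ, i ≤ n → Module.Finite R (LocCoh.H I i M) := by
  intro n
  induction n with
  | zero =>
    intro M _ _ _ _ i hi
    obtain rfl := Nat.le_zero.mp hi
    exact finite_H0 I (ModuleCat.of R M)
  | succ n ih =>
    intro M _ _ _ hloc i hi
    have hlow : ∀ i : ℕ, i ≤ n → Module.Finite R (LocCoh.H I i M) :=
      ih M fun p _ i hi => hloc p i (by omega)
    rcases Nat.lt_or_eq_of_le hi with hi | rfl
    · exact hlow i (by omega)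
    let T := DRing.torsionSub I M
    let Mb := M ⧸ T
    have hsurj := fun i => quot_torsion_surjective I M i
    have hlowb : ∀ i : ℕ, i ≤ n → Module.Finite R (LocCoh.H I i Mb) := fun i hi => by
      haveI := hlow i hi
      haveI : Module.Finite R ((localCohomology I i).obj (subSeq M T).X₂ : Type u) := hlow i hi
      exact Module.Finite.of_surjective _ (hsurj i)
    have hlocb : ∀ (p : Ideal R) [p.IsPrime],
        Module.Finite (Localization.AtPrime p) (LocalizedModule p.primeCompl (LocCoh.H I (n + 1) Mb)) := by
      intro p _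
      haveI := hloc p (n + 1) le_rfl
      haveI : Module.Finite (Localization.AtPrime p)
        (LocalizedModule p.primeCompl ((localCohomology I (n + 1)).obj (subSeq M T).X₂ : Type u)) :=
          hloc p (n + 1) le_rfl
      exact Module.Finite.of_surjective _
        (LocalizedModule.map_surjective p.primeCompl _ (hsurj (n + 1)))
    suffices hfin : Module.Finite R (LocCoh.H I (n + 1) Mb) by
      haveI : Module.Finite R ((localCohomology I (n + 1)).obj (subSeq M T).X₃ : Type u) := hfin
      exact Module.Finite.of_injective _ (quot_torsion_injective I M n)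
    obtain ⟨a, ha, hreg⟩ := exists_regular_mem I I Ideal.le_radical Mb (torsionSub_quot_eq_bot I M)
    let f : Mb →ₗ[R] Mb := LinearMap.lsmul R Mb a
    have hf : Function.Injective f := (injective_iff_map_eq_zero f).mpr hreg
    have hS := injSeq_shortExact f hf
    have hQ : Module.Finite R (LocCoh.H I n (Mb ⧸ LinearMap.range f)) := by
      refine ih (Mb ⧸ LinearMap.range f) (fun p _ i hin => ?_) n le_rfl
      haveI : IsNoetherianRing (Localization.AtPrime p) :=
        IsLocalization.isNoetherianRing p.primeCompl _ inferInstance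
      have hex : Function.Exact ((localCohomology I i).map (injSeq f).g).hom (δ I hS i) := fun z =>
        ⟨exists_of_δ_eq_zero I hS i z, fun ⟨w, hw⟩ => hw ▸ δ_map_g I hS i w⟩
      refine finite_mid_of_exact (R := Localization.AtPrime p)
        (LocalizedModule.map p.primeCompl ((localCohomology I i).map (injSeq f).g).hom)
        (LocalizedModule.map p.primeCompl (δ I hS i))
        (fun y => LocalizedModule.map_exact p.primeCompl _ _ hex y) ?_ ?_
      · haveI := hlowb i hin
        haveI : Module.Finite R ((localCohomology I i).obj (injSeq f).X₂ : Type u) := hlowb i hin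
        exact Module.Finite.of_isLocalizedModule p.primeCompl
          (LocalizedModule.mkLinearMap p.primeCompl _)
      · rcases Nat.lt_or_eq_of_le hin with hin' | rfl
        · haveI : Module.Finite R ((localCohomology I (i + 1)).obj (injSeq f).X₁ : Type u) :=
            hlowb (i + 1) (by omega)
          exact Module.Finite.of_isLocalizedModule p.primeCompl
            (LocalizedModule.mkLinearMap p.primeCompl _)
        · exact hlocb p
    refine finite_of_local_of_finite_ker a (LocCoh.H I (n + 1) Mb) (fun z => ?_) ?_ hlocb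
    · obtain ⟨k, hk⟩ := isPowerTorsion z
      exact ⟨k, hk _ (Ideal.pow_mem_pow ha k)⟩
    · haveI : Module.Finite R ((localCohomology I n).obj (injSeq f).X₃ : Type u) := hQ
      have hrange : LinearMap.ker (LinearMap.lsmul R (LocCoh.H I (n + 1) Mb) a) ≤
          LinearMap.range (δ I hS n) := fun z hz => exists_of_map_f_eq_zero I hS n z (by
        rw [show (injSeq f).f = a • 𝟙 (ModuleCat.of R Mb) from rfl,
          map_smul_id I (n + 1) (ModuleCat.of R Mb) a z]
        exact hz)
      haveI : IsNoetherian R (LinearMap.ker (LinearMap.lsmul R (LocCoh.H I (n + 1) Mb) a)) :=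
        isNoetherian_of_le hrange
      infer_instance

end Groth.Agent.LocCohLib
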