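import Mathlib
import Groth.Prelude.Def_W4bk5brsh16IT
import Groth.Agent.LocCohLib.Torsion

/-! Ideal transforms, elementwise. -/

open CategoryTheory Limits Opposite

namespace Groth.Agent.LocCohLib

universe u

variable {R : Type u} [CommRing R] {I : Ideal R}
variable {M : Type u} [AddCommGroup M] [Module R M] {M' : Type u} [AddCommGroup M'] [Module R M']

/-- The class of a linear map `I^n → M` in the ideal transform. -/
noncomputable def dι (I : Ideal R) (M : Type u) [AddCommGroup M] [Module R M] (n : ℕ) :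
    (↥(I ^ n) →ₗ[R] M) →ₗ[R] LocCoh.DT I M :=
  ((colimit.ι (LocCoh.transformDiagram I) (op (op n))).app (ModuleCat.of R M)).hom ∘ₗ
    (ModuleCat.homLinearEquiv (S := R) (M := ModuleCat.of R ↥(I ^ n))
      (N := ModuleCat.of R M)).symm.toLinearMap

lemma powLe {n m : ℕ} (h : n ≤ m) : I ^ m ≤ I ^ n := Ideal.pow_le_pow_right h

lemma dι_res {n m : ℕ} (h : n ≤ m) (φ : ↥(I ^ n) →ₗ[R] M) :
    dι I M m (φ ∘ₗ Submodule.inclusion (powLe h)) = dι I M n φ :=
  congr($(NatTrans.congr_app (colimit.w (LocCoh.transformDiagram I) (homOfLE h).op.op)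
    (ModuleCat.of R M)).hom (ModuleCat.ofHom φ))

lemma exists_dι (z : LocCoh.DT I M) : ∃ n φ, dι I M n φ = z := by
  obtain ⟨⟨⟨n⟩⟩, y, hy⟩ :=
    colim_app_surjective (LocCoh.transformDiagram I) (ModuleCat.of R M) z
  exact ⟨n, y.hom, hy⟩

lemma dι_eq_zero_iff {n : ℕ} (φ : ↥(I ^ n) →ₗ[R] M) :
    dι I M n φ = 0 ↔ ∃ (m : ℕ) (h : n ≤ m), φ ∘ₗ Submodule.inclusion (powLe h) = 0 := by
  constructor
  · intro hz
    obtain ⟨⟨⟨m⟩⟩, f, hf⟩ := colim_app_eq_zero (LocCoh.transformDiagram I) (ModuleCat.of R M)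
      (op (op n)) (ModuleCat.ofHom φ) hz
    exact ⟨m, f.unop.unop.le, congrArg ModuleCat.Hom.hom hf⟩
  · rintro ⟨m, h, hm⟩
    rw [← dι_res h, hm, map_zero]

/-- The functorial map of ideal transforms. -/
noncomputable abbrev dmap (I : Ideal R) (f : M →ₗ[R] M') : LocCoh.DT I M →ₗ[R] LocCoh.DT I M' :=
  ((LocCoh.idealTransform I).map (ModuleCat.ofHom f)).hom

lemma map_dι (f : M →ₗ[R] M') {n : ℕ} (φ : ↥(I ^ n) →ₗ[R] M) :
    dmap I f (dι I M n φ) = dι I M' n (f ∘ₗ φ) :=
  congr($((colimit.ι (LocCoh.transformDiagram I) (op (op n))).naturality (ModuleCat.ofHom f)).hom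
    (ModuleCat.ofHom φ)).symm

lemma toDT_eq (x : M) :
    LocCoh.toDT I M x = dι I M 0 (((LinearMap.lsmul R M).domRestrict (I ^ 0)).flip x) := rfl

lemma toDT_eq_dι (n : ℕ) (x : M) :
    LocCoh.toDT I M x = dι I M n (((LinearMap.lsmul R M).domRestrict (I ^ n)).flip x) :=
  (dι_res (Nat.zero_le n) _).symm

lemma map_toDT (f : M →ₗ[R] M') (x : M) : dmap I f (LocCoh.toDT I M x) = LocCoh.toDT I M' (f x) := by
  rw [toDT_eq, map_dι, toDT_eq]
  congr 1
  ext a
  exact map_smul f (a : R) x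

lemma smul_dι {n : ℕ} {a : R} (ha : a ∈ I ^ n) (φ : ↥(I ^ n) →ₗ[R] M) :
    a • dι I M n φ = LocCoh.toDT I M (φ ⟨a, ha⟩) := by
  rw [toDT_eq_dι n, ← map_smul]
  congr 1
  ext b
  change a • φ b = (b : R) • φ ⟨a, ha⟩
  rw [← map_smul, ← map_smul]
  congr 1
  exact Subtype.ext (mul_comm a (b : R))

lemma toDT_eq_zero_iff (x : M) : LocCoh.toDT I M x = 0 ↔ x ∈ DRing.torsionSub I M := by
  rw [toDT_eq, dι_eq_zero_iff]
  constructor
  · rintro ⟨m, h, hm⟩
    exact ⟨m, fun a ha => LinearMap.congr_fun hm ⟨a, ha⟩⟩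
  · rintro ⟨m, hm⟩
    exact ⟨m, Nat.zero_le m, LinearMap.ext fun a => hm a.1 a.2⟩

lemma ker_toDT : LinearMap.ker (LocCoh.toDT I M) = DRing.torsionSub I M :=
  Submodule.ext fun x => toDT_eq_zero_iff x

/-- Every element is carried into the image of `M` by a power of `I`. -/
lemma exists_smul_mem_range (z : LocCoh.DT I M) :
    ∃ n : ℕ, ∀ a ∈ I ^ n, ∃ x : M, LocCoh.toDT I M x = a • z := by
  obtain ⟨n, φ, rfl⟩ := exists_dι z
  exact ⟨n, fun a ha => ⟨φ ⟨a, ha⟩, (smul_dι ha φ).symm⟩⟩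

lemma isPowerTorsion_coker : LocCoh.IsPowerTorsion I (LocCoh.DT I M ⧸ LinearMap.range (LocCoh.toDT I M)) := by
  intro z
  obtain ⟨z, rfl⟩ := Submodule.Quotient.mk_surjective _ z
  obtain ⟨n, hn⟩ := exists_smul_mem_range z
  exact ⟨n, fun a ha => by
    rw [← Submodule.Quotient.mk_smul, Submodule.Quotient.mk_eq_zero]
    exact LinearMap.mem_range.mpr (hn a ha)⟩

lemma saturated (hI : I.FG) (x : M) (n : ℕ) (h : ∀ b ∈ I ^ n, b • x ∈ DRing.torsionSub I M) :
    x ∈ DRing.torsionSub I M :=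
  exists_pow_smul_of_fg_of_forall hI x n h

lemma apply_mem_of_mem_pow_add {N : Type u} [AddCommGroup N] [Module R N] {n K : ℕ}
    (φ : ↥(I ^ n) →ₗ[R] N) {S : Submodule R N} (h : ∀ r ∈ I ^ K, ∀ a, r • φ a ∈ S)
    {c : R} (hc : c ∈ I ^ (K + n)) (hc' : c ∈ I ^ n) : φ ⟨c, hc'⟩ ∈ S := by
  have hle : (I ^ K • ⊤ : Submodule R ↥(I ^ n)) ≤ S.comap φ := Submodule.smul_le.mpr fun r hr a _ => by
    rw [Submodule.mem_comap, map_smul]; exact h r hr a
  rw [pow_add, ← smul_eq_mul, ← Submodule.range_subtype (I ^ n), LinearMap.range_eq_map,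
    ← Submodule.map_smul''] at hc
  obtain ⟨z, hz, hzc⟩ := hc
  rw [show (⟨c, hc'⟩ : ↥(I ^ n)) = z from Subtype.ext hzc.symm]
  exact hle hz

/-- The ideal transform is torsion-free. -/
theorem torsionSub_DT (hI : I.FG) : DRing.torsionSub I (LocCoh.DT I M) = ⊥ := by
  refine (Submodule.eq_bot_iff _).mpr fun z ⟨k, hk⟩ => ?_
  obtain ⟨n, φ, rfl⟩ := exists_dι z
  have h : ∀ y ∈ LinearMap.range φ, y ∈ DRing.torsionSub I M := by
    rintro _ ⟨⟨a, ha⟩, rfl⟩
    refine saturated hI _ k fun b hb => (toDT_eq_zero_iff _).mp ?_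
    rw [map_smul, ← smul_dι ha, smul_comm, hk b hb, smul_zero]
  obtain ⟨K, hK⟩ := exists_pow_smul_eq_zero_of_fg I
    (P := LinearMap.range φ) (by
      haveI : Module.Finite R ↥(I ^ n) := Module.Finite.of_fg (Submodule.FG.pow hI n)
      rw [LinearMap.range_eq_map]
      exact Module.Finite.fg_top.map φ) h
  refine (dι_eq_zero_iff φ).mpr ⟨K + n, Nat.le_add_left n K, LinearMap.ext fun ⟨c, hc⟩ => ?_⟩
  exact (Submodule.mem_bot R).mp (apply_mem_of_mem_pow_add φ
    (fun r hr a => (Submodule.mem_bot R).mpr (hK r hr _ ⟨a, rfl⟩)) hc _)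

lemma eq_of_smul_eq (hI : I.FG) {z z' : LocCoh.DT I M} (n : ℕ) (h : ∀ a ∈ I ^ n, a • z = a • z') :
    z = z' := by
  rw [← sub_eq_zero]
  exact (Submodule.mem_bot R).mp (torsionSub_DT (I := I) (M := M) hI ▸
    ⟨n, fun a ha => by rw [smul_sub, h a ha, sub_self]⟩)

/-- Two maps into an ideal transform agreeing on the image of `e` are equal if `e` has torsion cokernel. -/
theorem hom_ext_of_coker {K : Type u} [AddCommGroup K] [Module R K] (hI : I.FG) (e : M →ₗ[R] M')
    (hcoker : LocCoh.IsPowerTorsion I (M' ⧸ LinearMap.range e)) {f g : M' →ₗ[R] LocCoh.DT I K}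
    (h : f ∘ₗ e = g ∘ₗ e) : f = g := by
  ext y
  obtain ⟨n, hn⟩ := hcoker (Submodule.Quotient.mk y)
  refine eq_of_smul_eq hI n fun a ha => ?_
  obtain ⟨x, hx⟩ := (Submodule.Quotient.mk_eq_zero _).mp
    (((Submodule.Quotient.mk_smul (LinearMap.range e) a y).trans (hn a ha)))
  rw [← map_smul, ← map_smul, ← hx]
  exact LinearMap.congr_fun h x

theorem subsingleton_DT (hI : I.FG) (h : LocCoh.IsPowerTorsion I M) : Subsingleton (LocCoh.DT I M) := by
  refine subsingleton_of_forall_eq 0 fun z => ?_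
  obtain ⟨n, hn⟩ := exists_smul_mem_range z
  refine eq_of_smul_eq hI n fun a ha => ?_
  obtain ⟨x, hx⟩ := hn a ha
  rw [← hx, smul_zero]
  exact (toDT_eq_zero_iff x).mpr (h x)

section lift

variable [IsNoetherianRing R]

lemma exists_section (E : Type u) [AddCommGroup E] [Module R E] [Module.Injective R E] :
    ∃ s : (E ⧸ DRing.torsionSub I E) →ₗ[R] E, (DRing.torsionSub I E).mkQ ∘ₗ s = LinearMap.id := by
  haveI := injective_torsionSub I E
  obtain ⟨r, hr⟩ := Module.Injective.extension_property R (DRing.torsionSub I E) _ _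
    (DRing.torsionSub I E).subtype Subtype.val_injective LinearMap.id
  refine ⟨(DRing.torsionSub I E).liftQ (LinearMap.id - (DRing.torsionSub I E).subtype ∘ₗ r) ?_, ?_⟩
  · intro x hx
    have := LinearMap.congr_fun hr ⟨x, hx⟩
    simp only [LinearMap.comp_apply, Submodule.subtype_apply, LinearMap.id_apply] at this
    simp [this]
  · ext x
    simp only [LinearMap.comp_apply, Submodule.mkQ_apply, Submodule.liftQ_apply, LinearMap.sub_apply,
      LinearMap.id_apply, Submodule.subtype_apply, Submodule.Quotient.mk_sub]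
    rw [(Submodule.Quotient.mk_eq_zero _).mpr (r x).2, sub_zero]

lemma exists_injective_hull : ∃ (E : Type u) (_ : AddCommGroup E) (_ : Module R E) (j : M →ₗ[R] E),
    Module.Injective R E ∧ Function.Injective j := by
  let E := Injective.under (ModuleCat.of R M)
  haveI : Injective (ModuleCat.of R E) := inferInstanceAs (Injective (Injective.under _))
  exact ⟨E, inferInstance, inferInstance, (Injective.ι (ModuleCat.of R M)).hom,
    Module.injective_module_of_injective_object R E,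
    (ModuleCat.mono_iff_injective (Injective.ι (ModuleCat.of R M))).mp inferInstance⟩

/-- Maps `I^n → M/Γ_I M` lift to `M` on a higher power. -/
theorem exists_lift {n : ℕ} (ψ : ↥(I ^ n) →ₗ[R] M ⧸ DRing.torsionSub I M) :
    ∃ (m : ℕ) (h : n ≤ m) (φ : ↥(I ^ m) →ₗ[R] M),
      (DRing.torsionSub I M).mkQ ∘ₗ φ = ψ ∘ₗ Submodule.inclusion (powLe h) := by
  obtain ⟨E, _, _, j, hE, hj⟩ := exists_injective_hull (R := R) (M := M)
  obtain ⟨s, hs⟩ := exists_section (I := I) E
  let jb : (M ⧸ DRing.torsionSub I M) →ₗ[R] E ⧸ DRing.torsionSub I E :=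
    (DRing.torsionSub I M).mapQ _ j fun x hx => DRing.map_mem_torsionSub I j hx
  obtain ⟨h0, hh⟩ := Module.Injective.extension_property R E _ _ (I ^ n).subtype
    Subtype.val_injective (s ∘ₗ jb ∘ₗ ψ)
  let x := h0 1
  have hx : ∀ a : ↥(I ^ n), Submodule.Quotient.mk ((a : R) • x) = jb (ψ a) := by
    intro a
    have h1 : h0 (a : R) = s (jb (ψ a)) := LinearMap.congr_fun hh a
    rw [← map_smul, smul_eq_mul, mul_one, h1]
    exact LinearMap.congr_fun hs _
  haveI : Module.Finite R ↥(I ^ n) :=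
    Module.Finite.of_fg (Submodule.FG.pow (IsNoetherian.noetherian I) n)
  let P : Submodule R (E ⧸ LinearMap.range j) :=
    LinearMap.range ((LinearMap.range j).mkQ ∘ₗ LinearMap.toSpanSingleton R E x ∘ₗ (I ^ n).subtype)
  obtain ⟨K, hK⟩ := exists_pow_smul_eq_zero_of_fg I (P := P)
    (by simp only [P, LinearMap.range_eq_map]; exact Module.Finite.fg_top.map _)
    (by
      rintro _ ⟨a, rfl⟩
      obtain ⟨m, hm⟩ := Submodule.Quotient.mk_surjective _ (ψ a)
      have h2 : (a : R) • x - j m ∈ DRing.torsionSub I E := by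
        rw [← Submodule.Quotient.mk_eq_zero, Submodule.Quotient.mk_sub, hx, ← hm, sub_eq_zero]
        rfl
      obtain ⟨k, hk⟩ := h2
      refine ⟨k, fun c hc => (Submodule.Quotient.mk_eq_zero _).mpr ⟨c • m, ?_⟩⟩
      have := hk c hc
      rw [smul_sub, sub_eq_zero] at this
      rw [map_smul, ← this]
      rfl)
  have hmem : ∀ c : ↥(I ^ (K + n)), (c : R) • x ∈ LinearMap.range j := fun c =>
    apply_mem_of_mem_pow_add (LinearMap.toSpanSingleton R E x ∘ₗ (I ^ n).subtype)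
      (fun r hr a => (Submodule.Quotient.mk_eq_zero _).mp (hK r hr _ ⟨a, rfl⟩)) c.2
      (powLe (Nat.le_add_left n K) c.2)
  let φ : ↥(I ^ (K + n)) →ₗ[R] M := (LinearEquiv.ofInjective j hj).symm.toLinearMap ∘ₗ
    (LinearMap.toSpanSingleton R E x ∘ₗ (I ^ (K + n)).subtype).codRestrict _ hmem
  refine ⟨K + n, Nat.le_add_left n K, φ, LinearMap.ext fun c => ?_⟩
  have hjφ : j (φ c) = (c : R) • x :=
    congrArg Subtype.val ((LinearEquiv.ofInjective j hj).apply_symm_apply _)
  have hjb : Function.Injective jb := by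
    refine (injective_iff_map_eq_zero jb).mpr fun y hy => ?_
    obtain ⟨y, rfl⟩ := Submodule.Quotient.mk_surjective _ y
    obtain ⟨k, hk⟩ := (Submodule.Quotient.mk_eq_zero _).mp hy
    exact (Submodule.Quotient.mk_eq_zero _).mpr ⟨k, fun a ha => hj (by rw [map_smul, hk a ha, map_zero])⟩
  apply hjb
  change jb (Submodule.Quotient.mk (φ c)) = jb (ψ (Submodule.inclusion (powLe (Nat.le_add_left n K)) c))
  rw [← hx]
  change Submodule.Quotient.mk (j (φ c)) = _
  rw [hjφ]
  rfl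

/-- A map with torsion kernel and cokernel induces an isomorphism of ideal transforms. -/
theorem bijective_dmap (e : M →ₗ[R] M') (hker : LinearMap.ker e ≤ DRing.torsionSub I M)
    (hcoker : LocCoh.IsPowerTorsion I (M' ⧸ LinearMap.range e)) : Function.Bijective (dmap I e) := by
  have hI : I.FG := IsNoetherian.noetherian I
  have hinj : ∀ x, e x ∈ DRing.torsionSub I M' → x ∈ DRing.torsionSub I M := by
    rintro x ⟨k, hk⟩
    exact saturated hI x k fun b hb => hker (LinearMap.mem_ker.mpr (by rw [map_smul, hk b hb]))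
  refine ⟨(injective_iff_map_eq_zero _).mpr fun z hz => ?_, fun z => ?_⟩
  · obtain ⟨n, φ, rfl⟩ := exists_dι z
    refine eq_of_smul_eq hI n fun a ha => ?_
    rw [smul_zero, smul_dι ha, toDT_eq_zero_iff]
    refine hinj _ ((toDT_eq_zero_iff _).mp ?_)
    rw [← map_toDT, ← smul_dι ha, map_smul, hz, smul_zero]
  · obtain ⟨n, ψ, rfl⟩ := exists_dι z
    haveI : Module.Finite R ↥(I ^ n) := Module.Finite.of_fg (Submodule.FG.pow hI n)
    let P : Submodule R (M' ⧸ LinearMap.range e) := LinearMap.range ((LinearMap.range e).mkQ ∘ₗ ψ)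
    obtain ⟨K, hK⟩ := exists_pow_smul_eq_zero_of_fg I (P := P)
      (by simp only [P, LinearMap.range_eq_map]; exact Module.Finite.fg_top.map _)
      (fun y _ => hcoker y)
    have hmem : ∀ c : ↥(I ^ (K + n)),
        ψ (Submodule.inclusion (powLe (Nat.le_add_left n K)) c) ∈ LinearMap.range e :=
      fun c => apply_mem_of_mem_pow_add ψ (fun r hr a =>
        (Submodule.Quotient.mk_eq_zero _).mp (hK r hr _ ⟨a, rfl⟩)) c.2 _
    let q : ↥(LinearMap.range e) →ₗ[R] M ⧸ DRing.torsionSub I M :=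
      (LinearMap.ker e).liftQ (DRing.torsionSub I M).mkQ (by rwa [Submodule.ker_mkQ]) ∘ₗ
        e.quotKerEquivRange.symm.toLinearMap
    obtain ⟨m, h, φ, hφ⟩ := exists_lift (q ∘ₗ
      (ψ ∘ₗ Submodule.inclusion (powLe (Nat.le_add_left n K))).codRestrict _ hmem)
    refine ⟨dι I M m φ, eq_of_smul_eq hI m fun a ha => ?_⟩
    have ha' : a ∈ I ^ n := powLe ((Nat.le_add_left n K).trans h) ha
    rw [← map_smul, smul_dι ha, map_toDT, smul_dι ha', ← sub_eq_zero, ← map_sub, toDT_eq_zero_iff]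
    obtain ⟨x, hx⟩ := hmem ⟨a, powLe h ha⟩
    have hq : q ⟨e x, ⟨x, rfl⟩⟩ = Submodule.Quotient.mk x := by
      simp only [q, LinearMap.comp_apply, LinearEquiv.coe_coe,
        LinearMap.quotKerEquivRange_symm_apply_image e x ⟨x, rfl⟩]
      rfl
    have h1 : (Submodule.Quotient.mk (φ ⟨a, ha⟩) : M ⧸ DRing.torsionSub I M) = Submodule.Quotient.mk x := by
      rw [← hq]
      refine (LinearMap.congr_fun hφ ⟨a, ha⟩).trans (congrArg q (Subtype.ext ?_))
      exact hx.symm
    rw [Submodule.Quotient.eq] at h1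
    have h2 := DRing.map_mem_torsionSub I e h1
    rw [map_sub, hx] at h2
    exact h2

end lift

end Groth.Agent.LocCohLib
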