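import Mathlib
import Groth.Agent.LocCohLib.DTBasic

/-! The ideal transform and local cohomology. -/

open CategoryTheory Limits

namespace Groth.Agent.LocCohLib

universe u

variable {R : Type u} [CommRing R] [IsNoetherianRing R] {I : Ideal R}
variable {M : Type u} [AddCommGroup M] [Module R M] {M' : Type u} [AddCommGroup M'] [Module R M']

/-- `D_I(M)/M = H^1_I(M)`. -/
theorem nonempty_coker_equiv (I : Ideal R) (M : Type u) [AddCommGroup M] [Module R M] :
    Nonempty ((LocCoh.DT I M ⧸ LinearMap.range (LocCoh.toDT I M)) ≃ₗ[R]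
      ((localCohomology I 1).obj (ModuleCat.of R M) : Type u)) := by
  have hI : I.FG := IsNoetherian.noetherian I
  obtain ⟨E, _, _, j, hE, hj⟩ := exists_injective_hull (R := R) (M := M)
  let S : ShortComplex (ModuleCat.{u} R) := ShortComplex.mk (ModuleCat.ofHom j)
    (ModuleCat.ofHom (LinearMap.range j).mkQ)
    (by ext x; exact (Submodule.Quotient.mk_eq_zero _).mpr ⟨x, rfl⟩)
  have hS : S.ShortExact :=
    { exact := (ShortComplex.moduleCat_exact_iff S).mpr fun x hx =>
        (Submodule.Quotient.mk_eq_zero _).mp hx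
      mono_f := (ModuleCat.mono_iff_injective _).mpr hj
      epi_g := (ModuleCat.epi_iff_surjective _).mpr (Submodule.mkQ_surjective _) }
  haveI : Injective S.X₂ := Module.injective_object_of_injective_module R E
  -- pairs `(x, z)` with `a • z = toDT m` whenever `a • x = j m`, for `a` in a power of `I`
  let P : Submodule R (E × LocCoh.DT I M) :=
    { carrier := {p | ∃ n : ℕ, ∀ a ∈ I ^ n, ∃ m, j m = a • p.1 ∧ LocCoh.toDT I M m = a • p.2}
      zero_mem' := ⟨0, fun a _ => ⟨0, by simp⟩⟩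
      add_mem' := by
        rintro p q ⟨n, hn⟩ ⟨n', hn'⟩
        refine ⟨max n n', fun a ha => ?_⟩
        obtain ⟨m, h1, h2⟩ := hn a (powLe (le_max_left n n') ha)
        obtain ⟨m', h1', h2'⟩ := hn' a (powLe (le_max_right n n') ha)
        exact ⟨m + m', by rw [map_add, h1, h1', Prod.fst_add, smul_add],
          by rw [map_add, h2, h2', Prod.snd_add, smul_add]⟩
      smul_mem' := by
        rintro r p ⟨n, hn⟩
        refine ⟨n, fun a ha => ?_⟩
        obtain ⟨m, h1, h2⟩ := hn a ha
        exact ⟨r • m, by rw [map_smul, h1, Prod.smul_fst, smul_comm],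
          by rw [map_smul, h2, Prod.smul_snd, smul_comm]⟩ }
  let f : P →ₗ[R] LocCoh.DT I M := LinearMap.snd R E _ ∘ₗ P.subtype
  have hf : Function.Surjective f := by
    intro z
    obtain ⟨n, φ, rfl⟩ := exists_dι z
    obtain ⟨h, hh⟩ := Module.Injective.extension_property R E _ _ (I ^ n).subtype
      Subtype.val_injective (j ∘ₗ φ)
    refine ⟨⟨(h 1, dι I M n φ), n, fun a ha => ⟨φ ⟨a, ha⟩, ?_, (smul_dι ha φ).symm⟩⟩, rfl⟩
    change j (φ ⟨a, ha⟩) = a • h 1
    rw [← map_smul, smul_eq_mul, mul_one]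
    exact (LinearMap.congr_fun hh ⟨a, ha⟩).symm
  let q : P →ₗ[R] DRing.torsionSub I (E ⧸ LinearMap.range j) :=
    ((LinearMap.range j).mkQ ∘ₗ LinearMap.fst R E _ ∘ₗ P.subtype).codRestrict _ fun p => by
      obtain ⟨n, hn⟩ := p.2
      refine ⟨n, fun a ha => (Submodule.Quotient.mk_eq_zero _).mpr ?_⟩
      obtain ⟨m, h1, -⟩ := hn a ha
      exact ⟨m, h1⟩
  have hq : Function.Surjective q := by
    rintro ⟨t, k, hk⟩
    obtain ⟨x, rfl⟩ := Submodule.Quotient.mk_surjective _ t
    have hmem : ∀ a : ↥(I ^ k), (a : R) • x ∈ LinearMap.range j := fun a =>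
      (Submodule.Quotient.mk_eq_zero _).mp (hk a a.2)
    let φ : ↥(I ^ k) →ₗ[R] M := (LinearEquiv.ofInjective j hj).symm.toLinearMap ∘ₗ
      (LinearMap.toSpanSingleton R E x ∘ₗ (I ^ k).subtype).codRestrict _ hmem
    exact ⟨⟨(x, dι I M k φ), k, fun a ha => ⟨φ ⟨a, ha⟩,
      congrArg Subtype.val ((LinearEquiv.ofInjective j hj).apply_symm_apply _),
      (smul_dι ha φ).symm⟩⟩, rfl⟩
  let g : P →ₗ[R] ((localCohomology I 1).obj (ModuleCat.of R M) : Type u) :=
    δ I hS 0 ∘ₗ (h0Equiv I S.X₃).symm.toLinearMap ∘ₗ q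
  have hg : Function.Surjective g := by
    intro w
    obtain ⟨y, hy⟩ := exists_of_map_f_eq_zero I hS 0 w
      ((subsingleton_of_injective (M := S.X₂) 0).elim _ _)
    obtain ⟨p, hp⟩ := hq (h0Equiv I S.X₃ y)
    refine ⟨p, ?_⟩
    change δ I hS 0 ((h0Equiv I S.X₃).symm (q p)) = w
    rw [hp, LinearEquiv.symm_apply_apply, hy]
  have hkg : ∀ p, g p = 0 ↔ ∃ m e, e ∈ DRing.torsionSub I E ∧ p.1.1 = j m + e := by
    intro p
    constructor
    · intro hp
      obtain ⟨w, hw⟩ := exists_of_δ_eq_zero I hS 0 _ hp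
      have hw' : h0 I S.X₃ (((localCohomology I 0).map S.g).hom w) = Submodule.Quotient.mk p.1.1 := by
        rw [hw]
        exact congrArg Subtype.val ((h0Equiv I S.X₃).apply_symm_apply (q p))
      rw [h0_map] at hw'
      obtain ⟨m, hm⟩ := (Submodule.Quotient.eq _).mp hw'.symm
      refine ⟨m, h0 I S.X₂ w, range_h0.le ⟨w, rfl⟩, ?_⟩
      rw [hm]
      exact (sub_add_cancel p.1.1 _).symm
    · rintro ⟨m, e, he, hpe⟩
      have hw : (h0Equiv I S.X₃).symm (q p) =
          ((localCohomology I 0).map S.g).hom ((h0Equiv I S.X₂).symm ⟨e, he⟩) := by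
        refine h0_injective ?_
        rw [h0_map]
        refine (congrArg Subtype.val ((h0Equiv I S.X₃).apply_symm_apply (q p))).trans ?_
        rw [show h0 I S.X₂ ((h0Equiv I S.X₂).symm ⟨e, he⟩) = e from
          congrArg Subtype.val ((h0Equiv I S.X₂).apply_symm_apply _)]
        refine (Submodule.Quotient.eq _).mpr ⟨m, ?_⟩
        change j m = p.1.1 - e
        rw [hpe, add_sub_cancel_right]
      change δ I hS 0 ((h0Equiv I S.X₃).symm (q p)) = 0
      rw [hw, δ_map_g]
  have hker : LinearMap.ker g = LinearMap.ker ((LinearMap.range (LocCoh.toDT I M)).mkQ ∘ₗ f) := by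
    ext p
    rw [LinearMap.mem_ker, hkg, LinearMap.mem_ker, LinearMap.comp_apply, Submodule.mkQ_apply,
      Submodule.Quotient.mk_eq_zero]
    obtain ⟨n, hn⟩ := p.2
    constructor
    · rintro ⟨m, e, ⟨k, hk⟩, hpe⟩
      refine ⟨m, eq_of_smul_eq hI (max n k) fun a ha => ?_⟩
      obtain ⟨m', h1, h2⟩ := hn a (powLe (le_max_left n k) ha)
      rw [hpe, smul_add, hk a (powLe (le_max_right n k) ha), add_zero, ← map_smul] at h1
      rw [← map_smul, ← hj h1]
      exact h2
    · rintro ⟨m, hm⟩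
      refine ⟨m, p.1.1 - j m, saturated hI _ n fun a ha => ?_, by rw [add_sub_cancel]⟩
      obtain ⟨m', h1, h2⟩ := hn a ha
      rw [smul_sub, ← h1, ← map_smul, ← map_sub]
      refine DRing.map_mem_torsionSub I j ((toDT_eq_zero_iff _).mp ?_)
      rw [map_sub, map_smul, h2]
      change a • (f p) - a • _ = 0
      rw [hm, sub_self]
  exact ⟨((LinearMap.quotKerEquivOfSurjective ((LinearMap.range (LocCoh.toDT I M)).mkQ ∘ₗ f)
    ((Submodule.mkQ_surjective _).comp hf)).symm.trans
    (Submodule.quotEquivOfEq _ _ hker.symm)).trans (LinearMap.quotKerEquivOfSurjective g hg)⟩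

/-- Maps with torsion kernel and cokernel induce isomorphisms on `H^i`, `i ≥ 2`. -/
theorem bijective_map_of_torsion (e : M →ₗ[R] M') (hker : LinearMap.ker e ≤ DRing.torsionSub I M)
    (hcoker : LocCoh.IsPowerTorsion I (M' ⧸ LinearMap.range e)) (i : ℕ) (hi : 1 < i) :
    Function.Bijective ((localCohomology I i).map (ModuleCat.ofHom e)).hom := by
  obtain ⟨i, rfl⟩ := Nat.exists_eq_add_of_le' hi
  let S₁ : ShortComplex (ModuleCat R) := ShortComplex.mk (ModuleCat.ofHom (LinearMap.ker e).subtype)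
    (ModuleCat.ofHom e.rangeRestrict) (by ext x; exact x.2)
  have hS₁ : S₁.ShortExact :=
    { exact := (ShortComplex.moduleCat_exact_iff S₁).mpr fun x hx =>
        ⟨⟨x, congrArg Subtype.val hx⟩, rfl⟩
      mono_f := (ModuleCat.mono_iff_injective _).mpr Subtype.val_injective
      epi_g := (ModuleCat.epi_iff_surjective _).mpr e.surjective_rangeRestrict }
  let S₂ : ShortComplex (ModuleCat R) := ShortComplex.mk (ModuleCat.ofHom (LinearMap.range e).subtype)
    (ModuleCat.ofHom (LinearMap.range e).mkQ) (by ext x; exact (Submodule.Quotient.mk_eq_zero _).mpr x.2)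
  have hS₂ : S₂.ShortExact :=
    { exact := (ShortComplex.moduleCat_exact_iff S₂).mpr fun x hx =>
        ⟨⟨x, (Submodule.Quotient.mk_eq_zero _).mp hx⟩, rfl⟩
      mono_f := (ModuleCat.mono_iff_injective _).mpr Subtype.val_injective
      epi_g := (ModuleCat.epi_iff_surjective _).mpr (Submodule.mkQ_surjective _) }
  have t₁ : LocCoh.IsPowerTorsion I S₁.X₁ := by
    rintro ⟨x, hx⟩
    obtain ⟨k, hk⟩ := hker hx
    exact ⟨k, fun a ha => Subtype.ext (hk a ha)⟩
  have b₁ : Function.Bijective ((localCohomology I (i + 2)).map S₁.g).hom := by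
    refine ⟨(injective_iff_map_eq_zero _).mpr fun z hz => ?_, fun z => ?_⟩
    · obtain ⟨w, rfl⟩ := exists_of_map_g_eq_zero I hS₁ (i + 2) z hz
      rw [(subsingleton_of_torsion S₁.X₁ t₁ (i + 1)).elim w 0, map_zero]
    · exact exists_of_δ_eq_zero I hS₁ (i + 2) z ((subsingleton_of_torsion S₁.X₁ t₁ (i + 2)).elim _ _)
  have b₂ : Function.Bijective ((localCohomology I (i + 2)).map S₂.f).hom := by
    refine ⟨(injective_iff_map_eq_zero _).mpr fun z hz => ?_, fun z => ?_⟩
    · obtain ⟨w, rfl⟩ := exists_of_map_f_eq_zero I hS₂ (i + 1) z hz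
      rw [(subsingleton_of_torsion S₂.X₃ hcoker i).elim w 0, map_zero]
    · exact exists_of_map_g_eq_zero I hS₂ (i + 2) z
        ((subsingleton_of_torsion S₂.X₃ hcoker (i + 1)).elim _ _)
  have hc : (localCohomology I (i + 2)).map (ModuleCat.ofHom e) =
      (localCohomology I (i + 2)).map S₁.g ≫ (localCohomology I (i + 2)).map S₂.f := by
    rw [← Functor.map_comp]; rfl
  rw [hc]
  exact b₂.comp b₁

lemma bijective_toDT_DT (I : Ideal R) (M : Type u) [AddCommGroup M] [Module R M] :
    Function.Bijective (LocCoh.toDT I (LocCoh.DT I M)) := by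
  have hI : I.FG := IsNoetherian.noetherian I
  have h : dmap I (LocCoh.toDT I M) = LocCoh.toDT I (LocCoh.DT I M) :=
    hom_ext_of_coker hI (LocCoh.toDT I M) isPowerTorsion_coker (LinearMap.ext fun x => map_toDT _ x)
  rw [← h]
  exact bijective_dmap _ ker_toDT.le isPowerTorsion_coker

end Groth.Agent.LocCohLib
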