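import Mathlib
import Groth.Agent.LocCohLib.DTCoh
import Groth.Agent.LocCohLib.MaxIdeal

/-! Exactness of the ideal transform. -/

open CategoryTheory Limits

namespace Groth.Agent.LocCohLib

universe u

variable {R : Type u} [CommRing R] {I : Ideal R}

lemma dmap_injective {M M' : Type u} [AddCommGroup M] [Module R M] [AddCommGroup M'] [Module R M']
    {g : M →ₗ[R] M'} (hg : Function.Injective g) : Function.Injective (dmap I g) := by
  refine (injective_iff_map_eq_zero _).mpr fun z hz => ?_
  obtain ⟨n, φ, rfl⟩ := exists_dι z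
  rw [map_dι, dι_eq_zero_iff] at hz
  obtain ⟨m, h, hm⟩ := hz
  exact (dι_eq_zero_iff φ).mpr ⟨m, h, LinearMap.ext fun a => hg ((LinearMap.congr_fun hm a).trans (map_zero g).symm)⟩

lemma exists_dmap_eq {M M' N : Type u} [AddCommGroup M] [Module R M] [AddCommGroup M'] [Module R M']
    [AddCommGroup N] [Module R N] {f : N →ₗ[R] M} {g : M →ₗ[R] M'} (hf : Function.Injective f)
    (hfg : ∀ x, g x = 0 → ∃ y, f y = x) {z : LocCoh.DT I M} (hz : dmap I g z = 0) :
    ∃ w, dmap I f w = z := by
  obtain ⟨n, φ, rfl⟩ := exists_dι z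
  rw [map_dι, dι_eq_zero_iff] at hz
  obtain ⟨m, h, hm⟩ := hz
  have hmem : ∀ a, (φ ∘ₗ Submodule.inclusion (powLe h)) a ∈ LinearMap.range f :=
    fun a => hfg _ (LinearMap.congr_fun hm a)
  refine ⟨dι I N m ((LinearEquiv.ofInjective f hf).symm.toLinearMap ∘ₗ
    (φ ∘ₗ Submodule.inclusion (powLe h)).codRestrict _ hmem), ?_⟩
  rw [map_dι, ← dι_res h φ]
  congr 1
  ext a
  exact congrArg Subtype.val ((LinearEquiv.ofInjective f hf).apply_symm_apply _)

instance preservesFiniteLimits_idealTransform (I : Ideal R) :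
    PreservesFiniteLimits (LocCoh.idealTransform I) := by
  refine (Functor.preservesFiniteLimits_iff_forall_exact_map_and_mono _).mpr fun S hS => ⟨?_, ?_⟩
  · refine (ShortComplex.moduleCat_exact_iff _).mpr fun z hz => ?_
    exact exists_dmap_eq (f := S.f.hom) (g := S.g.hom) ((ModuleCat.mono_iff_injective _).mp hS.mono_f)
      (fun x hx => (ShortComplex.moduleCat_exact_iff S).mp hS.exact x hx) hz
  · exact (ModuleCat.mono_iff_injective _).mpr
      (dmap_injective (g := S.f.hom) ((ModuleCat.mono_iff_injective _).mp hS.mono_f))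

variable [IsNoetherianRing R]

lemma subsingleton_one_iff (I : Ideal R) (M : Type u) [AddCommGroup M] [Module R M] :
    Subsingleton ((localCohomology I 1).obj (ModuleCat.of R M) : Type u) ↔
      Function.Surjective (LocCoh.toDT I M) := by
  obtain ⟨e⟩ := nonempty_coker_equiv I M
  rw [← LinearMap.range_eq_top, ← Submodule.Quotient.subsingleton_iff]
  exact e.toEquiv.subsingleton_congr.symm

lemma exists_hull_ses (M : ModuleCat.{u} R) : ∃ S : ShortComplex (ModuleCat.{u} R),
    S.ShortExact ∧ S.X₁ = M ∧ Injective S.X₂ := by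
  obtain ⟨E, _, _, j, hE, hj⟩ := exists_injective_hull (R := R) (M := M)
  refine ⟨ShortComplex.mk (ModuleCat.ofHom j) (ModuleCat.ofHom (LinearMap.range j).mkQ)
    (by ext x; exact (Submodule.Quotient.mk_eq_zero _).mpr ⟨x, rfl⟩), ?_, rfl,
    Module.injective_object_of_injective_module R E⟩
  exact
    { exact := (ShortComplex.moduleCat_exact_iff _).mpr fun x hx =>
        (Submodule.Quotient.mk_eq_zero _).mp hx
      mono_f := (ModuleCat.mono_iff_injective _).mpr hj
      epi_g := (ModuleCat.epi_iff_surjective _).mpr (Submodule.mkQ_surjective _) }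

/-- An exact ideal transform forces vanishing above degree one. -/
theorem cdLE_one_of_surjective (I : Ideal R)
    (h : ∀ (E Q : ModuleCat.{u} R) (g : E ⟶ Q), Function.Surjective g.hom →
      Function.Surjective (dmap I g.hom)) :
    LocCoh.CdLE R I 1 := by
  intro M _ _ i hi
  obtain ⟨i, rfl⟩ := Nat.exists_eq_add_of_le' hi
  suffices ∀ (i : ℕ) (M : ModuleCat.{u} R), Subsingleton ((localCohomology I (i + 2)).obj M : Type u) from
    this i (ModuleCat.of R M)
  intro i
  induction i with
  | zero =>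
    intro M
    obtain ⟨S, hS, rfl, hinj⟩ := exists_hull_ses M
    refine subsingleton_left I hS 1 ?_ (subsingleton_of_injective (M := S.X₂) 1)
    refine (subsingleton_one_iff I S.X₃).mpr fun z => ?_
    obtain ⟨w, rfl⟩ := h S.X₂ S.X₃ S.g ((ModuleCat.epi_iff_surjective _).mp hS.epi_g) z
    obtain ⟨y, rfl⟩ := (subsingleton_one_iff I S.X₂).mp (subsingleton_of_injective (M := S.X₂) 0) w
    exact ⟨S.g.hom y, (map_toDT S.g.hom y).symm⟩
  | succ i ih =>
    intro M
    obtain ⟨S, hS, rfl, hinj⟩ := exists_hull_ses M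
    exact subsingleton_left I hS (i + 2) (ih S.X₃) (subsingleton_of_injective (M := S.X₂) (i + 2))

/-- If `H^2` vanishes then the ideal transform preserves surjections. -/
theorem surjective_dmap_of_cdLE {I : Ideal R} (h : LocCoh.CdLE R I 1) {M M' : Type u} [AddCommGroup M]
    [Module R M] [AddCommGroup M'] [Module R M'] (g : M →ₗ[R] M') (hg : Function.Surjective g) :
    Function.Surjective (dmap I g) := by
  intro z
  obtain ⟨E, _, _, j, hE, hj⟩ := exists_injective_hull (R := R) (M := M)
  let K' := Submodule.map j (LinearMap.ker g)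
  have hk : LinearMap.ker g ≤ LinearMap.ker (K'.mkQ ∘ₗ j) := fun x hx =>
    (Submodule.Quotient.mk_eq_zero _).mpr ⟨x, hx, rfl⟩
  let j' : M' →ₗ[R] E ⧸ K' :=
    (LinearMap.ker g).liftQ (K'.mkQ ∘ₗ j) hk ∘ₗ (g.quotKerEquivOfSurjective hg).symm.toLinearMap
  have hj'g : ∀ x, j' (g x) = Submodule.Quotient.mk (j x) := fun x => by
    have : (g.quotKerEquivOfSurjective hg).symm (g x) = Submodule.Quotient.mk x :=
      (LinearEquiv.symm_apply_eq _).mpr rfl
    simp only [j', LinearMap.comp_apply, LinearEquiv.coe_coe, this]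
    rfl
  let S : ShortComplex (ModuleCat.{u} R) := ShortComplex.mk (ModuleCat.ofHom K'.subtype)
    (ModuleCat.ofHom K'.mkQ) (by ext x; exact (Submodule.Quotient.mk_eq_zero _).mpr x.2)
  have hS : S.ShortExact :=
    { exact := (ShortComplex.moduleCat_exact_iff _).mpr fun x hx =>
        ⟨⟨x, (Submodule.Quotient.mk_eq_zero _).mp hx⟩, rfl⟩
      mono_f := (ModuleCat.mono_iff_injective _).mpr Subtype.val_injective
      epi_g := (ModuleCat.epi_iff_surjective _).mpr (Submodule.mkQ_surjective _) }
  haveI : Injective S.X₂ := Module.injective_object_of_injective_module R E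
  have hQ : Subsingleton ((localCohomology I 1).obj S.X₃ : Type u) :=
    subsingleton_right I hS 1 (subsingleton_of_injective (M := S.X₂) 0) (h K' 2 one_lt_two)
  obtain ⟨q, hq⟩ := (subsingleton_one_iff I (E ⧸ K')).mp hQ (dmap I j' z)
  obtain ⟨x, rfl⟩ := Submodule.Quotient.mk_surjective _ q
  -- `x` carries a power of `I` into `M`
  obtain ⟨n, ψ, rfl⟩ := exists_dι z
  rw [map_dι, toDT_eq_dι n, ← sub_eq_zero, ← map_sub, dι_eq_zero_iff] at hq
  obtain ⟨m, hm, hq⟩ := hq
  have hmem : ∀ a : ↥(I ^ m), (a : R) • x ∈ LinearMap.range j := by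
    intro a
    have h1 : (a : R) • (Submodule.Quotient.mk x : E ⧸ K') =
        j' (ψ (Submodule.inclusion (powLe hm) a)) :=
      sub_eq_zero.mp (LinearMap.congr_fun hq a)
    obtain ⟨y, hy⟩ := hg (ψ (Submodule.inclusion (powLe hm) a))
    rw [← hy, hj'g, ← Submodule.Quotient.mk_smul, Submodule.Quotient.eq] at h1
    obtain ⟨k, -, hk⟩ := h1
    exact ⟨y + k, by rw [map_add, hk, add_sub_cancel]⟩
  refine ⟨dι I M m ((LinearEquiv.ofInjective j hj).symm.toLinearMap ∘ₗ
    (LinearMap.toSpanSingleton R E x ∘ₗ (I ^ m).subtype).codRestrict _ hmem), ?_⟩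
  have hinj : Function.Injective j' := by
    refine (injective_iff_map_eq_zero j').mpr fun y hy => ?_
    obtain ⟨y, rfl⟩ := hg y
    rw [hj'g, Submodule.Quotient.mk_eq_zero] at hy
    obtain ⟨k, hk, hjk⟩ := hy
    rw [← hj hjk]
    exact hk
  rw [map_dι, ← dι_res hm ψ]
  congr 1
  ext a
  apply hinj
  have h1 : (a : R) • (Submodule.Quotient.mk x : E ⧸ K') =
      j' (ψ (Submodule.inclusion (powLe hm) a)) :=
    sub_eq_zero.mp (LinearMap.congr_fun hq a)
  change j' (g _) = j' (ψ _)
  rw [hj'g, ← h1, ← Submodule.Quotient.mk_smul]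
  exact congrArg Submodule.Quotient.mk
    (congrArg Subtype.val ((LinearEquiv.ofInjective j hj).apply_symm_apply _))

theorem exact_iff_cdLE_one (I : Ideal R) :
    (PreservesFiniteLimits (LocCoh.idealTransform I) ∧ PreservesFiniteColimits (LocCoh.idealTransform I))
      ↔ LocCoh.CdLE R I 1 := by
  constructor
  · rintro ⟨_, _⟩
    refine cdLE_one_of_surjective I fun E Q g hg => ?_
    haveI : Epi g := (ModuleCat.epi_iff_surjective _).mpr hg
    exact (ModuleCat.epi_iff_surjective ((LocCoh.idealTransform I).map g)).mp inferInstance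
  · refine fun h => ⟨inferInstance, ?_⟩
    refine (Functor.preservesFiniteColimits_iff_forall_exact_map_and_epi _).mpr fun S hS => ⟨?_, ?_⟩
    · exact ((Functor.preservesFiniteLimits_iff_forall_exact_map_and_mono _).mp inferInstance S hS).1
    · exact (ModuleCat.epi_iff_surjective _).mpr
        (surjective_dmap_of_cdLE h S.g.hom ((ModuleCat.epi_iff_surjective _).mp hS.epi_g))

/-- An exact ideal transform forces `I D_I(R) = D_I(R)`. -/
theorem smul_top_of_cdLE {I : Ideal R} (h : LocCoh.CdLE R I 1) :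
    I • (⊤ : Submodule R (LocCoh.DT I R)) = ⊤ := by
  obtain ⟨k, a, ha⟩ := Submodule.fg_iff_exists_fin_generating_family.mp (IsNoetherian.noetherian I)
  have hak : ∀ i, a i ∈ I := fun i => ha ▸ Submodule.subset_span ⟨i, rfl⟩
  let P : (Fin k → R) →ₗ[R] I := ∑ i, (LinearMap.proj i).smulRight (⟨a i, hak i⟩ : I)
  have hP : Function.Surjective P := by
    rintro ⟨y, hy⟩
    rw [← ha, Submodule.mem_span_range_iff_exists_fun] at hy
    obtain ⟨c, hc⟩ := hy
    exact ⟨c, Subtype.ext (by simp [P, ← hc])⟩
  have hι : Function.Surjective (dmap I I.subtype) :=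
    (bijective_dmap I.subtype (by simp) fun y => ⟨1, fun b hb => by
      obtain ⟨y, rfl⟩ := Submodule.Quotient.mk_surjective _ y
      rw [← Submodule.Quotient.mk_smul, Submodule.Quotient.mk_eq_zero, Submodule.range_subtype]
      exact Ideal.mul_mem_right _ _ (by simpa using hb)⟩).2
  refine eq_top_iff.mpr fun z _ => ?_
  obtain ⟨z', rfl⟩ := hι z
  obtain ⟨w, rfl⟩ := surjective_dmap_of_cdLE h P hP z'
  obtain ⟨n, φ, rfl⟩ := exists_dι w
  rw [map_dι, map_dι, show I.subtype ∘ₗ P ∘ₗ φ = ∑ i, a i • (LinearMap.proj i ∘ₗ φ) by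
    ext c; simp [P, mul_comm], map_sum]
  refine Submodule.sum_mem _ fun i _ => ?_
  rw [map_smul]
  exact Submodule.smul_mem_smul (hak i) trivial

/-- `I D_I(R) = D_I(R)` forces vanishing above degree one. -/
theorem cdLE_of_smul_top {I : Ideal R} (h : I • (⊤ : Submodule R (LocCoh.DT I R)) = ⊤) :
    LocCoh.CdLE R I 1 := by
  intro M _ _ i hi
  have hI : I.FG := IsNoetherian.noetherian I
  let N := LocCoh.DT I M
  let ev : M →ₗ[R] (LocCoh.DT I R →ₗ[R] N) :=
    { toFun := fun m => dmap I (LinearMap.toSpanSingleton R M m)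
      map_add' := fun m m' => by
        ext z
        obtain ⟨n, φ, rfl⟩ := exists_dι z
        rw [LinearMap.add_apply, map_dι, map_dι, map_dι, ← map_add]
        congr 1
        ext c
        exact smul_add _ m m'
      map_smul' := fun r m => by
        ext z
        obtain ⟨n, φ, rfl⟩ := exists_dι z
        rw [RingHom.id_apply, LinearMap.smul_apply, map_dι, map_dι, ← map_smul]
        congr 1
        ext c
        exact smul_comm _ r m }
  let T := LinearEquiv.ofBijective _ (bijective_toDT_DT I M)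
  let μ : LocCoh.DT I R → (N →ₗ[R] N) := fun z => T.symm.toLinearMap ∘ₗ dmap I (ev.flip z)
  have hμ : ∀ z, μ z ∘ₗ LocCoh.toDT I M = ev.flip z := fun z => LinearMap.ext fun m => T.injective (by
    simp only [μ, LinearMap.comp_apply, LinearEquiv.coe_coe, LinearEquiv.apply_symm_apply]
    exact map_toDT (ev.flip z) m)
  have huniq : ∀ f g : N →ₗ[R] N, f ∘ₗ LocCoh.toDT I M = g ∘ₗ LocCoh.toDT I M → f = g :=
    fun f g => hom_ext_of_coker hI _ isPowerTorsion_coker
  have h1 : LinearMap.id ∈ I • (⊤ : Submodule R (N →ₗ[R] N)) := by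
    let μl : LocCoh.DT I R →ₗ[R] (N →ₗ[R] N) :=
      { toFun := μ
        map_add' := fun z w => huniq _ _ (by rw [LinearMap.add_comp, hμ, hμ, hμ, map_add])
        map_smul' := fun r z => huniq _ _ (by rw [RingHom.id_apply, LinearMap.smul_comp, hμ, hμ, map_smul]) }
    have hid : μl (LocCoh.toDT I R 1) = LinearMap.id := huniq _ _ ((hμ _).trans (LinearMap.ext fun m => by
      change dmap I (LinearMap.toSpanSingleton R M m) (LocCoh.toDT I R 1) = LocCoh.toDT I M m
      rw [map_toDT, LinearMap.toSpanSingleton_apply, one_smul]))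
    rw [← hid]
    have := Submodule.mem_map_of_mem (f := μl) (h.ge (Submodule.mem_top (x := LocCoh.toDT I R 1)))
    rw [Submodule.map_smul''] at this
    exact Submodule.smul_mono le_rfl le_top this
  have hpow : ∀ n : ℕ, LinearMap.id ∈ I ^ n • (⊤ : Submodule R (N →ₗ[R] N)) := by
    intro n
    induction n with
    | zero => simp
    | succ n ih =>
      have hle : (⊤ : Submodule R (N →ₗ[R] N)) ≤ I ^ n • ⊤ := fun f _ => by
        have := Submodule.mem_map_of_mem (f := LinearMap.llcomp R N N N f) ih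
        rw [Submodule.map_smul''] at this
        exact Submodule.smul_mono le_rfl le_top this
      rw [pow_succ', Submodule.mul_smul]
      exact Submodule.smul_mono le_rfl hle h1
  refine subsingleton_of_forall_eq 0 fun w => ?_
  refine (bijective_map_of_torsion (LocCoh.toDT I M) ker_toDT.le isPowerTorsion_coker i hi).1 ?_
  rw [map_zero]
  generalize ((localCohomology I i).map (ModuleCat.ofHom (LocCoh.toDT I M))).hom w = v
  obtain ⟨n, hn⟩ := isPowerTorsion v
  have : ∀ f ∈ I ^ n • (⊤ : Submodule R (N →ₗ[R] N)),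
      ((localCohomology I i).map (ModuleCat.ofHom f)).hom v = 0 := by
    intro f hf
    induction hf using Submodule.smul_induction_on' with
    | smul r hr g _ =>
      rw [show ModuleCat.ofHom (r • g) = ModuleCat.ofHom g ≫ (r • 𝟙 (ModuleCat.of R N)) from rfl,
        Functor.map_comp]
      exact (map_smul_id I i (ModuleCat.of R N) r _).trans (by rw [← map_smul, hn r hr, map_zero])
    | add g _ g' _ hg hg' =>
      rw [ModuleCat.ofHom_add, (localCohomology I i).map_add, ModuleCat.hom_add, LinearMap.add_apply,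
        hg, hg', add_zero]
  have h2 := this LinearMap.id (hpow n)
  rw [show ModuleCat.ofHom (LinearMap.id : N →ₗ[R] N) = 𝟙 (ModuleCat.of R N) from rfl,
    CategoryTheory.Functor.map_id] at h2
  exact h2

end Groth.Agent.LocCohLib
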