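import Mathlib
import Groth.Agent.LocCohLib.Annihilated
import Groth.Agent.LocCohLib.Depth

/-! The easy direction of Faltings' annihilator theorem. -/

open CategoryTheory Limits

namespace Groth.Agent.LocCohLib

universe u

variable {R : Type u} [CommRing R] [IsNoetherianRing R]

/-- Locally at `q`, the power `s ^ N` kills `H^i_q(M)` for all `i ≤ n`. -/
def KillAt (q : Ideal R) (s : R) (n N : ℕ) (M : Type u) [AddCommGroup M] [Module R M] : Prop :=
  ∀ i : ℕ, i ≤ n → ∀ z : LocCoh.H q i M, ∃ c ∉ q, (c * s ^ N) • z = 0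

lemma exists_prime_between {p q : Ideal R} [p.IsPrime] [q.IsPrime] {s : R} (hpq : p ≤ q) (hsq : s ∈ q)
    (hsp : s ∉ p) : ∃ q' : Ideal R, q'.IsPrime ∧ p ≤ q' ∧ q' < q ∧ s ∉ q' ∧
      ∀ P : Ideal R, P.IsPrime → q' ≤ P → P ≤ q → P = q' ∨ P = q := by
  classical
  obtain ⟨q', ⟨hq', hpq', hq'q, hsq'⟩, hmax⟩ := (wellFounded_gt (α := Ideal R)).has_min
    {P | P.IsPrime ∧ p ≤ P ∧ P ≤ q ∧ s ∉ P} ⟨p, inferInstance, le_rfl, hpq, hsp⟩
  refine ⟨q', hq', hpq', lt_of_le_of_ne hq'q fun h => hsq' (h ▸ hsq), hsq', ?_⟩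
  by_contra hcon
  push Not at hcon
  obtain ⟨P, hP, hle, hPq, hne, hne'⟩ := hcon
  have hsP : s ∈ P := by
    by_contra hsP
    exact hmax P ⟨hP, hpq'.trans hle, hPq, hsP⟩ (lt_of_le_of_ne hle (Ne.symm hne))
  have hfin := Ideal.finite_minimalPrimes_of_isNoetherianRing R (q' ⊔ Ideal.span {s})
  obtain ⟨x, hxq, hx⟩ : ∃ x ∈ q, ∀ m ∈ (q' ⊔ Ideal.span {s}).minimalPrimes, x ∉ m := by
    by_contra hno
    push Not at hno
    have hsub : (q : Set R) ⊆ ⋃ m ∈ (hfin.toFinset : Set (Ideal R)), (m : Set R) := fun y hy => by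
      obtain ⟨m, hm, hym⟩ := hno y hy
      exact Set.mem_iUnion₂.mpr ⟨m, hfin.mem_toFinset.mpr hm, hym⟩
    obtain ⟨m, hm, hqm⟩ := (Ideal.subset_union_prime (⊥ : Ideal R) ⊥
      fun m hm _ _ => (hfin.mem_toFinset.mp hm).1.1).mp hsub
    have hm' := hfin.mem_toFinset.mp hm
    have hPm : m ≤ P := hm'.2 ⟨hP, sup_le hle ((Ideal.span_singleton_le_iff_mem P).mpr hsP)⟩
      (hPq.trans hqm)
    exact hne' (le_antisymm hPq (hqm.trans hPm))
  obtain ⟨Q, hQ, hQq⟩ := Ideal.exists_minimalPrimes_le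
    (sup_le hq'q ((Ideal.span_singleton_le_iff_mem q).mpr hxq) : q' ⊔ Ideal.span {x} ≤ q)
  haveI : Q.IsPrime := hQ.1.1
  have hxQ : x ∈ Q := hQ.1.2 (Ideal.mem_sup_right (Ideal.mem_span_singleton_self x))
  have hq'Q : q' ≤ Q := le_sup_left.trans hQ.1.2
  have hsQ : s ∈ Q := by
    by_contra hsQ
    have heq : Q = q' := by
      by_contra h
      exact hmax Q ⟨hQ.1.1, hpq'.trans hq'Q, hQq, hsQ⟩ (lt_of_le_of_ne hq'Q (Ne.symm h))
    obtain ⟨m, hm, -⟩ := Ideal.exists_minimalPrimes_le
      (sup_le hle ((Ideal.span_singleton_le_iff_mem P).mpr hsP) : q' ⊔ Ideal.span {s} ≤ P)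
    exact hx m hm (hm.1.2 (Ideal.mem_sup_left (heq ▸ hxQ)))
  obtain ⟨m, hm, hmQ⟩ := Ideal.exists_minimalPrimes_le
    (sup_le hq'Q ((Ideal.span_singleton_le_iff_mem Q).mpr hsQ) : q' ⊔ Ideal.span {s} ≤ Q)
  haveI : m.IsPrime := hm.1.1
  have hq'm : q' ≤ m := le_sup_left.trans hm.1.2
  -- in the domain `R ⧸ q'` this gives a chain of length two below a principal minimal prime
  let π := Ideal.Quotient.mk q'
  have hπ : Function.Surjective π := Ideal.Quotient.mk_surjective
  haveI := hq'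
  haveI : (m.map π).IsPrime := Ideal.map_isPrime_of_surjective hπ (by rwa [Ideal.mk_ker])
  haveI : (Q.map π).IsPrime := Ideal.map_isPrime_of_surjective hπ (by rwa [Ideal.mk_ker])
  have hcomap : ∀ J : Ideal R, q' ≤ J → (J.map π).comap π = J := fun J hJ => by
    rw [Ideal.comap_map_of_surjective π hπ, ← RingHom.ker_eq_comap_bot, Ideal.mk_ker, sup_eq_left]
    exact hJ
  have h1 : (⊥ : Ideal (R ⧸ q')) < m.map π := bot_lt_iff_ne_bot.mpr fun h => hsq' <| by
    have := congrArg (Ideal.comap π) h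
    rw [hcomap m hq'm, ← RingHom.ker_eq_comap_bot, Ideal.mk_ker] at this
    exact this ▸ hm.1.2 (Ideal.mem_sup_right (Ideal.mem_span_singleton_self s))
  have h2 : m.map π < Q.map π := lt_of_le_of_ne (Ideal.map_mono hmQ) fun h => hx m hm <| by
    have := congrArg (Ideal.comap π) h
    rw [hcomap m hq'm, hcomap Q hq'Q] at this
    exact this ▸ hxQ
  have hh := Ideal.map_height_le_one_of_mem_minimalPrimes hQ
  have h3 := Ideal.height_strict_mono_of_isPrime h2
  have h4 : (1 : ℕ∞) ≤ (m.map π).height :=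
    Order.one_le_iff_pos.mpr (lt_of_le_of_lt zero_le (Ideal.height_strict_mono_of_isPrime h1))
  exact lt_irrefl _ (lt_of_lt_of_le (lt_of_le_of_lt h4 h3) hh)

/-- If no prime other than `q` lies over `J` below `q`, a power of `q` falls into `J` locally at `q`. -/
lemma exists_notMem_mul_pow_le {J q : Ideal R} [q.IsPrime]
    (h : ∀ P : Ideal R, P.IsPrime → J ≤ P → P ≤ q → P = q) :
    ∃ c ∉ q, ∃ m : ℕ, ∀ b ∈ q ^ m, c * b ∈ J := by
  classical
  have hfin := Ideal.finite_minimalPrimes_of_isNoetherianRing R J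
  have hne : ∀ P ∈ hfin.toFinset.erase q, ∃ y ∈ P, y ∉ q := fun P hP => by
    obtain ⟨hPne, hP⟩ := Finset.mem_erase.mp hP
    by_contra hcon
    push Not at hcon
    exact hPne (h P (hfin.mem_toFinset.mp hP).1.1 (hfin.mem_toFinset.mp hP).1.2 hcon)
  choose y hyP hyq using hne
  let c := ∏ P ∈ (hfin.toFinset.erase q).attach, y P.1 P.2
  have hc : c ∉ q := fun hc => by
    obtain ⟨P, -, hP⟩ := (Ideal.IsPrime.prod_mem_iff (p := q)).mp hc
    exact hyq P.1 P.2 hP
  have hrad : Ideal.span {c} * q ≤ J.radical := by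
    rw [← J.sInf_minimalPrimes, Ideal.mul_le]
    intro a ha b hb
    refine Ideal.mem_sInf.mpr fun {P} hP => ?_
    by_cases hPq : P = q
    · exact P.mul_mem_left _ (hPq ▸ hb)
    · obtain ⟨d, rfl⟩ := Ideal.mem_span_singleton'.mp ha
      have hmem : (⟨P, Finset.mem_erase.mpr ⟨hPq, hfin.mem_toFinset.mpr hP⟩⟩ :
          {x // x ∈ hfin.toFinset.erase q}) ∈ (hfin.toFinset.erase q).attach := Finset.mem_attach _ _
      exact P.mul_mem_right _ (P.mul_mem_left _ (Ideal.mem_of_dvd _ (Finset.dvd_prod_of_mem _ hmem)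
        (hyP _ _)))
  obtain ⟨m, hm⟩ := Ideal.exists_pow_le_of_le_radical_of_fg hrad (IsNoetherian.noetherian _)
  refine ⟨c ^ m, fun hcm => hc (Ideal.IsPrime.mem_of_pow_mem inferInstance m hcm), m, fun b hb => hm ?_⟩
  rw [mul_pow]
  exact Ideal.mul_mem_mul (Ideal.pow_mem_pow (Ideal.mem_span_singleton_self c) m) hb

/-- A scalar mapping a module into its `q`-torsion kills positive degree local cohomology. -/
lemma smul_H_eq_zero_of_smul_torsion (q : Ideal R) (T : Type u) [AddCommGroup T] [Module R T] (c : R)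
    (hc : ∀ x : T, c • x ∈ DRing.torsionSub q T) (i : ℕ) (z : LocCoh.H q (i + 1) T) : c • z = 0 := by
  let g : T →ₗ[R] DRing.torsionSub q T := (LinearMap.lsmul R T c).codRestrict _ hc
  haveI : Subsingleton ((localCohomology q (i + 1)).obj (ModuleCat.of R (DRing.torsionSub q T)) : Type u) :=
    subsingleton_of_torsion (ModuleCat.of R (DRing.torsionSub q T)) (fun x => by
      obtain ⟨n, hn⟩ := x.2
      exact ⟨n, fun a ha => Subtype.ext (hn a ha)⟩) i
  rw [← map_smul_id q (i + 1) (ModuleCat.of R T) c z,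
    show c • 𝟙 (ModuleCat.of R T) = ModuleCat.ofHom g ≫
      ModuleCat.ofHom (DRing.torsionSub q T).subtype from rfl, Functor.map_comp]
  exact (congrArg ((localCohomology q (i + 1)).map (ModuleCat.ofHom (DRing.torsionSub q T).subtype)).hom
    (Subsingleton.elim _ 0)).trans (map_zero _)

/-- A covering step: `q'` is not associated if `H^1_q` is killed by a power of `s` locally. -/
lemma notMem_associatedPrimes {q' q : Ideal R} [q'.IsPrime] [q.IsPrime] (hlt : q' < q) {s : R}
    (hsq : s ∈ q) (hsq' : s ∉ q') (hcov : ∀ P : Ideal R, P.IsPrime → q' ≤ P → P ≤ q → P = q' ∨ P = q)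
    (M : Type u) [AddCommGroup M] [Module R M] [Module.Finite R M] {N : ℕ} {n : ℕ} (hn : 1 ≤ n)
    (hK : KillAt q s n N M) : q' ∉ associatedPrimes R M := by
  intro hass
  obtain ⟨-, f, hf⟩ := (isAssociatedPrime_iff_exists_injective_linearMap _ _).mp hass
  have hS := injSeq_shortExact f hf
  haveI := finite_H0 q (ModuleCat.of R (M ⧸ LinearMap.range f))
  obtain ⟨k, hk⟩ := exists_pow_smul_eq_zero_of_fg (I := q)
    (P := (⊤ : Submodule R (LocCoh.H q 0 (M ⧸ LinearMap.range f)))) Module.Finite.fg_top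
    fun x _ => isPowerTorsion x
  -- hence a power of `s` kills `H^1_q(R ⧸ q')` locally
  have hkill : ∀ z : LocCoh.H q 1 (R ⧸ q'), ∃ c ∉ q, (c * s ^ (N + k)) • z = 0 := fun z => by
    obtain ⟨c, hc, hcz⟩ := hK 1 hn (((localCohomology q 1).map (injSeq f).f).hom z)
    obtain ⟨w, hw⟩ := exists_of_map_f_eq_zero q hS 0 ((c * s ^ N) • z) (by rw [map_smul]; exact hcz)
    refine ⟨c, hc, ?_⟩
    have hw0 : (s ^ k : R) • w = 0 := hk _ (Ideal.pow_mem_pow hsq k) w trivial
    rw [pow_add, ← mul_assoc, mul_comm (c * s ^ N), mul_smul, ← hw, ← map_smul, hw0, map_zero]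
  let K := N + k
  let g : R ⧸ q' →ₗ[R] R ⧸ q' := LinearMap.lsmul R (R ⧸ q') (s ^ (K + 1))
  have hreg : ∀ (j : ℕ) (x : R ⧸ q'), s ^ j • x = 0 → x = 0 := by
    intro j x hx
    obtain ⟨x, rfl⟩ := Ideal.Quotient.mk_surjective x
    refine Ideal.Quotient.eq_zero_iff_mem.mpr ((Ideal.IsPrime.mem_or_mem inferInstance
      (Ideal.Quotient.eq_zero_iff_mem.mp hx : s ^ j * x ∈ q')).resolve_left
        fun h => hsq' (Ideal.IsPrime.mem_of_pow_mem inferInstance j h))
  have hg : Function.Injective g := (injective_iff_map_eq_zero g).mpr (hreg (K + 1))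
  have hS' := injSeq_shortExact g hg
  obtain ⟨c₀, hc₀, m, hm⟩ := exists_notMem_mul_pow_le (J := q' ⊔ Ideal.span {s ^ (K + 1)}) (q := q)
    fun P hP hJP hPq => (hcov P hP (le_sup_left.trans hJP) hPq).resolve_left fun h =>
      hsq' (Ideal.IsPrime.mem_of_pow_mem inferInstance (K + 1)
        (h ▸ hJP (Ideal.mem_sup_right (Ideal.mem_span_singleton_self _))))
  let Q := (R ⧸ q') ⧸ LinearMap.range g
  have hQ : ∀ r : R, r ∈ q' ⊔ Ideal.span {s ^ (K + 1)} →
      (Submodule.Quotient.mk (Ideal.Quotient.mk q' r) : Q) = 0 := by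
    intro r hr
    obtain ⟨a, ha, b, hb, rfl⟩ := Submodule.mem_sup.mp hr
    obtain ⟨d, rfl⟩ := Ideal.mem_span_singleton'.mp hb
    refine (Submodule.Quotient.mk_eq_zero _).mpr ⟨Ideal.Quotient.mk q' d, ?_⟩
    rw [map_add, Ideal.Quotient.eq_zero_iff_mem.mpr ha, zero_add, map_mul, mul_comm]
    rfl
  have htor : (Submodule.Quotient.mk (Ideal.Quotient.mk q' c₀) : Q) ∈ DRing.torsionSub q Q := by
    refine ⟨m, fun b hb => ?_⟩
    rw [← Submodule.Quotient.mk_smul]
    exact hQ (b * c₀) (mul_comm b c₀ ▸ hm b hb)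
  let e₀ : LocCoh.H q 0 Q := (h0Equiv q (ModuleCat.of R Q)).symm ⟨_, htor⟩
  have he₀ : h0 q (ModuleCat.of R Q) e₀ = (Submodule.Quotient.mk (Ideal.Quotient.mk q' c₀) : Q) := by
    rw [← h0Equiv_coe, LinearEquiv.apply_symm_apply]
  obtain ⟨c, hc, hcz⟩ := hkill (δ q hS' 0 e₀)
  obtain ⟨w, hw⟩ := exists_of_δ_eq_zero q hS' 0 ((c * s ^ K) • e₀) (by rw [map_smul]; exact hcz)
  have hw0 : w = 0 := by
    apply h0_injective
    rw [map_zero]
    obtain ⟨j, hj⟩ := (range_h0 (I := q) (M := (injSeq g).X₂)).le ⟨w, rfl⟩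
    exact hreg j _ (hj _ (Ideal.pow_mem_pow hsq j))
  rw [hw0, map_zero] at hw
  have h1 := congrArg (h0 q (ModuleCat.of R Q)) hw.symm
  rw [map_zero, map_smul, he₀, ← Submodule.Quotient.mk_smul, Submodule.Quotient.mk_eq_zero] at h1
  obtain ⟨d, hd⟩ := h1
  obtain ⟨d, rfl⟩ := Ideal.Quotient.mk_surjective d
  have hmem : s ^ K * (c * c₀ - s * d) ∈ q' := by
    rw [show s ^ K * (c * c₀ - s * d) = c * s ^ K * c₀ - s ^ (K + 1) * d by ring]
    exact (Ideal.Quotient.eq.mp (hd.symm : Ideal.Quotient.mk q' (c * s ^ K * c₀) =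
      Ideal.Quotient.mk q' (s ^ (K + 1) * d)))
  have h2 : c * c₀ - s * d ∈ q := hlt.le ((Ideal.IsPrime.mem_or_mem inferInstance hmem).resolve_left
    fun h => hsq' (Ideal.IsPrime.mem_of_pow_mem inferInstance K h))
  have h3 : c * c₀ ∈ q := by
    have := q.add_mem h2 (q.mul_mem_right d hsq)
    rwa [sub_add_cancel] at this
  exact (Ideal.IsPrime.mem_or_mem inferInstance h3).elim hc hc₀

/-- Covering step of the annihilator theorem. -/
theorem loc_of_killAt_covering {q' q : Ideal R} [q'.IsPrime] [q.IsPrime] (hlt : q' < q) {s : R}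
    (hsq : s ∈ q) (hsq' : s ∉ q') (hcov : ∀ P : Ideal R, P.IsPrime → q' ≤ P → P ≤ q → P = q' ∨ P = q) :
    ∀ (n N : ℕ) (M : Type u) [AddCommGroup M] [Module R M] [Module.Finite R M], KillAt q s n N M →
      ∀ j : ℕ, j < n → ∀ z : LocCoh.H q' j M, ∃ c ∉ q', c • z = 0 := by
  intro n
  induction n with
  | zero => intro N M _ _ _ _ j hj; omega
  | succ n ih =>
    intro N M _ _ _ hK
    have hass := notMem_associatedPrimes hlt hsq hsq' hcov M (Nat.succ_pos n) hK
    let T := DRing.torsionSub q' M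
    haveI : Module.Finite R T := Module.Finite.of_fg (IsNoetherian.noetherian T)
    obtain ⟨k, hk⟩ := exists_pow_smul_eq_zero_of_fg (I := q') (P := T) (IsNoetherian.noetherian T)
      fun x hx => hx
    obtain ⟨d, hd, hdT⟩ : ∃ d ∉ q', ∀ x : T, d • x = 0 := by
      by_contra hcon
      push Not at hcon
      have hle : Module.annihilator R T ≤ q' := fun a ha => by
        by_contra haq
        obtain ⟨x, hx⟩ := hcon a haq
        exact hx (Module.mem_annihilator.mp ha x)
      have hmem : (⟨q', inferInstance⟩ : PrimeSpectrum R) ∈ Module.support R T :=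
        Module.mem_support_iff_of_finite.mpr hle
      have hmin : q' ∈ (Module.annihilator R T).minimalPrimes := by
        refine ⟨⟨inferInstance, hle⟩, fun P hP hPq => ?_⟩
        exact fun a ha => hP.1.mem_of_pow_mem k (hP.2 (Module.mem_annihilator.mpr fun x =>
          Subtype.ext (hk _ (Ideal.pow_mem_pow ha k) x x.2)))
      exact hass (associatedPrimes.subset_of_injective (f := T.subtype) Subtype.val_injective
        (Module.associatedPrimes.minimalPrimes_annihilator_subset_associatedPrimes R T hmin))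
    obtain ⟨c₀, hc₀, m, hm⟩ := exists_notMem_mul_pow_le (J := q' ^ k ⊔ Ideal.span {d}) (q := q)
      fun P hP hJP hPq => (hcov P hP (fun a ha => hP.mem_of_pow_mem k
          (hJP (Ideal.mem_sup_left (Ideal.pow_mem_pow ha k)))) hPq).resolve_left
        fun h => hd (h ▸ hJP (Ideal.mem_sup_right (Ideal.mem_span_singleton_self d)))
    have hJT : ∀ a ∈ q' ^ k ⊔ Ideal.span {d}, ∀ x : T, a • x = 0 := by
      intro a ha x
      obtain ⟨a1, ha1, b, hb, rfl⟩ := Submodule.mem_sup.mp ha
      obtain ⟨e, rfl⟩ := Ideal.mem_span_singleton'.mp hb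
      rw [add_smul, mul_smul, hdT, smul_zero, add_zero]
      exact Subtype.ext (hk a1 ha1 x x.2)
    have hTq : ∀ (i : ℕ) (z : LocCoh.H q (i + 1) T), c₀ • z = 0 :=
      smul_H_eq_zero_of_smul_torsion q T c₀ fun x => ⟨m, fun b hb => by
        rw [← mul_smul, mul_comm]; exact hJT _ (hm b hb) x⟩
    let Mb := M ⧸ T
    have hKb : KillAt q s (n + 1) N Mb := fun i hi z => by
      obtain ⟨w, hw⟩ := exists_of_δ_eq_zero q (subSeq_shortExact M T) i (c₀ • z)
        (by rw [map_smul]; exact hTq i _)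
      obtain ⟨c, hc, hcw⟩ := hK i hi w
      refine ⟨c * c₀, fun h => (Ideal.IsPrime.mem_or_mem inferInstance h).elim hc hc₀, ?_⟩
      rw [mul_assoc, mul_comm c₀, ← mul_assoc, mul_smul, ← hw, ← map_smul]
      exact (congrArg _ hcw).trans (map_zero _)
    obtain ⟨x, hx, hreg⟩ := exists_regular_mem q' q' Ideal.le_radical Mb (torsionSub_quot_eq_bot q' M)
    let f : Mb →ₗ[R] Mb := LinearMap.lsmul R Mb x
    have hf : Function.Injective f := (injective_iff_map_eq_zero f).mpr hreg
    have hS := injSeq_shortExact f hf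
    have hKQ : KillAt q s n (N + N) (Mb ⧸ LinearMap.range f) := fun i hi z => by
      obtain ⟨c, hc, hcz⟩ := hKb (i + 1) (by omega) (δ q hS i z)
      obtain ⟨w, hw⟩ := exists_of_δ_eq_zero q hS i ((c * s ^ N) • z) (by rw [map_smul]; exact hcz)
      obtain ⟨c', hc', hcw⟩ := hKb i (by omega) w
      refine ⟨c' * c, fun h => (Ideal.IsPrime.mem_or_mem inferInstance h).elim hc' hc, ?_⟩
      rw [show c' * c * s ^ (N + N) = (c' * s ^ N) * (c * s ^ N) by ring, mul_smul]
      change (c' * s ^ N) • ((c * s ^ N) • z : ((localCohomology q i).obj (injSeq f).X₃ : Type u)) = 0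
      rw [← hw, ← map_smul]
      exact (congrArg _ hcw).trans (map_zero _)
    have hQ := ih (N + N) (Mb ⧸ LinearMap.range f) hKQ
    -- the first `n + 1` groups of the torsion free quotient vanish locally at `q'`
    have hb : ∀ j : ℕ, j < n + 1 → ∀ z : LocCoh.H q' j Mb, ∃ c ∉ q', c • z = 0 := by
      intro j hj
      have hsoc : ∀ z : LocCoh.H q' j Mb, x • z = 0 → ∃ c ∉ q', c • z = 0 := by
        intro z hz
        cases j with
        | zero =>
          refine ⟨1, q'.ne_top_iff_one.mp Ideal.IsPrime.ne_top', ?_⟩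
          rw [one_smul]
          refine h0_injective ((hreg _ ?_).trans (map_zero _).symm)
          rw [← map_smul]
          exact (congrArg _ hz).trans (map_zero _)
        | succ j =>
          obtain ⟨w, hw⟩ := exists_of_map_f_eq_zero q' hS j z (by
            rw [show (injSeq f).f = x • 𝟙 (ModuleCat.of R Mb) from rfl,
              map_smul_id q' (j + 1) (ModuleCat.of R Mb) x z]
            exact hz)
          obtain ⟨c, hc, hcw⟩ := hQ j (by omega) w
          refine ⟨c, hc, ?_⟩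
          rw [← hw, ← map_smul]
          exact (congrArg _ hcw).trans (map_zero _)
      have hpow : ∀ (l : ℕ) (z : LocCoh.H q' j Mb), x ^ l • z = 0 → ∃ c ∉ q', c • z = 0 := by
        intro l
        induction l with
        | zero =>
          intro z hz
          exact ⟨1, q'.ne_top_iff_one.mp Ideal.IsPrime.ne_top', by simpa using hz⟩
        | succ l ihl =>
          intro z hz
          obtain ⟨c, hc, hcz⟩ := ihl (x • z) (by rw [← mul_smul, ← pow_succ]; exact hz)
          obtain ⟨c', hc', hcz'⟩ := hsoc (c • z) (by rw [smul_comm]; exact hcz)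
          exact ⟨c' * c, fun h => (Ideal.IsPrime.mem_or_mem inferInstance h).elim hc' hc,
            by rw [mul_smul]; exact hcz'⟩
      intro z
      obtain ⟨l, hl⟩ := isPowerTorsion z
      exact hpow l z (hl _ (Ideal.pow_mem_pow hx l))
    intro j hj z
    cases j with
    | zero =>
      refine ⟨d, hd, ?_⟩
      apply h0_injective
      rw [map_zero, map_smul]
      exact congrArg Subtype.val (hdT ⟨_, (range_h0 (I := q') (M := ModuleCat.of R M)).le ⟨z, rfl⟩⟩)
    | succ j =>
      obtain ⟨c, hc, hcz⟩ := hb (j + 1) hj (((localCohomology q' (j + 1)).map (subSeq M T).g).hom z)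
      refine ⟨c, hc, quot_torsion_injective q' M j ?_⟩
      rw [map_zero, map_smul]
      exact hcz

/-- Chains: annihilation at `q` forces local vanishing at `p ≤ q`. -/
theorem loc_of_killAt : ∀ (h : ℕ) (p q : Ideal R) [p.IsPrime] [q.IsPrime], p ≤ q →
    (q.map (Ideal.Quotient.mk p)).height ≤ h → ∀ (s : R), s ∉ p → ∀ (n N : ℕ) (M : Type u)
    [AddCommGroup M] [Module R M] [Module.Finite R M], KillAt q s n N M →
      ∀ j : ℕ, j + h ≤ n → ∀ z : LocCoh.H p j M, ∃ c ∉ p, c • z = 0 := by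
  intro h
  induction h using Nat.strong_induction_on with
  | _ h ih =>
    intro p q _ _ hpq hh s hsp n N M _ _ _ hK j hj z
    by_cases heq : p = q
    · subst heq
      obtain ⟨c, hc, hcz⟩ := hK j (by omega) z
      exact ⟨c * s ^ N, fun h => (Ideal.IsPrime.mem_or_mem inferInstance h).elim hc
        fun h' => hsp (Ideal.IsPrime.mem_of_pow_mem inferInstance N h'), hcz⟩
    -- move down one step
    obtain ⟨q', hq', hpq', hq'q, hn', hloc⟩ : ∃ q' : Ideal R, q'.IsPrime ∧ p ≤ q' ∧ q' < q ∧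
        (n = 0 → False) ∧ ∀ i : ℕ, i < n → ∀ z : LocCoh.H q' i M, ∃ c ∉ q', c • z = 0 := by
      have hh0 : h ≠ 0 := by
        rintro rfl
        haveI : (q.map (Ideal.Quotient.mk p)).IsPrime :=
          Ideal.map_isPrime_of_surjective Ideal.Quotient.mk_surjective (by rwa [Ideal.mk_ker])
        have hlt : (⊥ : Ideal (R ⧸ p)) < q.map (Ideal.Quotient.mk p) := bot_lt_iff_ne_bot.mpr fun h0 => by
          rw [Ideal.map_eq_bot_iff_le_ker, Ideal.mk_ker] at h0
          exact heq (le_antisymm hpq h0)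
        exact absurd (Ideal.height_strict_mono_of_isPrime hlt) (not_lt.mpr (le_trans hh (by simp)))
      by_cases hsq : s ∈ q
      · obtain ⟨q', hq', hpq', hlt, hsq', hcov⟩ := exists_prime_between hpq hsq hsp
        exact ⟨q', hq', hpq', hlt, fun hn => by omega,
          loc_of_killAt_covering hlt hsq hsq' hcov n N M hK⟩
      · obtain ⟨t, htq, htp⟩ := SetLike.exists_of_lt (lt_of_le_of_ne hpq heq)
        obtain ⟨q', hq', hpq', hlt, htq', hcov⟩ := exists_prime_between hpq htq htp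
        refine ⟨q', hq', hpq', hlt, fun hn => by omega,
          loc_of_killAt_covering hlt htq htq' hcov n 0 M fun i hi z => ?_⟩
        obtain ⟨c, hc, hcz⟩ := hK i hi z
        exact ⟨c * s ^ N, fun h => (Ideal.IsPrime.mem_or_mem inferInstance h).elim hc
          fun h' => hsq (Ideal.IsPrime.mem_of_pow_mem inferInstance N h'), by
            rw [pow_zero, mul_one]; exact hcz⟩
    haveI := hq'
    haveI : (q'.map (Ideal.Quotient.mk p)).IsPrime :=
      Ideal.map_isPrime_of_surjective Ideal.Quotient.mk_surjective (by rwa [Ideal.mk_ker])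
    have hlt : q'.map (Ideal.Quotient.mk p) < q.map (Ideal.Quotient.mk p) :=
      lt_of_le_of_ne (Ideal.map_mono hq'q.le) fun h0 => hq'q.ne <| by
        have := congrArg (Ideal.comap (Ideal.Quotient.mk p)) h0
        rwa [Ideal.comap_map_of_surjective _ Ideal.Quotient.mk_surjective,
          Ideal.comap_map_of_surjective _ Ideal.Quotient.mk_surjective, ← RingHom.ker_eq_comap_bot,
          Ideal.mk_ker, sup_eq_left.mpr hpq', sup_eq_left.mpr hpq] at this
    have hlt' : (q'.map (Ideal.Quotient.mk p)).height < h :=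
      lt_of_lt_of_le (Ideal.height_strict_mono_of_isPrime hlt) hh
    obtain ⟨h', hh'⟩ := ENat.ne_top_iff_exists.mp (ne_top_of_lt hlt')
    rw [← hh'] at hlt'
    have hh'h : h' < h := by exact_mod_cast hlt'
    refine ih h' hh'h p q' hpq' hh'.ge 1 (fun h1 => Ideal.IsPrime.ne_top' ((Ideal.eq_top_iff_one p).mpr h1))
      (n - 1) 0 M (fun i hi z => ?_) j (by omega) z
    obtain ⟨c, hc, hcz⟩ := hloc i (by omega) z
    exact ⟨c, hc, by rw [pow_zero, mul_one]; exact hcz⟩

/-- Killing `H^i_a` for `i ≤ n` kills `H^i_q` for `i ≤ n` when `a ≤ q`. -/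
theorem exists_kill_of_le {a q : Ideal R} (haq : a ≤ q) (s : R) : ∀ (n N : ℕ), ∃ N' : ℕ,
    ∀ (M : Type u) [AddCommGroup M] [Module R M] [Module.Finite R M],
      (∀ i : ℕ, i ≤ n → ∀ z : LocCoh.H a i M, s ^ N • z = 0) →
        ∀ i : ℕ, i ≤ n → ∀ z : LocCoh.H q i M, s ^ N' • z = 0 := by
  intro n
  induction n with
  | zero =>
    intro N
    refine ⟨N, fun M _ _ _ h i hi z => ?_⟩
    obtain rfl := Nat.le_zero.mp hi
    apply h0_injective
    rw [map_zero, map_smul]
    obtain ⟨w, hw⟩ : (h0 q (ModuleCat.of R M) z : M) ∈ LinearMap.range (h0 a (ModuleCat.of R M)) := by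
      rw [range_h0]
      exact torsionSub_mono haq M ((range_h0 (I := q) (M := ModuleCat.of R M)).le ⟨z, rfl⟩)
    rw [← hw, ← map_smul]
    exact (congrArg _ (h 0 le_rfl w)).trans (map_zero _)
  | succ n ih =>
    intro N
    obtain ⟨N₀, hN₀⟩ := ih N
    obtain ⟨N₁, hN₁⟩ := ih (N + N)
    refine ⟨N₀ + (N + N₁), fun M _ _ _ h i hi z => ?_⟩
    rcases Nat.lt_or_eq_of_le hi with hi | rfl
    · rw [add_comm N₀, pow_add, mul_smul, hN₀ M (fun i hi => h i (by omega)) i (by omega) z, smul_zero]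
    let T := DRing.torsionSub a M
    let Mb := M ⧸ T
    have hb : ∀ i : ℕ, i ≤ n + 1 → ∀ z : LocCoh.H a i Mb, s ^ N • z = 0 := fun i hi z => by
      obtain ⟨w, rfl⟩ := quot_torsion_surjective a M i z
      rw [← map_smul, h i hi w]
      exact map_zero _
    have hT : ∀ x : T, s ^ N • x = 0 := fun x => by
      obtain ⟨w, hw⟩ : (x : M) ∈ LinearMap.range (h0 a (ModuleCat.of R M)) := by rw [range_h0]; exact x.2
      refine Subtype.ext ?_
      rw [Submodule.coe_smul, ← hw, ← map_smul]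
      exact (congrArg _ (h 0 (by omega) w)).trans (map_zero _)
    obtain ⟨x, hx, hreg⟩ := exists_regular_mem a a Ideal.le_radical Mb (torsionSub_quot_eq_bot a M)
    have hbz : ∀ y : LocCoh.H q (n + 1) Mb, s ^ N₁ • y = 0 := by
      intro y
      obtain ⟨k, hk⟩ := isPowerTorsion y
      let f : Mb →ₗ[R] Mb := LinearMap.lsmul R Mb (x ^ k)
      have hf : Function.Injective f := (injective_iff_map_eq_zero f).mpr fun v hv => by
        clear hk
        induction k generalizing v with
        | zero => simpa [f] using hv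
        | succ k ihk =>
          change x ^ (k + 1) • v = 0 at hv
          rw [pow_succ', mul_smul] at hv
          exact ihk v (hreg _ hv)
      have hS := injSeq_shortExact f hf
      obtain ⟨w, hw⟩ := exists_of_map_f_eq_zero q hS n y (by
        rw [show (injSeq f).f = x ^ k • 𝟙 (ModuleCat.of R Mb) from rfl,
          map_smul_id q (n + 1) (ModuleCat.of R Mb) (x ^ k) y]
        exact hk _ (Ideal.pow_mem_pow (haq hx) k))
      have hQ : ∀ i : ℕ, i ≤ n → ∀ v : LocCoh.H a i (Mb ⧸ LinearMap.range f), s ^ (N + N) • v = 0 := by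
        intro i hi v
        obtain ⟨v', hv'⟩ := exists_of_δ_eq_zero a hS i (s ^ N • v)
          (by rw [map_smul]; exact hb (i + 1) (by omega) _)
        rw [pow_add, mul_smul]
        change s ^ N • (s ^ N • v : ((localCohomology a i).obj (injSeq f).X₃ : Type u)) = 0
        rw [← hv', ← map_smul]
        exact (congrArg _ (hb i (by omega) v')).trans (map_zero _)
      rw [← hw, ← map_smul]
      exact (congrArg _ (hN₁ _ hQ n le_rfl w)).trans (map_zero _)
    obtain ⟨v, hv⟩ := exists_of_map_g_eq_zero q (subSeq_shortExact M T) (n + 1) (s ^ N₁ • z)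
      (by rw [map_smul]; exact hbz _)
    have hv0 : s ^ N • v = 0 := by
      rw [← map_smul_id q (n + 1) (ModuleCat.of R T) (s ^ N) v,
        show s ^ N • 𝟙 (ModuleCat.of R T) = 0 from ModuleCat.hom_ext (LinearMap.ext hT)]
      simp
    rw [pow_add, pow_add, mul_smul, mul_smul, ← hv, ← map_smul _ (s ^ N), hv0, map_zero, smul_zero]

end Groth.Agent.LocCohLib
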