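import Mathlib
import Groth.Agent.LocCohLib.Kill
import Groth.Agent.LocCohLib.BaseChange
import Groth.Prelude.Def_W4bk5brsh7111920

/-! Consequences of the annihilation statements. -/

open CategoryTheory Limits

namespace Groth.Agent.LocCohLib

universe u

variable {R : Type u} [CommRing R] [IsNoetherianRing R]

theorem exists_nonzero_at_depth (a : Ideal R) (p : Ideal R) [p.IsPrime] (hap : a ≤ p) (M : Type u)
    [AddCommGroup M] [Module R M] [Module.Finite R M]
    (hM : Nontrivial (LocalizedModule p.primeCompl M)) (t : ℕ)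
    (ht : LocCoh.idealDepth (a.map (algebraMap R (Localization.AtPrime p)))
      (LocalizedModule p.primeCompl M) = t) :
    ∃ z : LocCoh.H a t M, ∀ c ∉ p, c • z ≠ 0 := by
  let B := Localization.AtPrime p
  haveI : IsNoetherianRing B := IsLocalization.isNoetherianRing p.primeCompl B inferInstance
  haveI : Module.Flat R B := IsLocalization.flat B p.primeCompl
  let J := a.map (algebraMap R B)
  have hJ : J • (⊤ : Submodule B (LocalizedModule p.primeCompl M)) ≠ ⊤ := by
    intro h
    have hle : J ≤ (⊥ : Ideal B).jacobson := by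
      rw [IsLocalRing.jacobson_eq_maximalIdeal ⊥ bot_ne_top, ← Localization.AtPrime.map_eq_maximalIdeal]
      exact Ideal.map_mono hap
    exact top_ne_bot (Submodule.eq_bot_of_le_smul_of_le_jacobson_bot J ⊤ Module.Finite.fg_top h.ge
      (by simpa using hle))
  obtain ⟨rs, hrs⟩ := Depth.exists_isMaxSeq (M := LocalizedModule p.primeCompl M) hJ
  have hlen : rs.length = t := by
    rw [Depth.idealDepth_eq_length hJ hrs] at ht
    exact_mod_cast ht
  subst hlen
  by_contra hcon
  push Not at hcon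
  obtain ⟨e⟩ := exists_baseChange B a M rs.length
  haveI : Subsingleton (LocalizedModule p.primeCompl (LocCoh.H a rs.length M)) :=
    LocalizedModule.subsingleton_iff.mpr fun z => by
      obtain ⟨c, hc, hcz⟩ := hcon z
      exact ⟨c, hc, hcz⟩
  haveI : Subsingleton ((localCohomology J rs.length).obj
      (ModuleCat.of B (TensorProduct R B M)) : Type u) :=
    ((LocalizedModule.equivTensorProduct p.primeCompl _).trans e).symm.injective.subsingleton
  haveI : Subsingleton ((localCohomology J rs.length).obj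
      (ModuleCat.of B (LocalizedModule p.primeCompl M)) : Type u) :=
    ((localCohomology J rs.length).mapIso
      (LocalizedModule.equivTensorProduct p.primeCompl M).toModuleIso).toLinearEquiv.injective.subsingleton
  exact not_nontrivial _ (nontrivial_of_isMaxSeq J (LocalizedModule p.primeCompl M) hrs).1

lemma exists_minimalPrime_height {p J : Ideal R} [p.IsPrime] (hpJ : p ≤ J) {h : ℕ}
    (hh : (J.map (Ideal.Quotient.mk p)).height = h) :
    ∃ q : Ideal R, q.IsPrime ∧ J ≤ q ∧ (q.map (Ideal.Quotient.mk p)).height ≤ h := by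
  let π := Ideal.Quotient.mk p
  have hne : J.map π ≠ ⊤ := by
    intro htop
    rw [htop, Ideal.height_top] at hh
    exact ENat.top_ne_coe h hh
  by_contra hcon
  push Not at hcon
  have hlt : ∀ Q ∈ (J.map π).minimalPrimes, ((h + 1 : ℕ) : ℕ∞) ≤ Q.height := fun Q hQ => by
    haveI := hQ.1.1
    have := hcon (Q.comap π) inferInstance (Ideal.map_le_iff_le_comap.mp hQ.1.2)
    rw [Ideal.map_comap_of_surjective π Ideal.Quotient.mk_surjective] at this
    rw [Nat.cast_add, Nat.cast_one]
    exact Order.add_one_le_of_lt this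
  rw [Ideal.height_eq_inf_minimalPrimes] at hh
  have := le_iInf₂ (f := fun Q (_ : Q ∈ (J.map π).minimalPrimes) => Q.height) hlt
  rw [hh] at this
  exact absurd (Nat.cast_le.mp this) (by omega)

theorem finDimRel_le_minAdjDepth (a b : Ideal R) (M : Type u) [AddCommGroup M] [Module R M]
    [Module.Finite R M] : LocCoh.finDimRel a b M ≤ LocCoh.minAdjDepth a b M := by
  refine le_iInf₂ fun p hb => ?_
  unfold LocCoh.adjDepth
  by_cases hM : Subsingleton (LocalizedModule p.asIdeal.primeCompl M)
  · rw [LocCoh.depth, LocCoh.idealDepth, if_pos (Subsingleton.elim _ _), top_add]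
    exact le_top
  haveI := not_subsingleton_iff_nontrivial.mp hM
  rcases eq_or_ne (LocCoh.depth (Localization.AtPrime p.asIdeal)
      (LocalizedModule p.asIdeal.primeCompl M)) ⊤ with ht | ht
  · rw [ht, top_add]; exact le_top
  rcases eq_or_ne ((a ⊔ p.asIdeal).map (Ideal.Quotient.mk p.asIdeal)).height ⊤ with hh | hh
  · rw [hh, add_top]; exact le_top
  obtain ⟨t, ht⟩ := ENat.ne_top_iff_exists.mp ht
  obtain ⟨h, hh⟩ := ENat.ne_top_iff_exists.mp hh
  rw [← ht, ← hh]
  by_contra hcon
  have hkill : ∀ i : ℕ, i ≤ t + h → b ≤ (Module.annihilator R (LocCoh.H a i M)).radical := by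
    intro i hi
    by_contra hbi
    exact hcon ((iInf₂_le (f := fun (i : ℕ) (_ : ¬ b ≤ (Module.annihilator R (LocCoh.H a i M)).radical) =>
      (i : ℕ∞)) i hbi).trans (by exact_mod_cast hi))
  obtain ⟨s, hsb, hsp⟩ := SetLike.not_le_iff_exists.mp hb
  choose k hk using fun i (hi : i ≤ t + h) => hkill i hi hsb
  let N := (Finset.range (t + h + 1)).attach.sup fun i => k i.1 (by have := Finset.mem_range.mp i.2; omega)
  have hN : ∀ i : ℕ, i ≤ t + h → ∀ z : LocCoh.H a i M, s ^ N • z = 0 := fun i hi z => by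
    have hle : k i hi ≤ N :=
      Finset.le_sup (f := fun i : {x // x ∈ Finset.range (t + h + 1)} => k i.1 (by
        have := Finset.mem_range.mp i.2; omega))
        (Finset.mem_attach _ ⟨i, Finset.mem_range.mpr (by omega)⟩)
    rw [← Nat.sub_add_cancel hle, pow_add, mul_smul, Module.mem_annihilator.mp (hk i hi) z, smul_zero]
  haveI := p.isPrime
  obtain ⟨q, hq, hJq, hqh⟩ := exists_minimalPrime_height (p := p.asIdeal) (le_sup_right : _ ≤ a ⊔ p.asIdeal) hh.symm
  obtain ⟨N', hN'⟩ := exists_kill_of_le (le_sup_left.trans hJq : a ≤ q) s (t + h) N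
  have hKill : KillAt q s (t + h) N' M := fun i hi z =>
    ⟨1, q.ne_top_iff_one.mp hq.ne_top, by rw [one_mul]; exact hN' M hN i hi z⟩
  obtain ⟨z, hz⟩ := exists_nonzero_at_depth p.asIdeal p.asIdeal le_rfl M inferInstance t (by
    rw [ht, LocCoh.depth, Localization.AtPrime.map_eq_maximalIdeal])
  obtain ⟨c, hc, hcz⟩ := loc_of_killAt h p.asIdeal q (le_sup_right.trans hJq) hqh s hsp (t + h) N' M hKill
    t le_rfl z
  exact hz c hc hcz

theorem not_le_radical_annihilator_at_depth (a b : Ideal R) (M : Type u) [AddCommGroup M] [Module R M]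
    [Module.Finite R M] (p : PrimeSpectrum R) (hsupp : p ∈ Module.support R M) (ha : a ≤ p.asIdeal)
    (hb : ¬ b ≤ p.asIdeal) (t : ℕ)
    (ht : LocCoh.idealDepth (a.map (algebraMap R (Localization.AtPrime p.asIdeal)))
      (LocalizedModule p.asIdeal.primeCompl M) = t) :
    ¬ b ≤ (Module.annihilator R (LocCoh.H a t M)).radical := by
  haveI := p.isPrime
  obtain ⟨z, hz⟩ := exists_nonzero_at_depth a p.asIdeal ha M hsupp t ht
  refine fun hle => hb (hle.trans ((Ideal.IsPrime.radical_le_iff p.isPrime).mpr fun c hc => ?_))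
  by_contra hcp
  exact hz c hcp (Module.mem_annihilator.mp hc z)

theorem not_le_radical_annihilator_one (a b : Ideal R) (M : Type u) [AddCommGroup M] [Module R M]
    [Module.Finite R M] (p : Ideal R) [p.IsPrime] (hp : p ∈ associatedPrimes R M) (hb : ¬ b ≤ p)
    (hht : ((a ⊔ p).map (Ideal.Quotient.mk p)).height = 1) :
    ¬ b ≤ (Module.annihilator R (LocCoh.H a 1 M)).radical := by
  intro hle
  obtain ⟨s, hsb, hsp⟩ := SetLike.not_le_iff_exists.mp hb
  obtain ⟨N, hN⟩ := hle hsb
  have hap : ¬ a ≤ p := fun hap => by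
    rw [sup_eq_right.mpr hap, Ideal.map_quotient_self, Ideal.height_bot] at hht
    exact zero_ne_one hht
  obtain ⟨y, hya, hyp⟩ := SetLike.not_le_iff_exists.mp hap
  let T := DRing.torsionSub a M
  let Mb := M ⧸ T
  have hb' : ∀ i : ℕ, i ≤ 1 → ∀ z : LocCoh.H a i Mb, s ^ N • z = 0 := by
    intro i hi z
    rcases Nat.le_one_iff_eq_zero_or_eq_one.mp hi with rfl | rfl
    · have : h0 a (ModuleCat.of R Mb) z ∈ (⊥ : Submodule R Mb) := by
        rw [← torsionSub_quot_eq_bot a M]
        exact (range_h0 (I := a) (M := ModuleCat.of R Mb)).le ⟨z, rfl⟩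
      rw [show z = 0 from h0_injective (((Submodule.mem_bot R).mp this).trans (map_zero _).symm), smul_zero]
    · obtain ⟨w, rfl⟩ := quot_torsion_surjective a M 1 z
      rw [← map_smul, Module.mem_annihilator.mp hN w]
      exact map_zero _
  obtain ⟨q, hq, hJq, hqh⟩ := exists_minimalPrime_height (p := p) (le_sup_right : p ≤ a ⊔ p)
    (h := 1) (by exact_mod_cast hht)
  obtain ⟨N', hN'⟩ := exists_kill_of_le (le_sup_left.trans hJq : a ≤ q) s 1 N
  have hKill : KillAt q s 1 N' Mb := fun i hi z =>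
    ⟨1, q.ne_top_iff_one.mp hq.ne_top, by rw [one_mul]; exact hN' Mb hb' i hi z⟩
  obtain ⟨-, x, hx⟩ := isAssociatedPrime_iff.mp hp
  have hmem : (Submodule.Quotient.mk x : Mb) ∈ DRing.torsionSub p Mb := ⟨1, fun c hc => by
    rw [pow_one, hx] at hc
    rw [← Submodule.Quotient.mk_smul, Submodule.mem_colon_singleton.mp hc, Submodule.Quotient.mk_zero]⟩
  obtain ⟨c, hc, hcz⟩ := loc_of_killAt 1 p q (le_sup_right.trans hJq) hqh s hsp 1 N' Mb hKill 0 le_rfl
    ((h0Equiv p (ModuleCat.of R Mb)).symm ⟨_, hmem⟩)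
  have h1 := congrArg (h0 p (ModuleCat.of R Mb)) hcz
  rw [map_zero, map_smul, ← h0Equiv_coe, LinearEquiv.apply_symm_apply, ← Submodule.Quotient.mk_smul,
    Submodule.Quotient.mk_eq_zero] at h1
  obtain ⟨m, hm⟩ := h1
  have h2 : y ^ m * c ∈ p := by
    rw [hx]
    exact Submodule.mem_colon_singleton.mpr (by rw [mul_smul]; exact hm _ (Ideal.pow_mem_pow hya m))
  exact (Ideal.IsPrime.mem_or_mem inferInstance h2).elim
    (fun h => hyp (Ideal.IsPrime.mem_of_pow_mem inferInstance m h)) hc

end Groth.Agent.LocCohLib
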