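import Groth.Prelude.Def_EtDual
import Groth.Agent.S17614
import Groth.Agent.FLCLib.Filtration
import Mathlib.CategoryTheory.Abelian.RightDerived
import Mathlib.Algebra.Homology.HomologySequence

/-!
# Local cohomology sheaves and higher direct images from an open subscheme
-/

set_option autoImplicit false
set_option backward.isDefEq.respectTransparency false
set_option backward.isDefEq.respectTransparency.types false
set_option linter.style.haveILetI false
set_option maxHeartbeats 800000

universe u

open CategoryTheory CategoryTheory.Limits AlgebraicGeometry Opposite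

noncomputable section

namespace Groth.Agent.LocCohLib

variable {X U : Scheme.{u}} (j : U ⟶ X) [IsOpenImmersion j] [EtCoh.BCCont j]

/-- For an injective sheaf the unit `I ⟶ j_* j^* I` is a split epimorphism. -/
theorem isSplitEpi_unitApp (I : EtCoh.Ab X) [Injective I] : IsSplitEpi (EtDual.unitApp j I) := by
  haveI : EtShriek.JCont j := EtJCont.jCont j
  let A := (EtCoh.push j).obj ((EtCoh.pull j).obj I)
  let h : (EtCoh.pull j).obj A ⟶ (EtCoh.pull j).obj I := ((EtCoh.pullPushAdj j).homEquiv A _).symm (𝟙 A)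
  let h₁ : (EtShriek.restrAlong j).obj A ⟶ (EtShriek.restrAlong j).obj I :=
    (EtPtsLib.pullIsoRestr j).inv.app A ≫ h ≫ (EtPtsLib.pullIsoRestr j).hom.app I
  haveI := FLCLib.mono_counit j A
  let f : A ⟶ I := Injective.factorThru (((EtShriek.extZeroAdj j).homEquiv _ I).symm h₁)
    ((EtShriek.extZeroAdj j).counit.app A)
  have hf : (EtShriek.restrAlong j).map f = h₁ := by
    have h2 : (EtShriek.extZeroAdj j).counit.app A ≫ f = ((EtShriek.extZeroAdj j).homEquiv _ I).symm h₁ :=
      Injective.comp_factorThru _ _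
    have h3 := congrArg ((EtShriek.extZeroAdj j).homEquiv _ I) h2
    rw [Equiv.apply_symm_apply, Adjunction.homEquiv_unit, Functor.map_comp, ← Category.assoc,
      Adjunction.right_triangle_components, Category.id_comp] at h3
    exact h3
  have hf' : (EtCoh.pull j).map f = h := by
    have h2 := (EtPtsLib.pullIsoRestr j).hom.naturality f
    rw [hf, Iso.hom_inv_id_app_assoc] at h2
    exact (cancel_mono _).1 h2
  refine IsSplitEpi.mk' (SplitEpi.mk f ?_ : SplitEpi (EtDual.unitApp j I))
  refine ((EtCoh.pullPushAdj j).unit.naturality f).trans ?_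
  refine (congrArg (fun a => (EtCoh.pullPushAdj j).unit.app A ≫ (EtCoh.push j).map a) hf').trans ?_
  exact ((EtCoh.pullPushAdj j).homEquiv_unit (X := A) (f := h)).symm.trans (Equiv.apply_symm_apply _ _)

theorem epi_unitApp (I : EtCoh.Ab X) [Injective I] : Epi (EtDual.unitApp j I) :=
  haveI := isSplitEpi_unitApp j I
  inferInstance

section

variable (F : EtCoh.Ab X) (R : InjectiveResolution F)

/-- `j_* j^*` applied to the resolution. -/
abbrev K₃ : CochainComplex (EtCoh.Ab X) ℕ :=
  haveI : (EtCoh.push j).Additive := (EtCoh.pullPushAdj j).right_adjoint_additive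
  haveI : (EtCoh.pull j).Additive := (EtCoh.pullPushAdj j).left_adjoint_additive
  ((EtCoh.pull j ⋙ EtCoh.push j).mapHomologicalComplex (ComplexShape.up ℕ)).obj R.cocomplex

/-- Sections with support applied to the resolution. -/
abbrev K₁ : CochainComplex (EtCoh.Ab X) ℕ :=
  ((EtDual.secSupp j).mapHomologicalComplex (ComplexShape.up ℕ)).obj R.cocomplex

def inc : K₁ j F R ⟶ R.cocomplex where
  f i := kernel.ι _
  comm' i k _ := (kernel.lift_ι _ _ _).symm

def res : R.cocomplex ⟶ K₃ j F R where
  f i := EtDual.unitApp j (R.cocomplex.X i)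
  comm' i k _ := ((EtCoh.pullPushAdj j).unit.naturality (R.cocomplex.d i k)).symm

theorem inc_res : inc j F R ≫ res j F R = 0 :=
  HomologicalComplex.hom_ext _ _ fun i => kernel.condition _

abbrev sh : ShortComplex (CochainComplex (EtCoh.Ab X) ℕ) :=
  ShortComplex.mk (inc j F R) (res j F R) (inc_res j F R)

theorem sh_shortExact : (sh j F R).ShortExact :=
  HomologicalComplex.shortExact_of_degreewise_shortExact _ fun i =>
    { exact := ShortComplex.exact_of_f_is_kernel _ (kernelIsKernel (EtDual.unitApp j (R.cocomplex.X i)))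
      mono_f := inferInstanceAs (Mono (kernel.ι (EtDual.unitApp j (R.cocomplex.X i))))
      epi_g := epi_unitApp j (R.cocomplex.X i) }

theorem isZero_homology_succ (n : ℕ) : IsZero (R.cocomplex.homology (n + 1)) :=
  (HomologicalComplex.exactAt_iff_isZero_homology _ _).1 (R.cocomplex_exactAt_succ n)

/-- The higher direct images of `j^* F` compute the homology of `j_* j^* R`. -/
theorem nonempty_Rpush_iso (p : ℕ) :
    Nonempty ((EtCoh.Rpush j p).obj ((EtCoh.pull j).obj F) ≅ (K₃ j F R).homology p) := by
  haveI : (EtCoh.push j).Additive := (EtCoh.pullPushAdj j).right_adjoint_additive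
  let Φ := EtCoh.pull j
  haveI : Φ.Additive := (EtCoh.pullPushAdj j).left_adjoint_additive
  haveI : PreservesFiniteLimits Φ := S0101.result j
  haveI : PreservesFiniteColimits Φ := by
    haveI : PreservesColimitsOfSize.{0, 0} Φ := (EtCoh.pullPushAdj j).leftAdjoint_preservesColimits
    exact PreservesColimitsOfSize.preservesFiniteColimits _
  let R' : InjectiveResolution (Φ.obj F) :=
    { cocomplex := (Φ.mapHomologicalComplex (ComplexShape.up ℕ)).obj R.cocomplex
      injective := fun i => S17614.injective_pull j (R.cocomplex.X i)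
      ι := (HomologicalComplex.singleMapHomologicalComplex Φ (ComplexShape.up ℕ) 0).inv.app F ≫
        (Φ.mapHomologicalComplex (ComplexShape.up ℕ)).map R.ι
      quasiIso := inferInstance }
  exact ⟨R'.isoRightDerivedObj (EtCoh.push j) p⟩

/-- The canonical map `G → H⁰` of a resolution-like complex. -/
theorem isIso_toHomology₀ {A : Type*} [Category A] [Abelian A] (K : CochainComplex A ℕ) {G : A} (a : G ⟶ K.X 0)
    (w : a ≫ K.d 0 1 = 0) (h : IsLimit (KernelFork.ofι a w)) :
    IsIso (K.liftCycles a 1 (CochainComplex.next ℕ 0) w ≫ K.homologyπ 0) := by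
  haveI : IsIso (K.liftCycles a 1 (CochainComplex.next ℕ 0) w) := by
    have h2 : K.liftCycles a 1 (CochainComplex.next ℕ 0) w =
        (IsLimit.conePointUniqueUpToIso h (K.cyclesIsKernel 0 1 (CochainComplex.next ℕ 0))).hom := by
      rw [← cancel_mono (K.iCycles 0), HomologicalComplex.liftCycles_i]
      exact (IsLimit.conePointUniqueUpToIso_hom_comp h (K.cyclesIsKernel 0 1 _) WalkingParallelPair.zero).symm
    rw [h2]
    infer_instance
  infer_instance

theorem nonempty_cokernel_iso :
    Nonempty (cokernel (EtDual.unitApp j F) ≅ (K₁ j F R).homology 1) := by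
  haveI : (EtCoh.push j).Additive := (EtCoh.pullPushAdj j).right_adjoint_additive
  haveI : (EtCoh.pull j).Additive := (EtCoh.pullPushAdj j).left_adjoint_additive
  haveI : PreservesFiniteLimits (EtCoh.pull j) := S0101.result j
  haveI : PreservesFiniteLimits (EtCoh.push j) :=
    haveI : (EtCoh.push j).IsRightAdjoint := (EtCoh.pullPushAdj j).isRightAdjoint
    inferInstance
  let Ψ := EtCoh.pull j ⋙ EtCoh.push j
  let a : F ⟶ R.cocomplex.X 0 := R.ι.f 0
  have w : a ≫ R.cocomplex.d 0 1 = 0 := R.ι_f_zero_comp_complex_d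
  have w' : Ψ.map a ≫ (K₃ j F R).d 0 1 = 0 := by
    show Ψ.map a ≫ Ψ.map (R.cocomplex.d 0 1) = 0
    rw [← Ψ.map_comp, w, Functor.map_zero]
  haveI := isIso_toHomology₀ R.cocomplex a w R.isLimitKernelFork
  haveI := isIso_toHomology₀ (K₃ j F R) (Ψ.map a) w'
    (KernelFork.mapIsLimit _ R.isLimitKernelFork Ψ)
  let e₂ := asIso (R.cocomplex.liftCycles a 1 (CochainComplex.next ℕ 0) w ≫ R.cocomplex.homologyπ 0)
  let e₃ := asIso ((K₃ j F R).liftCycles (Ψ.map a) 1 (CochainComplex.next ℕ 0) w' ≫ (K₃ j F R).homologyπ 0)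
  have sq : EtDual.unitApp j F ≫ e₃.hom = e₂.hom ≫ HomologicalComplex.homologyMap (res j F R) 0 := by
    show EtDual.unitApp j F ≫ (_ ≫ _) = (_ ≫ _) ≫ _
    rw [Category.assoc (W := F), HomologicalComplex.homologyπ_naturality, ← Category.assoc, ← Category.assoc]
    congr 1
    rw [← cancel_mono ((K₃ j F R).iCycles 0)]
    simp only [Category.assoc, HomologicalComplex.liftCycles_i, HomologicalComplex.cyclesMap_i,
      HomologicalComplex.liftCycles_i_assoc]
    exact ((EtCoh.pullPushAdj j).unit.naturality a).symm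
  have hS := sh_shortExact j F R
  haveI := hS.epi_δ 0 1 rfl (isZero_homology_succ F R 0)
  exact ⟨cokernel.mapIso _ (HomologicalComplex.homologyMap (res j F R) 0) e₂ e₃ sq ≪≫
    IsColimit.coconePointUniqueUpToIso (cokernelIsCokernel _) ((hS.homology_exact₃ 0 1 rfl).gIsCokernel)⟩

theorem nonempty_iso_succ (p : ℕ) :
    Nonempty ((EtCoh.Rpush j (p + 1)).obj ((EtCoh.pull j).obj F) ≅ (K₁ j F R).homology (p + 2)) := by
  obtain ⟨e⟩ := nonempty_Rpush_iso j F R (p + 1)
  exact ⟨e ≪≫ (sh_shortExact j F R).δIso (p + 1) (p + 2) rfl (isZero_homology_succ F R p)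
    (isZero_homology_succ F R (p + 1))⟩

end

end Groth.Agent.LocCohLib
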