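import Mathlib
import Groth.Agent.LocCohLib.AddElement
import Groth.Agent.LocCohLib.BaseChange

/-! Vanishing of `H^i_I` from the local groups `H^i_{pA_p}(M_p)`; comparison for nested ideals. -/

open CategoryTheory Limits IsLocalRing
open scoped TensorProduct

namespace Groth.Agent.LocCohLib

universe u

variable {R : Type u} [CommRing R] [IsNoetherianRing R]

lemma map_baseChange_equiv (i : ℕ) (I : Ideal R) (B : Type u) [CommRing B] [Algebra R B] {N : Type u}
    [AddCommGroup N] [Module R N] {N' : Type u} [AddCommGroup N'] [Module B N'] (e : B ⊗[R] N ≃ₗ[B] N')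
    (h : Subsingleton ((localCohomology (I.map (algebraMap R B)) i).obj (ModuleCat.of B N') : Type u)) :
    Subsingleton ((localCohomology (I.map (algebraMap R B)) i).obj (ModuleCat.of B (B ⊗[R] N)) : Type u) :=
  ((localCohomology (I.map (algebraMap R B)) i).mapIso e.toModuleIso).toLinearEquiv.toEquiv.subsingleton

lemma not_mem_ass_of_local {P : Ideal R} [hPp : P.IsPrime] (N : Type u) [AddCommGroup N] [Module R N] (i : ℕ)
    (h : Subsingleton ((localCohomology (maximalIdeal (Localization.AtPrime P)) i).obj
      (ModuleCat.of _ (LocalizedModule P.primeCompl N)) : Type u))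
    (y : (localCohomology P i).obj (ModuleCat.of R N)) (hy : P = (⊥ : Submodule R _).colon {y}) : False := by
  haveI : IsNoetherianRing (Localization.AtPrime P) :=
    IsLocalization.isNoetherianRing P.primeCompl (Localization.AtPrime P) inferInstance
  haveI : Module.Flat R (Localization.AtPrime P) := IsLocalization.flat (Localization.AtPrime P) P.primeCompl
  obtain ⟨e⟩ := exists_baseChange (Localization.AtPrime P) P N i
  haveI : Subsingleton ((localCohomology (P.map (algebraMap R (Localization.AtPrime P))) i).obj
      (ModuleCat.of (Localization.AtPrime P) (Localization.AtPrime P ⊗[R] N)) : Type u) := by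
    refine map_baseChange_equiv i P _ (LocalizedModule.equivTensorProduct P.primeCompl N).symm ?_
    rw [Localization.AtPrime.map_eq_maximalIdeal]
    exact h
  haveI : Subsingleton (LocalizedModule P.primeCompl ((localCohomology P i).obj (ModuleCat.of R N) : Type u)) :=
    ((LocalizedModule.equivTensorProduct P.primeCompl _).trans e).injective.subsingleton
  obtain ⟨r, hr, hry⟩ := LocalizedModule.subsingleton_iff.mp this y
  exact hr (hy.ge (Submodule.mem_colon_singleton.mpr ((Submodule.mem_bot _).mpr hry)))

/-- `H^i_I(N) = 0` if `H^i` of every `N_p`, `p ⊇ I`, supported at the closed point vanishes. -/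
theorem subsingleton_of_forall_local (N : Type u) [AddCommGroup N] [Module R N] (i : ℕ) (I : Ideal R)
    (h : ∀ p : PrimeSpectrum R, I ≤ p.asIdeal → Subsingleton ((localCohomology
      (maximalIdeal (Localization.AtPrime p.asIdeal)) i).obj
        (ModuleCat.of _ (LocalizedModule p.asIdeal.primeCompl N)) : Type u)) :
    Subsingleton ((localCohomology I i).obj (ModuleCat.of R N) : Type u) := by
  classical
  induction I using IsNoetherian.induction with
  | _ I ih =>
    let M := ModuleCat.of R N
    refine subsingleton_of_forall_eq 0 fun x => ?_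
    by_contra hx
    obtain ⟨P, hP, -⟩ := exists_le_isAssociatedPrime_of_isNoetherianRing R x hx
    obtain ⟨hPp, y, hy⟩ := isAssociatedPrime_iff.mp hP
    obtain ⟨n, hn⟩ := isPowerTorsion y
    have hIP : I ≤ P := fun r hr => hPp.mem_of_pow_mem n (by
      rw [hy, Submodule.mem_colon_singleton, Submodule.mem_bot]
      exact hn _ (Ideal.pow_mem_pow hr n))
    have hy0 : y ≠ 0 := fun h0 => hPp.ne_top (by rw [hy, h0]; simp)
    rcases hIP.eq_or_lt with hIeq | hlt
    · subst hIeq
      exact not_mem_ass_of_local (P := I) (hPp := hPp) N i (h ⟨I, hPp⟩ le_rfl) y hy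
    · obtain ⟨b, hbP, hbI⟩ := SetLike.exists_of_lt hlt
      have hlt' : I < I ⊔ Ideal.span {b} := lt_of_le_of_ne le_sup_left
        fun hh => hbI (hh ▸ Ideal.mem_sup_right (Ideal.mem_span_singleton_self b))
      haveI := ih _ hlt' fun p hp => h p (le_sup_left.trans hp)
      have hby : b • y = 0 := by
        rw [hy, Submodule.mem_colon_singleton, Submodule.mem_bot] at hbP; exact hbP
      obtain ⟨z, hz⟩ := (range_HmapOfLE (injectiveResolution M) I b i y).mpr ⟨1, by rwa [pow_one]⟩
      exact hy0 (by rw [← hz, Subsingleton.elim z 0, map_zero])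

/-- If `b ∉ p` then `(M_b)_p = M_p`, and it vanishes otherwise. -/
lemma bijective_map_away (M : Type u) [AddCommGroup M] [Module R M] (b : R) (p : Ideal R) [p.IsPrime]
    (hb : b ∉ p) :
    Function.Bijective (LocalizedModule.map p.primeCompl (LocalizedModule.mkLinearMap (Submonoid.powers b) M)) := by
  let f := LocalizedModule.mkLinearMap (Submonoid.powers b) M
  constructor
  · rw [injective_iff_map_eq_zero]
    intro x hx
    induction x using LocalizedModule.induction_on with
    | _ m s =>
      rw [LocalizedModule.map_mk] at hx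
      obtain ⟨u, hu⟩ := LocalizedModule.mk_eq.mp (hx.trans (LocalizedModule.zero_mk (1 : p.primeCompl)).symm)
      simp only [one_smul, smul_zero, Submonoid.smul_def] at hu
      rw [← map_smul] at hu
      obtain ⟨⟨_, k, rfl⟩, hk⟩ := (IsLocalizedModule.eq_zero_iff (Submonoid.powers b) f).mp hu
      rw [← LocalizedModule.zero_mk (1 : p.primeCompl)]
      refine LocalizedModule.mk_eq.mpr ⟨⟨b ^ k * u, p.primeCompl.mul_mem
        (pow_mem (S := p.primeCompl) hb k) u.2⟩, ?_⟩
      simp only [one_smul, smul_zero, Submonoid.smul_def]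
      rw [mul_smul]
      exact hk
  · intro x
    induction x using LocalizedModule.induction_on with
    | _ y s =>
      obtain ⟨⟨m, ⟨_, k, rfl⟩⟩, hmk⟩ := IsLocalizedModule.surj (Submonoid.powers b) f y
      refine ⟨LocalizedModule.mk m (s * ⟨b ^ k, pow_mem (S := p.primeCompl) hb k⟩), ?_⟩
      rw [LocalizedModule.map_mk]
      refine LocalizedModule.mk_eq.mpr ⟨1, ?_⟩
      simp only [one_smul, Submonoid.smul_def, Submonoid.coe_mul, mul_smul]
      exact congrArg ((s : R) • ·) hmk.symm

lemma subsingleton_H_of_bijective {A : Type u} [CommRing A] (J : Ideal A) (L : Type u) [AddCommGroup L] [Module A L]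
    (c : A) (hc : c ∈ J) (hbij : Function.Bijective (fun x : L => c • x)) (i : ℕ) :
    Subsingleton ((localCohomology J i).obj (ModuleCat.of A L) : Type u) := by
  let φ : ModuleCat.of A L ≅ ModuleCat.of A L :=
    (LinearEquiv.ofBijective (LinearMap.lsmul A L c) hbij).toModuleIso
  have hφ : φ.hom = c • 𝟙 (ModuleCat.of A L) := by ext x; rfl
  have hb : Function.Bijective (fun z : (localCohomology J i).obj (ModuleCat.of A L) => c • z) := by
    have h1 : Function.Bijective ((localCohomology J i).map φ.hom).hom :=
      ConcreteCategory.bijective_of_isIso ((localCohomology J i).map φ.hom)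
    rw [hφ] at h1
    convert h1 using 1
    funext z
    exact (map_smul_id J i (ModuleCat.of A L) c z).symm
  refine subsingleton_of_forall_eq 0 fun z => ?_
  obtain ⟨n, hn⟩ := isPowerTorsion z
  have hz := hn _ (Ideal.pow_mem_pow hc n)
  clear hn
  induction n with
  | zero => rwa [pow_zero, one_smul] at hz
  | succ n ih => exact ih (hb.1 (((mul_smul c (c ^ n) z).symm.trans ((congrArg (· • z) (pow_succ' c n)).symm.trans hz)).trans (smul_zero c).symm))

lemma bijective_smul_localized_away (M : Type u) [AddCommGroup M] [Module R M] (b : R) (p : Ideal R) [p.IsPrime] :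
    Function.Bijective (fun x : LocalizedModule p.primeCompl (LocalizedModule (Submonoid.powers b) M) =>
      algebraMap R (Localization.AtPrime p) b • x) := by
  have hb : Function.Bijective (algebraMap R (Module.End R (LocalizedModule (Submonoid.powers b) M)) b) :=
    (Module.End.isUnit_iff _).mp (IsLocalizedModule.map_units
      (LocalizedModule.mkLinearMap (Submonoid.powers b) M) (⟨b, Submonoid.mem_powers b⟩ : Submonoid.powers b))
  let e := LinearEquiv.ofBijective _ hb
  have key : Function.Bijective (LocalizedModule.map p.primeCompl e.toLinearMap) :=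
    ⟨LocalizedModule.map_injective _ _ e.injective, LocalizedModule.map_surjective _ _ e.surjective⟩
  convert key using 1
  funext x
  induction x using LocalizedModule.induction_on with
  | _ y s =>
    rw [LocalizedModule.map_mk, algebraMap_smul, LocalizedModule.smul'_mk]
    rfl

/-- If the groups `H^i` at the closed points of `M_p` vanish for `p ⊇ a`, `b ∉ p`, then `H^i_a(M_b) = 0`. -/
theorem subsingleton_H_away (a : Ideal R) (b : R) (M : Type u) [AddCommGroup M] [Module R M] (i : ℕ)
    (h : ∀ p : PrimeSpectrum R, a ≤ p.asIdeal → b ∉ p.asIdeal → Subsingleton ((localCohomology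
      (maximalIdeal (Localization.AtPrime p.asIdeal)) i).obj
        (ModuleCat.of _ (LocalizedModule p.asIdeal.primeCompl M)) : Type u)) :
    Subsingleton ((localCohomology a i).obj (ModuleCat.of R (LocalizedModule (Submonoid.powers b) M)) : Type u) := by
  refine subsingleton_of_forall_local _ i a fun p hp => ?_
  by_cases hb : b ∈ p.asIdeal
  · refine subsingleton_H_of_bijective _ _ (algebraMap R (Localization.AtPrime p.asIdeal) b) ?_
      (bijective_smul_localized_away M b p.asIdeal) i
    rw [← Localization.AtPrime.map_eq_maximalIdeal]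
    exact Ideal.mem_map_of_mem _ hb
  · haveI := h p hp hb
    exact ((localCohomology _ i).mapIso
      (LinearEquiv.ofBijective _ (bijective_map_away M b p.asIdeal hb)).toModuleIso).toLinearEquiv.symm.toEquiv.subsingleton

/-- Adding one element. -/
theorem surjective_HmapOfLE_add (a : Ideal R) (b : R) (M : Type u) [AddCommGroup M] [Module R M] (i : ℕ)
    (h : Subsingleton ((localCohomology a i).obj (ModuleCat.of R (LocalizedModule (Submonoid.powers b) M)) : Type u)) :
    Function.Surjective ((Dual2.HmapOfLE (le_sup_left : a ≤ a ⊔ Ideal.span {b}) i).app (ModuleCat.of R M)).hom := by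
  intro x
  refine LinearMap.mem_range.mp ((range_HmapOfLE (injectiveResolution (ModuleCat.of R M)) a b i x).mpr ?_)
  haveI := isLocalizedModule_H a b M i
  obtain ⟨⟨_, n, rfl⟩, hn⟩ := (IsLocalizedModule.eq_zero_iff (Submonoid.powers b)
    ((localCohomology a i).map (ModuleCat.ofHom (LocalizedModule.mkLinearMap (Submonoid.powers b) M))).hom
    (m := x)).mp (Subsingleton.elim _ _)
  exact ⟨n, hn⟩

theorem injective_HmapOfLE_add (a : Ideal R) (b : R) (M : Type u) [AddCommGroup M] [Module R M] (i : ℕ)
    (h : Subsingleton ((localCohomology a i).obj (ModuleCat.of R (LocalizedModule (Submonoid.powers b) M)) : Type u)) :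
    Function.Injective ((Dual2.HmapOfLE (le_sup_left : a ≤ a ⊔ Ideal.span {b}) (i + 1)).app (ModuleCat.of R M)).hom := by
  haveI := isLocalizedModule_H a b M i
  let g := ((localCohomology a i).map (ModuleCat.ofHom (LocalizedModule.mkLinearMap (Submonoid.powers b) M))).hom
  let e := (cokerEquiv (Submonoid.powers b) g).symm ≪≫ₗ kerEquivCoker (injectiveResolution (ModuleCat.of R M)) a b i
  haveI := e.symm.toEquiv.subsingleton
  exact LinearMap.ker_eq_bot.mp (Submodule.subsingleton_iff_eq_bot.mp inferInstance)

lemma HmapOfLE_trans {I I' I'' : Ideal R} (h : I ≤ I') (h' : I' ≤ I'') (i : ℕ) (M : ModuleCat.{u} R)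
    (x : (localCohomology I'' i).obj M) :
    ((Dual2.HmapOfLE (h.trans h') i).app M).hom x =
      ((Dual2.HmapOfLE h i).app M).hom (((Dual2.HmapOfLE h' i).app M).hom x) := by
  obtain ⟨z, rfl⟩ := tcls_surjective (injectiveResolution M) I'' i x
  rw [HmapOfLE_tcls, HmapOfLE_tcls, HmapOfLE_tcls]
  exact congrArg _ (Subtype.ext rfl)

lemma HmapOfLE_self {I : Ideal R} (i : ℕ) (M : ModuleCat.{u} R) (x : (localCohomology I i).obj M) :
    ((Dual2.HmapOfLE (le_refl I) i).app M).hom x = x := by
  obtain ⟨z, rfl⟩ := tcls_surjective (injectiveResolution M) I i x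
  rw [HmapOfLE_tcls]
  exact congrArg _ (Subtype.ext rfl)

theorem surjective_HmapOfLE {I I' : Ideal R} (hle : I ≤ I') (M : Type u) [AddCommGroup M] [Module R M] (i : ℕ)
    (h : ∀ p : PrimeSpectrum R, I ≤ p.asIdeal → ¬ I' ≤ p.asIdeal → Subsingleton ((localCohomology
      (maximalIdeal (Localization.AtPrime p.asIdeal)) i).obj
        (ModuleCat.of _ (LocalizedModule p.asIdeal.primeCompl M)) : Type u)) :
    Function.Surjective ((Dual2.HmapOfLE hle i).app (ModuleCat.of R M)).hom := by
  induction I using IsNoetherian.induction with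
  | _ I ih =>
    by_cases hI : I' ≤ I
    · obtain rfl := le_antisymm hle hI
      exact fun x => ⟨x, HmapOfLE_self i _ x⟩
    · obtain ⟨b, hb, hbI⟩ := SetLike.not_le_iff_exists.mp hI
      have hlt : I < I ⊔ Ideal.span {b} := lt_of_le_of_ne le_sup_left
        fun hh => hbI (hh ▸ Ideal.mem_sup_right (Ideal.mem_span_singleton_self b))
      have hle' : I ⊔ Ideal.span {b} ≤ I' := sup_le hle ((Ideal.span_singleton_le_iff_mem _).mpr hb)
      have h1 := ih _ hlt hle' fun p hp hp' => h p (le_sup_left.trans hp) hp'
      have h2 := surjective_HmapOfLE_add I b M i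
        (subsingleton_H_away I b M i fun p hp hbp => h p hp fun hh => hbp (hh hb))
      intro x
      obtain ⟨y, rfl⟩ := h2 x
      obtain ⟨z, rfl⟩ := h1 y
      exact ⟨z, HmapOfLE_trans le_sup_left hle' i _ z⟩

theorem injective_HmapOfLE_zero' {I I' : Ideal R} (hle : I ≤ I') (M : Type u) [AddCommGroup M] [Module R M] :
    Function.Injective ((Dual2.HmapOfLE hle 0).app (ModuleCat.of R M)).hom := by
  rw [injective_iff_map_eq_zero]
  intro z hz
  obtain ⟨z, rfl⟩ := tcls_surjective (injectiveResolution (ModuleCat.of R M)) _ 0 z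
  rw [HmapOfLE_tcls] at hz
  have h2 := congrArg Subtype.val (tcls_zero_injective _ _ (hz.trans (map_zero _).symm))
  rw [show z = 0 from Subtype.ext h2, map_zero]

theorem injective_HmapOfLE {I I' : Ideal R} (hle : I ≤ I') (M : Type u) [AddCommGroup M] [Module R M] (i : ℕ)
    (h : ∀ p : PrimeSpectrum R, I ≤ p.asIdeal → ¬ I' ≤ p.asIdeal → Subsingleton ((localCohomology
      (maximalIdeal (Localization.AtPrime p.asIdeal)) i).obj
        (ModuleCat.of _ (LocalizedModule p.asIdeal.primeCompl M)) : Type u)) :
    Function.Injective ((Dual2.HmapOfLE hle (i + 1)).app (ModuleCat.of R M)).hom := by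
  induction I using IsNoetherian.induction with
  | _ I ih =>
    by_cases hI : I' ≤ I
    · obtain rfl := le_antisymm hle hI
      exact fun x y hxy => by rwa [HmapOfLE_self, HmapOfLE_self] at hxy
    · obtain ⟨b, hb, hbI⟩ := SetLike.not_le_iff_exists.mp hI
      have hlt : I < I ⊔ Ideal.span {b} := lt_of_le_of_ne le_sup_left
        fun hh => hbI (hh ▸ Ideal.mem_sup_right (Ideal.mem_span_singleton_self b))
      have hle' : I ⊔ Ideal.span {b} ≤ I' := sup_le hle ((Ideal.span_singleton_le_iff_mem _).mpr hb)
      have h1 := ih _ hlt hle' fun p hp hp' => h p (le_sup_left.trans hp) hp'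
      have h2 := injective_HmapOfLE_add I b M i
        (subsingleton_H_away I b M i fun p hp hbp => h p hp fun hh => hbp (hh hb))
      intro x y hxy
      rw [HmapOfLE_trans le_sup_left hle', HmapOfLE_trans le_sup_left hle'] at hxy
      exact h1 (h2 hxy)

end Groth.Agent.LocCohLib
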