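import Mathlib
import Groth.Agent.LocCohLib.MaxIdeal
import Groth.Agent.LocCohLib.BaseChange
import Groth.Agent.LocCohLib.Cd

/-! Top local cohomology is Artinian. -/

open CategoryTheory Limits IsLocalRing
open scoped TensorProduct

namespace Groth.Agent.LocCohLib

universe u

variable {R : Type u} [CommRing R] [IsNoetherianRing R]

/-- If `x` acts locally nilpotently on `H^i_a(M)`, then `H^i_{a+(x)}(M)` surjects onto it. -/
theorem exists_surjective_of_sup_span (a : Ideal R) (x : R) (i : ℕ) (M : ModuleCat.{u} R)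
    (h : ∀ z : (localCohomology a i).obj M, ∃ k : ℕ, x ^ k • z = 0) :
    ∃ f : ((localCohomology (a ⊔ Ideal.span {x}) i).obj M : Type u) →ₗ[R]
      ((localCohomology a i).obj M : Type u), Function.Surjective f := by
  let J := injectiveResolution M
  let b := a ⊔ Ideal.span {x}
  obtain ⟨S, hS, hker⟩ := presents_injectiveResolution a J i
  obtain ⟨S', hS', hker'⟩ := presents_injectiveResolution b J i
  have hle : ∀ E : Type u, ∀ [AddCommGroup E] [Module R E],
      DRing.torsionSub b E ≤ DRing.torsionSub a E :=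
    fun E _ _ => torsionSub_mono le_sup_left E
  let ε : ZI b J.cocomplex i →ₗ[R] ZI a J.cocomplex i :=
    Submodule.inclusion (inf_le_inf_right _ (hle _))
  have hk : LinearMap.ker S' ≤ LinearMap.ker (S ∘ₗ ε) := by
    intro z hz
    rw [LinearMap.mem_ker] at hz ⊢
    refine (hker _).mpr ?_
    have hb := (hker' z).mp hz
    cases i with
    | zero => exact hb
    | succ p => exact Submodule.map_mono (hle _) hb
  refine ⟨(LinearMap.ker S').liftQ (S ∘ₗ ε) hk ∘ₗ
    (S'.quotKerEquivOfSurjective hS').symm.toLinearMap, fun y => ?_⟩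
  suffices ∃ z', S (ε z') = y by
    obtain ⟨z', hz'⟩ := this
    refine ⟨S' z', ?_⟩
    rw [LinearMap.comp_apply, show (S'.quotKerEquivOfSurjective hS').symm.toLinearMap (S' z') =
      Submodule.Quotient.mk z' from (LinearEquiv.symm_apply_eq _).mpr rfl]
    exact hz'
  obtain ⟨⟨z, hz, hdz⟩, rfl⟩ := hS y
  obtain ⟨k, hk'⟩ := h (S ⟨z, hz, hdz⟩)
  rw [← map_smul] at hk'
  have hb : x ^ k • z ∈ BI a J.cocomplex i := (hker _).mp hk'
  have mem : ∀ {E : Type u} [AddCommGroup E] [Module R E] {e : E} {m : ℕ},
      e ∈ DRing.torsionSub a E → x ^ m • e = 0 → e ∈ DRing.torsionSub b E :=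
    fun h1 h2 => mem_torsionSub_sup h1 (mem_torsionSub_span_singleton h2)
  cases i with
  | zero => exact ⟨⟨z, mem hz ((Submodule.mem_bot R).mp hb), hdz⟩, rfl⟩
  | succ p =>
    obtain ⟨w, hw, hdw⟩ := hb
    haveI : Injective (ModuleCat.of R (J.cocomplex.X p)) := J.injective p
    haveI := Module.injective_module_of_injective_object R (J.cocomplex.X p)
    haveI := injective_torsionSub a (J.cocomplex.X p : Type u)
    obtain ⟨l, hl⟩ := divProp_of_injective (DRing.torsionSub a (J.cocomplex.X p : Type u)) x k
    obtain ⟨⟨w', hw'⟩, hww⟩ := hl ⟨w, hw⟩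
    have hww' : x ^ l • (x ^ k • w' - w) = 0 := congrArg Subtype.val hww
    let dw := (J.cocomplex.d p (p + 1)).hom w'
    have hdd : (J.cocomplex.d (p + 1) (p + 1 + 1)).hom dw = 0 :=
      congr($(J.cocomplex.d_comp_d p (p + 1) (p + 1 + 1)).hom w')
    have hda : dw ∈ DRing.torsionSub a (J.cocomplex.X (p + 1)) := DRing.map_mem_torsionSub _ _ hw'
    have h0 : x ^ (l + k) • (z - dw) = 0 := by
      rw [pow_add, mul_smul, smul_sub (x ^ k), ← hdw]
      change x ^ l • ((J.cocomplex.d p (p + 1)).hom w - x ^ k • (J.cocomplex.d p (p + 1)).hom w') = 0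
      rw [← map_smul, ← map_sub, ← map_smul, ← neg_sub (x ^ k • w') w, smul_neg, hww', neg_zero, map_zero]
    have hZ : z - dw ∈ ZI b J.cocomplex (p + 1) :=
      ⟨mem (sub_mem hz hda) h0, LinearMap.mem_ker.mpr (by rw [map_sub, hdd, sub_zero]; exact hdz)⟩
    refine ⟨⟨z - dw, hZ⟩, sub_eq_zero.mp ?_⟩
    rw [← map_sub]
    refine (hker _).mpr ⟨-w', neg_mem hw', ?_⟩
    change (J.cocomplex.d p (p + 1)).hom (-w') = z - dw - z
    rw [map_neg]
    abel

variable [IsLocalRing R]

lemma supportDim_away_lt (M : Type u) [AddCommGroup M] [Module R M] {x : R} (hx : x ∈ maximalIdeal R)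
    {n : ℕ} (hn : Module.supportDim R M = n) [Nontrivial M] :
    Module.supportDim (Localization.Away x) (Localization.Away x ⊗[R] M) < (n : WithBot ℕ∞) := by
  let B := Localization.Away x
  have hc : ∀ q : PrimeSpectrum B, q ∈ Module.support B (B ⊗[R] M) →
      q.comap (algebraMap R B) ∈ Module.support R M := by
    intro q hq
    rw [Module.mem_support_iff'] at hq ⊢
    obtain ⟨t, ht⟩ := hq
    by_contra hne
    push Not at hne
    suffices ∀ t : B ⊗[R] M, ∃ r : B, r ∉ q.asIdeal ∧ r • t = 0 by
      obtain ⟨r, hr, hrt⟩ := this t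
      exact ht r hr hrt
    intro t
    induction t using TensorProduct.induction_on with
    | zero => exact ⟨1, q.2.one_notMem, smul_zero _⟩
    | tmul a m =>
      obtain ⟨r, hr, hrm⟩ := hne m
      refine ⟨algebraMap R B r, hr, ?_⟩
      rw [algebraMap_smul, ← TensorProduct.tmul_smul, hrm, TensorProduct.tmul_zero]
    | add t₁ t₂ h₁ h₂ =>
      obtain ⟨r₁, hr₁, h₁⟩ := h₁
      obtain ⟨r₂, hr₂, h₂⟩ := h₂
      refine ⟨r₁ * r₂, q.2.mul_notMem hr₁ hr₂, ?_⟩
      rw [smul_add, mul_smul r₁ r₂ t₂, h₂, mul_comm, mul_smul, h₁, smul_zero, smul_zero, add_zero]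
  have key : ∀ l : LTSeries (Module.support B (B ⊗[R] M)), l.length + 1 ≤ n := by
    intro l
    let g : Module.support B (B ⊗[R] M) → Module.support R M :=
      fun q => ⟨q.1.comap (algebraMap R B), hc q.1 q.2⟩
    have hg : StrictMono g := fun q q' h => by
      refine lt_of_le_of_ne (fun a ha => (h.le : q.1.asIdeal ≤ q'.1.asIdeal) ha) fun he => h.ne ?_
      exact Subtype.ext (PrimeSpectrum.localization_comap_injective B (Submonoid.powers x)
        (congrArg Subtype.val he))
    have hlast : (l.map g hg).last < ⟨closedPoint R, IsLocalRing.closedPoint_mem_support R M⟩ := by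
      refine lt_of_le_of_ne (le_maximalIdeal (g l.last).1.2.ne_top) fun he => ?_
      have hxq : x ∈ (g l.last).1.asIdeal :=
        (congrArg (fun p : Module.support R M => p.1.asIdeal) he).symm ▸ hx
      exact l.last.1.2.ne_top (Ideal.eq_top_of_isUnit_mem _ hxq
        (IsLocalization.Away.algebraMap_isUnit x))
    have h1 := Order.LTSeries.length_le_krullDim ((l.map g hg).snoc _ hlast)
    rw [show Order.krullDim (Module.support R M) = Module.supportDim R M from rfl, hn] at h1
    exact_mod_cast h1
  by_cases he : IsEmpty (Module.support B (B ⊗[R] M))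
  · rw [Module.supportDim, Order.krullDim_eq_bot_iff.mpr he]
    exact WithBot.bot_lt_coe _
  · haveI := not_isEmpty_iff.mp he
    have hn0 : 1 ≤ n := le_trans (Nat.le_add_left 1 _) (key (RelSeries.singleton _ (Classical.arbitrary _)))
    refine lt_of_le_of_lt (show Module.supportDim B (B ⊗[R] M) ≤ ((n - 1 : ℕ) : WithBot ℕ∞) from ?_) ?_
    · exact iSup_le fun l => by
        have := key l
        exact_mod_cast (by omega : l.length ≤ n - 1)
    · exact_mod_cast (by omega : n - 1 < n)

theorem isArtinian_H_top (a : Ideal R) (M : Type u) [AddCommGroup M] [Module R M] [Module.Finite R M]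
    [Nontrivial M] (n : ℕ) (hn : Module.supportDim R M = n) :
    IsArtinian R ((localCohomology a n).obj (ModuleCat.of R M) : Type u) := by
  classical
  by_cases ha : a = ⊤
  · subst ha
    haveI := subsingleton_top n (ModuleCat.of R M)
    infer_instance
  obtain ⟨s, hs⟩ := (IsNoetherian.noetherian (maximalIdeal R) : (maximalIdeal R).FG)
  suffices key : ∀ t : Finset R, (t : Set R) ⊆ maximalIdeal R →
      IsArtinian R ((localCohomology (a ⊔ Ideal.span (t : Set R)) n).obj (ModuleCat.of R M) : Type u) →
      IsArtinian R ((localCohomology a n).obj (ModuleCat.of R M) : Type u) by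
    refine key s (fun y hy => hs ▸ Ideal.subset_span hy) ?_
    rw [show a ⊔ Ideal.span (s : Set R) = maximalIdeal R by
      rw [Ideal.span, hs, sup_eq_right]; exact le_maximalIdeal ha]
    exact isArtinian_H n M
  intro t
  induction t using Finset.induction_on with
  | empty =>
    intro _ h
    rwa [Finset.coe_empty, Ideal.span_empty, sup_bot_eq] at h
  | insert x t hxt ih =>
    intro hsub h
    rw [Finset.coe_insert, Set.insert_subset_iff] at hsub
    refine ih hsub.2 ?_
    rw [Finset.coe_insert, Ideal.span_insert, sup_comm (Ideal.span {x}), ← sup_assoc] at h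
    have hz : ∀ z : (localCohomology (a ⊔ Ideal.span (t : Set R)) n).obj (ModuleCat.of R M),
        ∃ k : ℕ, x ^ k • z = 0 := by
      intro z
      let B := Localization.Away x
      haveI : IsNoetherianRing B := IsLocalization.isNoetherianRing (Submonoid.powers x) B inferInstance
      haveI : Module.Flat R B := IsLocalization.flat B (Submonoid.powers x)
      obtain ⟨e⟩ := exists_baseChange B (a ⊔ Ideal.span (t : Set R)) M n
      haveI := subsingleton_of_supportDim_lt ((a ⊔ Ideal.span (t : Set R)).map (algebraMap R B))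
        (B ⊗[R] M) n (supportDim_away_lt M hsub.1 hn)
      haveI : Subsingleton (LocalizedModule (Submonoid.powers x)
          ((localCohomology (a ⊔ Ideal.span (t : Set R)) n).obj (ModuleCat.of R M) : Type u)) :=
        ((LocalizedModule.equivTensorProduct (Submonoid.powers x) _).trans e).injective.subsingleton
      obtain ⟨r, ⟨k, rfl⟩, hk⟩ := LocalizedModule.subsingleton_iff.mp this z
      exact ⟨k, hk⟩
    obtain ⟨f, hf⟩ := exists_surjective_of_sup_span (a ⊔ Ideal.span (t : Set R)) x n
      (ModuleCat.of R M) hz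
    exact isArtinian_of_surjective _ f hf

end Groth.Agent.LocCohLib
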