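import Mathlib
import Groth.Prelude.Def_Wider
import Groth.Agent.LocCohLib.TopArtinian

/-! Vanishing of top local cohomology descends to smaller ideals. -/

open CategoryTheory Limits IsLocalRing
open scoped TensorProduct

namespace Groth.Agent.LocCohLib

universe u

variable {R : Type u} [CommRing R] [IsNoetherianRing R] [IsLocalRing R]

/-- If `a ≤ b` are proper ideals and the top local cohomology of `M` at `b` vanishes, so does the one at `a`. -/
theorem subsingleton_H_top_of_le (M : Type u) [AddCommGroup M] [Module R M]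
    [Nontrivial M] (n : ℕ) (hn : Module.supportDim R M = n) [Module.Finite R M] {a b : Ideal R} (hab : a ≤ b)
    (hb : b ≠ ⊤) (h : Subsingleton ((localCohomology b n).obj (ModuleCat.of R M) : Type u)) :
    Subsingleton ((localCohomology a n).obj (ModuleCat.of R M) : Type u) := by
  classical
  obtain ⟨s, hs⟩ := (IsNoetherian.noetherian b : b.FG)
  suffices key : ∀ t : Finset R, (t : Set R) ⊆ maximalIdeal R →
      Subsingleton ((localCohomology (a ⊔ Ideal.span (t : Set R)) n).obj (ModuleCat.of R M) : Type u) →
      Subsingleton ((localCohomology a n).obj (ModuleCat.of R M) : Type u) by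
    refine key s (fun y hy => le_maximalIdeal hb (hs ▸ Ideal.subset_span hy)) ?_
    rwa [show a ⊔ Ideal.span (s : Set R) = b by rw [Ideal.span, hs, sup_eq_right]; exact hab]
  intro t
  induction t using Finset.induction_on with
  | empty =>
    intro _ h
    rwa [Finset.coe_empty, Ideal.span_empty, sup_bot_eq] at h
  | insert x t hxt ih =>
    intro hsub h
    rw [Finset.coe_insert, Set.insert_subset_iff] at hsub
    refine ih hsub.2 ?_
    rw [Finset.coe_insert, Ideal.span_insert, sup_comm (Ideal.span {x}), ← sup_assoc] at h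
    have hz : ∀ z : (localCohomology (a ⊔ Ideal.span (t : Set R)) n).obj (ModuleCat.of R M),
        ∃ k : ℕ, x ^ k • z = 0 := by
      intro z
      let B := Localization.Away x
      haveI : IsNoetherianRing B := IsLocalization.isNoetherianRing (Submonoid.powers x) B inferInstance
      haveI : Module.Flat R B := IsLocalization.flat B (Submonoid.powers x)
      obtain ⟨e⟩ := exists_baseChange B (a ⊔ Ideal.span (t : Set R)) M n
      haveI := subsingleton_of_supportDim_lt ((a ⊔ Ideal.span (t : Set R)).map (algebraMap R B))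
        (B ⊗[R] M) n (supportDim_away_lt M hsub.1 hn)
      haveI : Subsingleton (LocalizedModule (Submonoid.powers x)
          ((localCohomology (a ⊔ Ideal.span (t : Set R)) n).obj (ModuleCat.of R M) : Type u)) :=
        ((LocalizedModule.equivTensorProduct (Submonoid.powers x) _).trans e).injective.subsingleton
      obtain ⟨r, ⟨k, rfl⟩, hk⟩ := LocalizedModule.subsingleton_iff.mp this z
      exact ⟨k, hk⟩
    obtain ⟨f, hf⟩ := exists_surjective_of_sup_span (a ⊔ Ideal.span (t : Set R)) x n
      (ModuleCat.of R M) hz
    exact hf.subsingleton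

/-- A prime maximal among the non-maximal primes over `I`. -/
theorem exists_prime_quotient_dim_one (I : Ideal R) (hI : 0 < ringKrullDim (R ⧸ I)) :
    ∃ p : Ideal R, p.IsPrime ∧ I ≤ p ∧ ringKrullDim (R ⧸ p) = 1 := by
  let T : Set (Ideal R) := {q | q.IsPrime ∧ I ≤ q ∧ q ≠ maximalIdeal R}
  have hT : T.Nonempty := by
    by_contra hT
    rw [ringKrullDim_quotient] at hI
    haveI : Subsingleton (PrimeSpectrum.zeroLocus (I : Set R)) := ⟨fun x y => by
      have hm : ∀ z : PrimeSpectrum.zeroLocus (I : Set R), z.1.asIdeal = maximalIdeal R := fun z => by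
        by_contra hz
        exact hT ⟨_, z.1.2, z.2, hz⟩
      exact Subtype.ext (PrimeSpectrum.ext ((hm x).trans (hm y).symm))⟩
    exact absurd hI (not_lt.mpr Order.krullDim_nonpos_of_subsingleton)
  obtain ⟨p, ⟨hp, hIp, hpm⟩, hmax⟩ := set_has_maximal_iff_noetherian.mpr ‹_› T hT
  refine ⟨p, hp, hIp, le_antisymm ?_ ?_⟩
  · rw [ringKrullDim_quotient, Order.krullDim_le_one_iff]
    intro z
    by_cases hz : z.1.asIdeal = maximalIdeal R
    · exact Or.inr fun w _ => (le_maximalIdeal w.1.2.ne_top).trans_eq hz.symm
    · refine Or.inl fun w hw => ?_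
      have hzp : z.1.asIdeal = p := by
        by_contra hne
        exact hmax _ ⟨z.1.2, hIp.trans z.2, hz⟩ (lt_of_le_of_ne z.2 (Ne.symm hne))
      exact hzp.trans_le w.2
  · rw [ringKrullDim_quotient]
    let x : PrimeSpectrum.zeroLocus (p : Set R) := ⟨⟨p, hp⟩, fun _ h => h⟩
    let y : PrimeSpectrum.zeroLocus (p : Set R) := ⟨closedPoint R, le_maximalIdeal hp.ne_top⟩
    have hxy : x < y := lt_of_le_of_ne (le_maximalIdeal hp.ne_top) fun h =>
      hpm (congrArg (fun z => z.1.asIdeal) h)
    have h1 := Order.LTSeries.length_le_krullDim ((RelSeries.singleton _ x).snoc y hxy)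
    exact_mod_cast h1

end Groth.Agent.LocCohLib
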