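import Mathlib
import Groth.Agent.LocCohLib.MaxIdeal
import Groth.Agent.LocCohLib.LocallyFree

/-! Annihilators of local cohomology pass from `R` to modules which are projective away from `V(I)`. -/

open CategoryTheory Limits

namespace Groth.Agent.LocCohLib

universe u

variable {R : Type u} [CommRing R] [IsNoetherianRing R]

theorem exists_pow_factor_through_free (M : Type u) [AddCommGroup M] [Module R M] [Module.Finite R M]
    (f : R) (hp : Module.Projective (Localization.Away f) (LocalizedModule (Submonoid.powers f) M)) :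
    ∃ (N n : ℕ) (g : (Fin n → R) →ₗ[R] M) (h : M →ₗ[R] (Fin n → R)), ∀ x, g (h x) = f ^ N • x := by
  let S := Submonoid.powers f
  obtain ⟨n, g, hg⟩ := Module.Finite.exists_fin' R M
  let mkF := LocalizedModule.mkLinearMap S (Fin n → R)
  let mkM := LocalizedModule.mkLinearMap S M
  obtain ⟨σ, hσ⟩ := Module.projective_lifting_property (LocalizedModule.map S g) LinearMap.id
    (LocalizedModule.map_surjective S g hg)
  haveI : Module.FinitePresentation R M := Module.finitePresentation_of_finite R M
  obtain ⟨h, s, hh⟩ := Module.FinitePresentation.exists_lift_of_isLocalizedModule S mkF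
    (σ.restrictScalars R ∘ₗ mkM)
  have hcomp : mkM ∘ₗ (g ∘ₗ h) = mkM ∘ₗ ((s : R) • LinearMap.id) := by
    ext x
    have hx : mkF (h x) = (s : R) • σ (mkM x) := LinearMap.congr_fun hh x
    change mkM (g (h x)) = mkM ((s : R) • x)
    rw [map_smul]
    have := congrArg (LocalizedModule.map S g) hx
    rw [LinearMap.map_smul_of_tower, show (LocalizedModule.map S g) (σ (mkM x)) = mkM x from
      LinearMap.congr_fun hσ (mkM x)] at this
    rw [← this]
    exact (LocalizedModule.map_mk S g (h x) 1).symm
  obtain ⟨t, ht⟩ := Module.Finite.exists_smul_of_comp_eq_of_isLocalizedModule S mkM _ _ hcomp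
  obtain ⟨N, hN⟩ := (t * s).2
  refine ⟨N, n, g, (t : R) • h, fun x => ?_⟩
  rw [LinearMap.smul_apply, map_smul, show f ^ N = (t : R) * s from hN, mul_smul]
  exact LinearMap.congr_fun ht x

/-- If `c` kills `H^i_I(R)` then it kills `H^i_I(R^n)`. -/
theorem smul_H_pi_eq_zero (I : Ideal R) (i : ℕ) (c : R) (hc : ∀ x : LocCoh.H I i R, c • x = 0) (n : ℕ)
    (z : LocCoh.H I i (Fin n → R)) : c • z = 0 := by
  have hdec : 𝟙 (ModuleCat.of R (Fin n → R)) = ∑ k : Fin n,
      ModuleCat.ofHom (LinearMap.proj k : (Fin n → R) →ₗ[R] R) ≫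
        ModuleCat.ofHom (LinearMap.single R (fun _ : Fin n => R) k) := by
    ext x j
    simp
  have := congrArg (fun φ => ((localCohomology I i).map φ).hom z) hdec
  simp only [CategoryTheory.Functor.map_id, CategoryTheory.Functor.map_sum, ModuleCat.hom_id,
    LinearMap.id_coe, id_eq, ModuleCat.hom_sum, LinearMap.coe_sum, Finset.sum_apply,
    CategoryTheory.Functor.map_comp, ModuleCat.hom_comp, LinearMap.coe_comp, Function.comp_apply] at this
  rw [this, Finset.smul_sum]
  refine Finset.sum_eq_zero fun k _ => ?_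
  rw [← map_smul]
  exact (congrArg _ (hc _)).trans (map_zero _)

/-- If `c` kills `H^i_I(R)` and `M_f` is projective then `c * f ^ N` kills `H^i_I(M)`, with `N` independent of
`c` and `i`. -/
theorem exists_pow_mul_smul_eq_zero (I : Ideal R) (M : Type u) [AddCommGroup M] [Module R M] [Module.Finite R M]
    (f : R) (hp : Module.Projective (Localization.Away f) (LocalizedModule (Submonoid.powers f) M)) :
    ∃ N : ℕ, ∀ (i : ℕ) (c : R), (∀ x : LocCoh.H I i R, c • x = 0) →
      ∀ x : LocCoh.H I i M, (c * f ^ N) • x = 0 := by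
  obtain ⟨N, n, g, h, hgh⟩ := exists_pow_factor_through_free M f hp
  refine ⟨N, fun i c hc x => ?_⟩
  rw [mul_smul, ← map_smul_id I i (ModuleCat.of R M) (f ^ N) x,
    show f ^ N • 𝟙 (ModuleCat.of R M) = ModuleCat.ofHom h ≫ ModuleCat.ofHom g from by
      ext y; exact (hgh y).symm, CategoryTheory.Functor.map_comp, ModuleCat.hom_comp, LinearMap.comp_apply, ← map_smul]
  exact (congrArg _ (smul_H_pi_eq_zero I i c hc n _)).trans (map_zero _)

end Groth.Agent.LocCohLib
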